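import Cfsg.Agent.Lib.Suzuki.Classify

/-! Transitive actions of the Suzuki group of fixity two. -/

set_option autoImplicit false
set_option linter.unusedSectionVars false
set_option linter.deprecated false
set_option linter.unusedSimpArgs false

namespace Cfsg.Agent.Lib.Suzuki.Fixity

open Cfsg.Agent.Lib.Suzuki.Basic Cfsg.Agent.Lib.Suzuki.Group Cfsg.Agent.Lib.Suzuki.Struct
  Cfsg.Agent.Lib.Suzuki.Order Cfsg.Agent.Lib.Suzuki.Zass Cfsg.Agent.Lib.Suzuki.Sub
  Cfsg.Agent.Lib.Suzuki.Syl Cfsg.Agent.Lib.Suzuki.Gen Cfsg.Agent.Lib.Suzuki.Fix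
  Cfsg.Agent.Lib.Suzuki.Cent Cfsg.Agent.Lib.Suzuki.Types Cfsg.Agent.Lib.Suzuki.Tori1
  Cfsg.Agent.Lib.Suzuki.Tori2 Cfsg.Agent.Lib.Suzuki.Tori3 Cfsg.Agent.Lib.Suzuki.Part
  Cfsg.Agent.Lib.Suzuki.SubAbs Cfsg.Agent.Lib.Suzuki.SubG Cfsg.Agent.Lib.Suzuki.SubOdd
  Cfsg.Agent.Lib.Suzuki.SubMain Cfsg.Agent.Lib.Suzuki.SubEmb Cfsg.Agent.Lib.Suzuki.Classify
open scoped Pointwise BigOperators commutatorElement

section abstract

variable {Γ Ω : Type*} [Group Γ] [Finite Γ] [MulAction Γ Ω] [Finite Ω]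

/-- The fundamental index bound: a subgroup normalising a subgroup `B` of the stabiliser of `α` moves
`α` inside the fixed points of `B`. -/
theorem idx_le (α : Ω) (K B : Subgroup Γ) (hB : ∀ b ∈ B, b • α = α) {b₀ : Γ} (hb₀ : b₀ ∈ B)
    (hfix : Nat.card (MulAction.fixedBy Ω b₀) ≤ 2)
    (hKB : K ≤ Subgroup.normalizer (B : Set Γ)) :
    Nat.card K ≤ 2 * Nat.card (K ⊓ MulAction.stabilizer Γ α : Subgroup Γ) := by
  have h1 := Subgroup.card_mul_index (MulAction.stabilizer K α)
  rw [MulAction.index_stabilizer] at h1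
  have h2 : MulAction.orbit K α ⊆ MulAction.fixedBy Ω b₀ := by
    rintro _ ⟨k, rfl⟩
    have hk := (Subgroup.mem_normalizer_iff.mp (hKB (K.inv_mem k.2)) b₀).mp hb₀
    rw [inv_inv] at hk
    have h3 := hB _ hk
    change b₀ • (k.1 • α) = k.1 • α
    have h4 : b₀ • (k.1 • α) = k.1 • ((k.1⁻¹ * b₀ * k.1) • α) := by
      simp only [mul_smul, smul_inv_smul]
    rw [h4, h3]
  have h3 : (MulAction.orbit K α).ncard ≤ 2 := by
    refine le_trans (Set.ncard_le_ncard h2 (Set.toFinite _)) ?_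
    rw [← Nat.card_coe_set_eq]
    exact hfix
  have h4 : Nat.card (MulAction.stabilizer K α) = Nat.card (K ⊓ MulAction.stabilizer Γ α : Subgroup Γ) := by
    apply Nat.card_congr
    exact
      { toFun := fun y => ⟨y.1.1, y.1.2, y.2⟩
        invFun := fun y => ⟨⟨y.1, y.2.1⟩, y.2.2⟩
        left_inv := fun y => rfl
        right_inv := fun y => rfl }
  rw [← h1, h4, mul_comm]
  exact Nat.mul_le_mul_right _ h3

/-- A subgroup of index at most two contains all squares. -/
theorem sq_mem_of_card_le {A : Type*} [Group A] [Finite A] (B : Subgroup A)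
    (hc : Nat.card A ≤ 2 * Nat.card B) (a : A) : a ^ 2 ∈ B := by
  have h1 := Subgroup.card_mul_index B
  have hpos : 0 < Nat.card B := Nat.card_pos
  have hA : 0 < Nat.card A := Nat.card_pos
  have hidx : B.index ≤ 2 := by
    rw [← h1, mul_comm 2] at hc
    exact Nat.le_of_mul_le_mul_left hc hpos
  have h0 : B.index ≠ 0 := by
    intro h0
    rw [h0, mul_zero] at h1
    omega
  have hcases : B.index = 1 ∨ B.index = 2 := by omega
  rcases hcases with h2 | h2
  · rw [Subgroup.index_eq_one] at h2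
    rw [h2]
    exact Subgroup.mem_top _
  · exact Subgroup.sq_mem_of_index_two h2 a

/-- A normal subgroup of index dividing four contains all fourth powers. -/
theorem pow_four_mem_of_index_dvd {A : Type*} [Group A] (B : Subgroup A) [B.Normal] (hd : B.index ∣ 4) (a : A) :
    a ^ 4 ∈ B := by
  obtain ⟨d, hd⟩ := hd
  rw [hd, pow_mul]
  exact B.pow_mem (Subgroup.pow_index_mem B a) d

omit [Finite Γ] [Finite Ω] in
/-- The cardinality of `subgroupOf`. -/
theorem card_subgroupOf_eq (K H : Subgroup Γ) :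
    Nat.card (H.subgroupOf K) = Nat.card (K ⊓ H : Subgroup Γ) := by
  apply Nat.card_congr
  exact
    { toFun := fun y => ⟨y.1.1, y.1.2, Subgroup.mem_subgroupOf.mp y.2⟩
      invFun := fun y => ⟨⟨y.1, y.2.1⟩, Subgroup.mem_subgroupOf.mpr y.2.2⟩
      left_inv := fun y => rfl
      right_inv := fun y => rfl }

/-- A subgroup centralising `z` normalises `⟨z⟩`. -/
theorem le_normalizer_zpowers {K : Subgroup Γ} {z : Γ} (hK : ∀ y ∈ K, y * z = z * y) :
    K ≤ Subgroup.normalizer ((Subgroup.zpowers z : Subgroup Γ) : Set Γ) := by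
  intro y hy
  rw [Subgroup.mem_normalizer_iff]
  intro n
  have hcomm : ∀ n ∈ Subgroup.zpowers z, y * n * y⁻¹ = n := by
    rintro _ ⟨i, rfl⟩
    have h1 : Commute y z := hK y hy
    have h2 : Commute y (z ^ i) := h1.zpow_right i
    change y * z ^ i * y⁻¹ = z ^ i
    rw [h2.eq]
    group
  constructor
  · intro hn
    rw [hcomm n hn]
    exact hn
  · intro hn
    have h1 := hcomm _ hn
    have h2 : n = y * n * y⁻¹ := by
      have h3 : y⁻¹ * (y * (y * n * y⁻¹) * y⁻¹) * y = y⁻¹ * (y * n * y⁻¹) * y := by rw [h1]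
      simpa [mul_assoc] using h3.symm
    rw [h2]
    exact hn

end abstract

variable {F : Type*} [Field F] [Fintype F] {m : ℕ} (h : Hyp F m)
include h

/-- The partition member through an element is its centraliser. -/
theorem eq_cent {X : Subgroup (G F m)} (hc : IsCyclic X) (hcard : Nat.card X ∈ cards m) {g : G F m}
    (hg : g ∈ X) (hg1 : g ≠ 1) : X = cent g := by
  have hog : Odd (orderOf g) :=
    (cards_odd h.hm hcard).1.of_dvd_nat (Subgroup.orderOf_dvd_natCard X hg)
  obtain ⟨hcyc, hcard'⟩ := odd_cent h hg1 hog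
  exact part_unique h hg1 _ _ (Or.inr ⟨hc, hcard⟩) (Or.inr ⟨hcyc, hcard'⟩) hg (mem_cent_self h g)

/-- The normaliser of a conjugate of `D`. -/
theorem card_normalizer_D (y : G F m) :
    Nat.card (Subgroup.normalizer (((Dsub h).map (MulAut.conj y).toMonoidHom : Subgroup (G F m)) : Set (G F m))) ≤
      2 * Nat.card ((Dsub h).map (MulAut.conj y).toMonoidHom) := by
  have : Finite (G F m) := finite_G
  have : Finite (Om F m) := Nat.finite_of_card_ne_zero (by rw [card_Om]; omega)
  set X := (Dsub h).map (MulAut.conj y).toMonoidHom with hX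
  -- a nontrivial element of `D`
  obtain ⟨k, hk⟩ : ∃ k : Fˣ, k ≠ 1 := exists_unit_ne_one h
  set g : G F m := y * Dg h k * y⁻¹ with hg
  have hgX : g ∈ X := conj_mem_map h ⟨k, rfl⟩
  have hg1 : g ≠ 1 := by
    intro hc
    apply hk
    apply Dg_inj h
    have : Dg h k = y⁻¹ * g * y := by rw [hg]; group
    rw [this, hc, Dg_one h]
    group
  have hXfix : ∀ b ∈ X, b • (y • (oI : Om F m)) = y • oI := by
    rintro _ ⟨_, ⟨u, rfl⟩, rfl⟩
    change (y * Dg h u * y⁻¹) • (y • (oI : Om F m)) = y • oI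
    exact conj_fix (Dg_oI h u)
  have hXfix0 : ∀ b ∈ X, b • (y • (oA 0 0 : Om F m)) = y • oA 0 0 := by
    rintro _ ⟨_, ⟨u, rfl⟩, rfl⟩
    change (y * Dg h u * y⁻¹) • (y • (oA 0 0 : Om F m)) = y • oA 0 0
    have h1 : Dg h u • (oA 0 0 : Om F m) = oA 0 0 := by
      rw [Dg_oA h]
      simp
    exact conj_fix h1
  have h1 := idx_le (y • (oI : Om F m)) (Subgroup.normalizer (X : Set (G F m))) X hXfix hgX (fixed_le_two h hg1) le_rfl
  refine h1.trans (Nat.mul_le_mul_left _ (Nat.card_mono (Set.toFinite _) ?_))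
  rintro n ⟨hn1, hn2⟩
  have hn2' : n • (y • (oI : Om F m)) = y • oI := MulAction.mem_stabilizer_iff.mp hn2
  -- `n` fixes the other fixed point
  have h2 : g • (n • (y • (oA 0 0 : Om F m))) = n • (y • (oA 0 0 : Om F m)) := by
    have h3 := (Subgroup.mem_normalizer_iff.mp (Subgroup.normalizer (X : Set (G F m))|>.inv_mem hn1) g).mp hgX
    rw [inv_inv] at h3
    have h4 := hXfix0 _ h3
    calc g • (n • (y • (oA 0 0 : Om F m))) = n • ((n⁻¹ * g * n) • (y • (oA 0 0 : Om F m))) := by
          simp only [mul_smul, smul_inv_smul]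
      _ = _ := by rw [h4]
  have hne : y • (oI : Om F m) ≠ y • oA 0 0 := fun he => oI_ne_zero h (smul_left_cancel _ he)
  have h5 : n • (y • (oA 0 0 : Om F m)) = y • oA 0 0 := by
    by_contra hne2
    have hne3 : y • (oI : Om F m) ≠ n • (y • (oA 0 0 : Om F m)) := by
      intro he
      rw [← hn2'] at he
      exact hne (smul_left_cancel _ he)
    exact hg1 (eq_one_of_fix_three h g hne (Ne.symm hne2) hne3 (hXfix g hgX) (hXfix0 g hgX) h2)
  -- hence `n ∈ X`
  have h6 : (y⁻¹ * n * y) • (oI : Om F m) = oI := by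
    rw [mul_smul, mul_smul, hn2', inv_smul_smul]
  have h7 : (y⁻¹ * n * y) • (oA 0 0 : Om F m) = oA 0 0 := by
    rw [mul_smul, mul_smul, h5, inv_smul_smul]
  obtain ⟨u, hu⟩ := eq_Dg_of_fix h _ h6 h7
  exact (mem_map_conj h).mpr ⟨u, hu⟩

/-- The normaliser of a member of the partition. -/
theorem card_normalizer_X {X : Subgroup (G F m)} (hc : IsCyclic X) (hcard : Nat.card X ∈ cards m) :
    Nat.card (Subgroup.normalizer (X : Set (G F m))) ≤ 4 * Nat.card X := by
  have : Finite (G F m) := finite_G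
  obtain ⟨hodd, h1⟩ := cards_odd h.hm hcard
  have hnt : Nontrivial X := Finite.one_lt_card_iff_nontrivial.mp h1
  obtain ⟨g, hg⟩ := exists_ne (1 : X)
  have hg1 : (g : G F m) ≠ 1 := fun hc => hg (Subtype.ext hc)
  have hX := eq_cent h hc hcard g.2 hg1
  have hog : Odd (orderOf (g : G F m)) := hodd.of_dvd_nat (Subgroup.orderOf_dvd_natCard X g.2)
  rcases trichotomy h hg1 with ⟨x, a, b, hne, he⟩ | ⟨x, k, hk, he⟩ | hf
  · exfalso
    have h4 : ((g : G F m)) ^ 4 = 1 := by
      rw [he]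
      exact conj_U_pow_four h ⟨a, b, rfl⟩
    have h5 := orderOf_dvd_of_pow_eq_one h4
    have h6 := Nat.Coprime.eq_one_of_dvd (coprime_four_of_odd hog) h5
    rw [orderOf_eq_one_iff] at h6
    exact hg1 h6
  · have hle := cent_conj_Dg_le h (x := x) hk
    have hge : (Dsub h).map (MulAut.conj x).toMonoidHom ≤ cent (x * Dg h k * x⁻¹) :=
      le_cent_of_cyclic h (cyclic_map_conj h (Dsub h) x) (conj_mem_map h ⟨k, rfl⟩)
    rw [← he] at hle hge
    have hX' : X = (Dsub h).map (MulAut.conj x).toMonoidHom := hX.trans (le_antisymm hle hge)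
    rw [hX']
    have := card_normalizer_D h x
    omega
  · rw [hX]
    exact card_normalizer_le h hf

/-- All tori have index four in their normaliser. -/
theorem tor_normalizer (A : Tor F m) :
    Nat.card (Subgroup.normalizer ((A.1 : Subgroup (G F m)) : Set (G F m))) = 4 * Nat.card A.1 := by
  have key : ∀ (B : Tor F m) (x : G F m),
      Nat.card (Subgroup.normalizer ((B.1 : Subgroup (G F m)) : Set (G F m))) = 4 * Nat.card B.1 →
      Nat.card (Subgroup.normalizer (((x • B : Tor F m).1 : Subgroup (G F m)) : Set (G F m))) =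
        4 * Nat.card (x • B : Tor F m).1 := by
    intro B x hB
    rw [card_smul, ← hB, coe_smul, ← Subgroup.map_equiv_normalizer_eq]
    exact Nat.card_congr ((MulAut.conj x).subgroupMap _).symm.toEquiv
  obtain ⟨A₁, A₂, hall, h1, h2, -, -⟩ := tori_main h
  rcases hall A with ⟨x, rfl⟩ | ⟨x, rfl⟩
  · exact key A₁ x h1
  · exact key A₂ x h2

/-- A 2-subgroup in the normaliser of a member of the partition has order at most 4. -/
theorem card_two_le {X T : Subgroup (G F m)} (hc : IsCyclic X) (hcard : Nat.card X ∈ cards m)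
    (hT4 : ∀ t ∈ T, t ^ 4 = 1) (hTN : T ≤ Subgroup.normalizer (X : Set (G F m))) : Nat.card T ≤ 4 := by
  have : Finite (G F m) := finite_G
  have hN := card_normalizer_X h hc hcard
  have hodd := (cards_odd h.hm hcard).1
  have hXN : X ≤ Subgroup.normalizer (X : Set (G F m)) := Subgroup.le_normalizer
  let f : T × X → Subgroup.normalizer (X : Set (G F m)) :=
    fun p => ⟨p.1.1 * p.2.1, Subgroup.mul_mem _ (hTN p.1.2) (hXN p.2.2)⟩
  have hinj : Function.Injective f := by
    rintro ⟨t, x⟩ ⟨t', x'⟩ he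
    have he' : t.1 * x.1 = t'.1 * x'.1 := congrArg Subtype.val he
    have h1 : t'.1⁻¹ * t.1 = x'.1 * x.1⁻¹ := by
      calc t'.1⁻¹ * t.1 = t'.1⁻¹ * (t.1 * x.1) * x.1⁻¹ := by group
        _ = t'.1⁻¹ * (t'.1 * x'.1) * x.1⁻¹ := by rw [he']
        _ = _ := by group
    have h2 : (t'.1⁻¹ * t.1) ^ 4 = 1 := hT4 _ (T.mul_mem (T.inv_mem t'.2) t.2)
    have h3 : orderOf (t'.1⁻¹ * t.1) ∣ Nat.card X := by
      rw [h1]
      exact Subgroup.orderOf_dvd_natCard X (X.mul_mem x'.2 (X.inv_mem x.2))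
    have h4 : Odd (orderOf (t'.1⁻¹ * t.1)) := hodd.of_dvd_nat h3
    have h5 := Nat.Coprime.eq_one_of_dvd (coprime_four_of_odd h4) (orderOf_dvd_of_pow_eq_one h2)
    rw [orderOf_eq_one_iff] at h5
    have h6 : t.1 = t'.1 := by
      have : t.1 = t'.1 * (t'.1⁻¹ * t.1) := by group
      rw [this, h5, mul_one]
    have h7 : x.1 = x'.1 := by
      rw [h6] at he'
      exact mul_left_cancel he'
    exact Prod.ext (Subtype.ext h6) (Subtype.ext h7)
  have h1 := Nat.card_le_card_of_injective f hinj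
  rw [Nat.card_prod] at h1
  have hpos : 0 < Nat.card X := Nat.card_pos
  have h2 : Nat.card T * Nat.card X ≤ 4 * Nat.card X := h1.trans hN
  exact Nat.le_of_mul_le_mul_right h2 hpos

/-- The arithmetic of 2-subgroups of a smaller Suzuki group. -/
theorem card_two_le_S {K : Type*} [Field K] [Fintype K] {k : ℕ} (hK : Hyp K k) {S T : Subgroup (G F m)}
    (e : S ≃* G K k) (hTS : T ≤ S) (hT : Nat.card T ∣ (2 ^ (2 * m + 1)) ^ 2) :
    Nat.card T ≤ (2 ^ (2 * k + 1)) ^ 2 := by
  have : Finite (G F m) := finite_G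
  have h1 : Nat.card T ∣ Nat.card S := Subgroup.card_dvd_of_le hTS
  rw [Nat.card_congr e.toEquiv, card_G_eq hK] at h1
  rw [← pow_mul] at hT
  obtain ⟨a, -, ha⟩ := (Nat.dvd_prime_pow Nat.prime_two).mp hT
  rw [ha] at h1 ⊢
  have hodd1 : Odd ((2 ^ (2 * k + 1)) ^ 2 + 1) := Arith.odd_sq_add_one k
  have hodd2 : Odd (2 ^ (2 * k + 1) - 1) := (nums hK.hm).codd
  have hcop : Nat.Coprime (2 ^ a) (((2 ^ (2 * k + 1)) ^ 2 + 1) * (2 ^ (2 * k + 1) - 1)) :=
    Nat.Coprime.pow_left a (Nat.coprime_two_left.mpr (hodd1.mul hodd2))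
  rw [mul_assoc] at h1
  exact Nat.le_of_dvd (by positivity) (hcop.dvd_of_dvd_mul_right h1)

/-- The Borel subgroup normalises `Z`. -/
theorem Bor_le_normalizer_Z : Bor F m ≤ Subgroup.normalizer ((Zsub h : Subgroup (G F m)) : Set (G F m)) := by
  have key : ∀ y ∈ Bor F m, ∀ n ∈ Zsub h, y * n * y⁻¹ ∈ Zsub h := by
    intro y hy n hn
    obtain ⟨a, b, k, rfl⟩ := stab_oI h y (MulAction.mem_stabilizer_iff.mp hy)
    obtain ⟨d, rfl⟩ := hn
    rw [conj_Bor_Lg h, mul_zero]
    exact ⟨_, rfl⟩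
  intro y hy
  rw [Subgroup.mem_normalizer_iff]
  intro n
  constructor
  · exact key y hy n
  · intro hn
    have := key _ ((Bor F m).inv_mem hy) _ hn
    simpa [mul_assoc] using this


/-- A subgroup of odd order in the normaliser of a partition member lies in it. -/
theorem le_of_le_normalizer_odd {X H : Subgroup (G F m)} (hc : IsCyclic X) (hcard : Nat.card X ∈ cards m)
    (hHX : H ≤ Subgroup.normalizer (X : Set (G F m))) (hodd : Odd (Nat.card H)) : H ≤ X := by
  have : Finite (G F m) := finite_G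
  have hN := card_normalizer_X h hc hcard
  set N := Subgroup.normalizer (X : Set (G F m)) with hNdef
  have hXN : X ≤ N := Subgroup.le_normalizer
  let X' := X.subgroupOf N
  have hnorm : X'.Normal := Subgroup.normal_in_normalizer
  have h1 : X'.index * Nat.card X' = Nat.card N := Subgroup.index_mul_card X'
  have h2 : Nat.card X' = Nat.card X := Nat.card_congr (Subgroup.subgroupOfEquivOfLe hXN).toEquiv
  have hXpos : 0 < Nat.card X := Nat.card_pos
  have hNpos : 0 < Nat.card N := Nat.card_pos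
  rw [h2] at h1
  have h3 : X'.index ≤ 4 := by
    have h4 : X'.index * Nat.card X ≤ 4 * Nat.card X := h1.le.trans hN
    exact Nat.le_of_mul_le_mul_right h4 hXpos
  have h4 : X'.index ≠ 3 := by
    intro he
    have h5 : 3 ∣ Nat.card N := ⟨Nat.card X, by rw [← h1, he]⟩
    have h6 : Nat.card N ∣ Nat.card (G F m) := Subgroup.card_subgroup_dvd_card N
    rw [card_G h, h.hF] at h6
    exact Arith.three_not_dvd_card m (h5.trans h6)
  have h5 : X'.index ≠ 0 := by
    intro he
    rw [he, zero_mul] at h1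
    omega
  have h6 : X'.index ∣ 4 := by
    have h7 : X'.index = 1 ∨ X'.index = 2 ∨ X'.index = 4 := by omega
    rcases h7 with h7 | h7 | h7 <;> rw [h7] <;> norm_num
  intro y hy
  have h8 : (⟨y, hHX hy⟩ : N) ^ 4 ∈ X' := pow_four_mem_of_index_dvd X' h6 _
  have h9 : y ^ 4 ∈ X := Subgroup.mem_subgroupOf.mp h8
  have hog : Odd (orderOf y) := hodd.of_dvd_nat (Subgroup.orderOf_dvd_natCard H hy)
  obtain ⟨j, hj⟩ := exists_pow_eq_self_of_coprime (x := y) (n := 4) (Nat.Coprime.symm (coprime_four_of_odd hog))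
  rw [← hj]
  exact X.pow_mem h9 j

section action

variable {Ω : Type*} [MulAction (G F m) Ω] [Finite Ω]
  (hfix : ∀ g : G F m, g ≠ 1 → Nat.card (MulAction.fixedBy Ω g) ≤ 2)
include hfix

/-- The part of the stabiliser in `U` is large, once an involution of `U` fixes the point. -/
theorem U_large {α : Ω} {b : F} (hb : b ≠ 0) (hz : Lg h 0 b • α = α) :
    Nat.card (Usub h) ≤ 2 * Nat.card (Usub h ⊓ MulAction.stabilizer (G F m) α : Subgroup (G F m)) := by
  have : Finite (G F m) := finite_G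
  have hzS : Lg h 0 b ∈ MulAction.stabilizer (G F m) α := hz
  have hle := Subgroup.zpowers_le.mpr hzS
  have hz1 : Lg h 0 b ≠ 1 := (isInv_Lg_zero h hb).1
  refine idx_le α (Usub h) (Subgroup.zpowers (Lg h 0 b)) (fun y hy => hle hy) (Subgroup.mem_zpowers _)
    (hfix _ hz1) (le_normalizer_zpowers ?_)
  rintro _ ⟨c, d, rfl⟩
  exact (Lg_zero_comm h b c d).symm

/-- An element of the stabiliser with an involution of `U` lies in the Borel subgroup. -/
theorem stab_le_Bor {α : Ω} {b : F} (hb : b ≠ 0) (hz : Lg h 0 b • α = α)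
    (hH : MulAction.stabilizer (G F m) α ≠ ⊤) : MulAction.stabilizer (G F m) α ≤ Bor F m := by
  have : Finite (G F m) := finite_G
  have hlarge := U_large h hfix hb hz
  rw [card_Usub h, h.hF] at hlarge
  set H := MulAction.stabilizer (G F m) α with hHdef
  have hTU : Usub h ⊓ H ≤ Usub h := inf_le_left
  have hT4 : ∀ t ∈ Usub h ⊓ H, t ^ 4 = 1 := by
    rintro t ⟨⟨c, d, rfl⟩, -⟩
    exact Lg_pow_four h c d
  rcases classify h H hH with ⟨P, hP⟩ | ⟨X, hc, hcard, hX⟩ | ⟨K, _, _, k, hk, hkm, hcK, -, S, ⟨e⟩, hS⟩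
  · obtain ⟨y, hy⟩ := exists_conj h P
    rw [hy, ← Uw_eq h (x := y) rfl, normalizer_Uw h] at hP
    have hzH : Lg h 0 b ∈ H := hz
    have h1 : Lg h 0 b • (y • (oI : Om F m)) = y • oI := MulAction.mem_stabilizer_iff.mp (hP hzH)
    have h2 : y • (oI : Om F m) = oI := Lg_fix_eq h (Or.inr hb) h1
    rw [h2] at hP
    exact hP
  · exfalso
    have h1 := card_two_le h hc hcard hT4 (inf_le_right.trans hX)
    have h2 : (2 ^ (2 * m + 1)) ^ 2 ≤ 8 := by omega
    have h3 : 8 ≤ 2 ^ (2 * m + 1) := (nums h.hm) |> fun _ => by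
      calc 8 = 2 ^ 3 := rfl
        _ ≤ 2 ^ (2 * m + 1) := Nat.pow_le_pow_right (by norm_num) (by have := h.hm; omega)
    nlinarith
  · exfalso
    have hK : Hyp K k := ⟨hk, hcK⟩
    have hd : Nat.card (Usub h ⊓ H : Subgroup (G F m)) ∣ (2 ^ (2 * m + 1)) ^ 2 := by
      have := Subgroup.card_dvd_of_le hTU
      rwa [card_Usub h, h.hF] at this
    have h1 := card_two_le_S h hK e (inf_le_right.trans hS) hd
    have h2 : (2 ^ (2 * m + 1)) ^ 2 ≤ 2 * (2 ^ (2 * k + 1)) ^ 2 := by omega
    have h3 : (2 : ℕ) ^ (4 * m + 2) ≤ 2 ^ (4 * k + 3) := by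
      calc (2 : ℕ) ^ (4 * m + 2) = (2 ^ (2 * m + 1)) ^ 2 := by ring
        _ ≤ 2 * (2 ^ (2 * k + 1)) ^ 2 := h2
        _ = _ := by ring
    have h4 := (Nat.pow_le_pow_iff_right (by norm_num)).mp h3
    omega

/-- The stabiliser of a point fixed by an involution `L(0,b)` is the Borel subgroup. -/
theorem stab_eq_Bor {α : Ω} {b : F} (hb : b ≠ 0) (hz : Lg h 0 b • α = α)
    (hH : MulAction.stabilizer (G F m) α ≠ ⊤) : MulAction.stabilizer (G F m) α = Bor F m := by
  have : Finite (G F m) := finite_G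
  have hlarge := U_large h hfix hb hz
  have hle := stab_le_Bor h hfix hb hz hH
  set H := MulAction.stabilizer (G F m) α with hHdef
  -- `Z ≤ H`
  have hZ : ∀ c : F, Lg h 0 c ∈ H := by
    intro c
    obtain ⟨a, ha⟩ := (pow_sg_mul_self_bij h).2 c
    have h1 : Nat.card (Usub h) ≤ 2 * Nat.card (H.subgroupOf (Usub h)) := by
      rw [card_subgroupOf_eq]
      exact hlarge
    have h2 := sq_mem_of_card_le (H.subgroupOf (Usub h)) h1 ⟨Lg h a 0, a, 0, rfl⟩
    rw [Subgroup.mem_subgroupOf] at h2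
    have h3 : (((⟨Lg h a 0, a, 0, rfl⟩ : Usub h) ^ 2 : Usub h) : G F m) = Lg h 0 c := by
      rw [pow_two]
      exact (Lg_sq h a 0).trans (by rw [← ha])
    rwa [h3] at h2
  -- `|Bor| ≤ 2|H|`
  have hBH : Nat.card (Bor F m) ≤ 2 * Nat.card H := by
    have hZfix : ∀ y ∈ Zsub h, y • α = α := by
      rintro _ ⟨c, rfl⟩
      exact hZ c
    have h1 := idx_le α (Bor F m) (Zsub h) hZfix (⟨b, rfl⟩ : Lg h 0 b ∈ Zsub h)
      (hfix _ (isInv_Lg_zero h hb).1) (Bor_le_normalizer_Z h)
    rwa [show (Bor F m ⊓ MulAction.stabilizer (G F m) α : Subgroup (G F m)) = H from inf_eq_right.mpr hle] at h1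
  -- `D ≤ H`
  have hD : ∀ k : Fˣ, Dg h k ∈ H := by
    intro k
    have h1 : Nat.card (Bor F m) ≤ 2 * Nat.card (H.subgroupOf (Bor F m)) := by
      rw [card_subgroupOf_eq, inf_eq_right.mpr hle]
      exact hBH
    set k' : Fˣ := k ^ (2 ^ (2 * m)) with hk'
    have hk2 : k' * k' = k := by
      apply Units.ext
      have : ((k' * k' : Fˣ) : F) = (k : F) ^ Fintype.card F := by
        rw [h.hF, hk', Units.val_mul, Units.val_pow_eq_pow_val, ← pow_add]
        congr 1
        ring
      rw [this, FiniteField.pow_card]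
    have h2 := sq_mem_of_card_le (H.subgroupOf (Bor F m)) h1 ⟨Dg h k', Dg_oI h k'⟩
    rw [Subgroup.mem_subgroupOf] at h2
    have h3 : (((⟨Dg h k', Dg_oI h k'⟩ : Bor F m) ^ 2 : Bor F m) : G F m) = Dg h k := by
      rw [pow_two]
      change Dg h k' * Dg h k' = Dg h k
      rw [Dg_mul h, hk2]
    rwa [h3] at h2
  -- an element with `a ≠ 0`
  have hex : ∃ a b' : F, a ≠ 0 ∧ Lg h a b' ∈ H := by
    by_contra hc
    push Not at hc
    have h1 : (Usub h ⊓ H : Subgroup (G F m)) ≤ Zsub h := by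
      rintro _ ⟨⟨a, b', rfl⟩, h2⟩
      have h3 : a = 0 := by
        by_contra ha
        exact hc a b' ha h2
      subst h3
      exact ⟨b', rfl⟩
    have h2 : Nat.card (Usub h ⊓ H : Subgroup (G F m)) ≤ Fintype.card F := by
      rw [← card_Zsub h]
      exact Nat.card_mono (Set.toFinite _) h1
    rw [card_Usub h] at hlarge
    have h3 : 8 ≤ Fintype.card F := by
      rw [h.hF]
      calc 8 = 2 ^ 3 := rfl
        _ ≤ 2 ^ (2 * m + 1) := Nat.pow_le_pow_right (by norm_num) (by have := h.hm; omega)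
    nlinarith
  obtain ⟨a, b', ha, hab⟩ := hex
  -- all of `U`
  have hU : ∀ c d : F, Lg h c d ∈ H := by
    intro c d
    by_cases hc : c = 0
    · subst hc
      exact hZ d
    · set k : Fˣ := Units.mk0 (c / a) (div_ne_zero hc ha) with hk
      have h1 : Dg h k * Lg h a b' * (Dg h k)⁻¹ ∈ H :=
        H.mul_mem (H.mul_mem (hD k) hab) (H.inv_mem (hD k))
      rw [Dg_conj_Lg h] at h1
      have h2 : (k : F) * a = c := by
        rw [hk, Units.val_mk0]
        field_simp
      rw [h2] at h1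
      have h3 := H.mul_mem h1 (hZ (d + ((k : F) ^ (2 ^ (m + 1)) * (k : F) * b')))
      rw [Lg_mul h, mul_zero, add_zero, add_zero] at h3
      have h4 : (k : F) ^ (2 ^ (m + 1)) * (k : F) * b' + (d + (k : F) ^ (2 ^ (m + 1)) * (k : F) * b') = d := by
        have := h.add_self ((k : F) ^ (2 ^ (m + 1)) * (k : F) * b')
        linear_combination this
      rwa [h4] at h3
  apply le_antisymm hle
  intro y hy
  obtain ⟨c, d, k, rfl⟩ := stab_oI h y (MulAction.mem_stabilizer_iff.mp hy)
  exact H.mul_mem (hU c d) (hD k)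

/-- A nontrivial point stabiliser of odd order has order `q - 1`. -/
theorem stab_odd {α : Ω} (hne : MulAction.stabilizer (G F m) α ≠ ⊥)
    (hodd : Odd (Nat.card (MulAction.stabilizer (G F m) α))) :
    Nat.card (MulAction.stabilizer (G F m) α) = Fintype.card F - 1 := by
  have : Finite (G F m) := finite_G
  set H := MulAction.stabilizer (G F m) α with hHdef
  obtain ⟨X, hc, hcard, hX⟩ := le_of_odd_normal h hne hodd (M := H) Subgroup.le_normalizer
  have hHX := le_of_le_normalizer_odd h hc hcard hX hodd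
  obtain ⟨g, hgH, hg1⟩ : ∃ g ∈ H, g ≠ 1 := by
    rcases H.bot_or_exists_ne_one with h0 | h0
    · exact absurd h0 hne
    · exact h0
  have hgX : g ∈ X := hHX hgH
  have hXc := eq_cent h hc hcard hgX hg1
  have hXodd := (cards_odd h.hm hcard).1
  -- `|X| ≤ 2|H|`
  have h1 : Nat.card X ≤ 2 * Nat.card H := by
    have hZ : Subgroup.zpowers g ≤ H := Subgroup.zpowers_le.mpr hgH
    have h2 := idx_le α X (Subgroup.zpowers g) (fun y hy => hZ hy) (Subgroup.mem_zpowers g) (hfix g hg1)
      (le_normalizer_zpowers (fun y hy => hc.commutative.is_comm.comm ⟨y, hy⟩ ⟨g, hgX⟩ |> congrArg Subtype.val))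
    rwa [show (X ⊓ MulAction.stabilizer (G F m) α : Subgroup (G F m)) = H from inf_eq_right.mpr hHX] at h2
  -- `H = X`
  have hXH : H = X := by
    apply Subgroup.eq_of_le_of_card_ge hHX
    obtain ⟨c, hc'⟩ := Subgroup.card_dvd_of_le hHX
    have hHpos : 0 < Nat.card H := Nat.card_pos
    have hc2 : c ≤ 2 := by
      rw [hc', mul_comm] at h1
      exact Nat.le_of_mul_le_mul_right h1 hHpos
    have hcodd : Odd c := by
      rw [hc'] at hXodd
      exact (Nat.odd_mul.mp hXodd).2
    have hc1 : c = 1 := by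
      obtain ⟨t, ht⟩ := hcodd
      omega
    rw [hc', hc1, mul_one]
  -- `|N(H)| ≤ 2|H|`
  have h3 : Nat.card (Subgroup.normalizer (H : Set (G F m))) ≤ 2 * Nat.card H := by
    have h2 := idx_le α (Subgroup.normalizer (H : Set (G F m))) H (fun b hb => hb) hgH (hfix g hg1) le_rfl
    rwa [show (Subgroup.normalizer (H : Set (G F m)) ⊓ MulAction.stabilizer (G F m) α : Subgroup (G F m)) = H from
      inf_eq_right.mpr Subgroup.le_normalizer] at h2
  have hog : Odd (orderOf g) := hodd.of_dvd_nat (Subgroup.orderOf_dvd_natCard H hgH)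
  rcases trichotomy h hg1 with ⟨x, a, b, hne', he⟩ | ⟨x, k, hk, he⟩ | hf
  · exfalso
    have h4 : g ^ 4 = 1 := by
      rw [he]
      exact conj_U_pow_four h ⟨a, b, rfl⟩
    have h5 := orderOf_dvd_of_pow_eq_one h4
    have h6 := Nat.Coprime.eq_one_of_dvd (coprime_four_of_odd hog) h5
    rw [orderOf_eq_one_iff] at h6
    exact hg1 h6
  · have hle := cent_conj_Dg_le h (x := x) hk
    have hge : (Dsub h).map (MulAut.conj x).toMonoidHom ≤ cent (x * Dg h k * x⁻¹) :=
      le_cent_of_cyclic h (cyclic_map_conj h (Dsub h) x) (conj_mem_map h ⟨k, rfl⟩)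
    rw [← he] at hle hge
    have hX' : X = (Dsub h).map (MulAut.conj x).toMonoidHom := hXc.trans (le_antisymm hle hge)
    rw [hXH, hX', card_map_conj h, card_Dsub h]
  · exfalso
    have h4 := tor_normalizer h ⟨cent g, g, hf, rfl⟩
    change Nat.card (Subgroup.normalizer ((cent g : Subgroup (G F m)) : Set (G F m))) = 4 * Nat.card (cent g) at h4
    rw [← hXc, ← hXH] at h4
    rw [h4] at h3
    have hHpos : 0 < Nat.card H := Nat.card_pos
    omega

end action

section main

variable {Ω : Type*} [MulAction (G F m) Ω] [Finite Ω]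

/-- A nontrivial faithful transitive action has proper stabilisers. -/
theorem stab_ne_top [FaithfulSMul (G F m) Ω] [MulAction.IsPretransitive (G F m) Ω] (α : Ω) :
    MulAction.stabilizer (G F m) α ≠ ⊤ := by
  intro hc
  have h1 : Lg h 0 1 ≠ 1 := (isInv_Lg_zero h one_ne_zero).1
  apply h1
  apply FaithfulSMul.eq_of_smul_eq_smul (α := Ω)
  intro β
  obtain ⟨y, rfl⟩ := MulAction.exists_smul_eq (G F m) α β
  have h2 : ∀ z : G F m, z • α = α := fun z => by
    have : z ∈ MulAction.stabilizer (G F m) α := by rw [hc]; exact Subgroup.mem_top z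
    exact this
  rw [one_smul, h2, h2]

/-- Two-transitivity from a Borel point stabiliser. -/
theorem two_trans_of_Bor [MulAction.IsPretransitive (G F m) Ω] {α₁ : Ω}
    (hB : MulAction.stabilizer (G F m) α₁ = Bor F m) :
    MulAction.IsMultiplyPretransitive (G F m) Ω 2 := by
  have hfixB : ∀ y ∈ Bor F m, y • α₁ = α₁ := fun y hy => by
    rw [← hB] at hy
    exact hy
  have key : ∀ a b : Ω, a ≠ b → ∃ g : G F m, g • a = α₁ ∧ g • b = Tg h • α₁ := by
    intro a b hab
    obtain ⟨g₁, hg₁⟩ := MulAction.exists_smul_eq (G F m) a α₁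
    obtain ⟨y, hy⟩ := MulAction.exists_smul_eq (G F m) α₁ (g₁ • b)
    have hne : g₁ • b ≠ α₁ := by
      rw [← hg₁]
      exact fun hc => hab (smul_left_cancel _ hc).symm
    rcases bruhat h y with ⟨c, d, k, he⟩ | ⟨c, d, c', d', k, he⟩
    · exfalso
      apply hne
      rw [← hy, he]
      exact hfixB _ (Lg_Dg_mem_Bor h c d k)
    · refine ⟨(Lg h c d)⁻¹ * g₁, ?_, ?_⟩
      · rw [mul_smul, hg₁, inv_smul_eq_iff]
        exact (hfixB _ (MulAction.mem_stabilizer_iff.mpr (Lg_oI h c d))).symm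
      · rw [mul_smul, ← hy, he, mul_smul, mul_smul, inv_smul_smul, hfixB _ (Lg_Dg_mem_Bor h c' d' k)]
  rw [MulAction.is_two_pretransitive_iff]
  intro a b c d hab hcd
  obtain ⟨g₁, h1, h2⟩ := key a b hab
  obtain ⟨g₂, h3, h4⟩ := key c d hcd
  refine ⟨g₂⁻¹ * g₁, ?_, ?_⟩
  · rw [mul_smul, h1, ← h3, inv_smul_smul]
  · rw [mul_smul, h2, ← h4, inv_smul_smul]

/-- The main theorem for the group `G F m` itself. -/
theorem fix_main [FaithfulSMul (G F m) Ω] [MulAction.IsPretransitive (G F m) Ω]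
    (hfix : ∀ g : G F m, g ≠ 1 → Nat.card (MulAction.fixedBy Ω g) ≤ 2)
    (hex : ∃ g : G F m, g ≠ 1 ∧ Nat.card (MulAction.fixedBy Ω g) = 2) :
    (Nat.card Ω = Fintype.card F ^ 2 + 1 ∧ MulAction.IsMultiplyPretransitive (G F m) Ω 2) ∨
    (Nat.card Ω = Fintype.card F ^ 2 * (Fintype.card F ^ 2 + 1) ∧
      ∀ α : Ω, Nat.card (MulAction.stabilizer (G F m) α) = Fintype.card F - 1) := by
  have : Finite (G F m) := finite_G
  have hq : 8 ≤ Fintype.card F := by
    rw [h.hF]
    calc 8 = 2 ^ 3 := rfl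
      _ ≤ 2 ^ (2 * m + 1) := Nat.pow_le_pow_right (by norm_num) (by have := h.hm; omega)
  have hcardG := card_G h
  by_cases hE : ∃ α : Ω, Even (Nat.card (MulAction.stabilizer (G F m) α))
  · left
    obtain ⟨α, hα⟩ := hE
    obtain ⟨z, hz⟩ := exists_prime_orderOf_dvd_card' (G := MulAction.stabilizer (G F m) α) 2 (even_iff_two_dvd.mp hα)
    have hzz : IsInv (z : G F m) := by
      have h0 : orderOf (z : G F m) = 2 := by rw [Subgroup.orderOf_coe]; exact hz
      refine ⟨?_, ?_⟩
      · intro hc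
        rw [hc, orderOf_one] at h0
        omega
      · rw [← pow_two, ← h0]
        exact pow_orderOf_eq_one _
    obtain ⟨w, hw⟩ := inv_exists h hzz
    obtain ⟨b, hb, he⟩ := inv_form h hzz hw (mv_spec h w)
    set x := mv h w with hx
    set α₁ := x⁻¹ • α with hα₁
    have h1 : Lg h 0 b • α₁ = α₁ := by
      have h2 : (z : G F m) • α = α := z.2
      rw [he] at h2
      rw [hα₁]
      calc Lg h 0 b • x⁻¹ • α = x⁻¹ • ((x * Lg h 0 b * x⁻¹) • α) := by
            simp only [mul_smul, inv_smul_smul]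
        _ = _ := by rw [h2]
    have hB := stab_eq_Bor h hfix hb h1 (stab_ne_top h α₁)
    refine ⟨?_, two_trans_of_Bor h hB⟩
    have h2 := Subgroup.index_mul_card (MulAction.stabilizer (G F m) α₁)
    rw [MulAction.index_stabilizer_of_transitive, hB, card_Bor h, hcardG] at h2
    have hpos : 0 < Fintype.card F ^ 2 * (Fintype.card F - 1) :=
      Nat.mul_pos (by positivity) (by omega)
    exact Nat.eq_of_mul_eq_mul_right hpos (h2.trans (by ring))
  · right
    push Not at hE
    obtain ⟨g₀, hg₀, hg₀2⟩ := hex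
    have hne0 : (MulAction.fixedBy Ω g₀).Nonempty := by
      by_contra hc
      rw [Set.not_nonempty_iff_eq_empty] at hc
      rw [hc] at hg₀2
      simp at hg₀2
    obtain ⟨α₀, hα₀⟩ := hne0
    have hall : ∀ α : Ω, Nat.card (MulAction.stabilizer (G F m) α) = Fintype.card F - 1 := by
      intro α
      apply stab_odd h hfix
      · obtain ⟨y, rfl⟩ := MulAction.exists_smul_eq (G F m) α₀ α
        intro hc
        have h1 : y * g₀ * y⁻¹ ∈ MulAction.stabilizer (G F m) (y • α₀) := by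
          rw [MulAction.mem_stabilizer_iff, mul_smul, mul_smul, inv_smul_smul]
          rw [show g₀ • α₀ = α₀ from hα₀]
        rw [hc, Subgroup.mem_bot] at h1
        apply hg₀
        have h2 : g₀ = y⁻¹ * (y * g₀ * y⁻¹) * y := by group
        rw [h2, h1]
        group
      · exact Nat.not_even_iff_odd.mp (hE α)
    refine ⟨?_, hall⟩
    have h2 := Subgroup.index_mul_card (MulAction.stabilizer (G F m) α₀)
    rw [MulAction.index_stabilizer_of_transitive, hall, hcardG] at h2
    have hpos : 0 < Fintype.card F - 1 := by omega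
    exact Nat.eq_of_mul_eq_mul_right hpos h2

end main

end Cfsg.Agent.Lib.Suzuki.Fixity
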