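import Cfsg.Agent.Lib.Suzuki.Solub3

/-! The solubiliser of an involution. -/

set_option autoImplicit false
set_option linter.unusedSectionVars false
set_option linter.deprecated false
set_option linter.unusedSimpArgs false

namespace Cfsg.Agent.Lib.Suzuki.Solub4

open Cfsg.Agent.Lib.Suzuki.Basic Cfsg.Agent.Lib.Suzuki.Group Cfsg.Agent.Lib.Suzuki.Struct
  Cfsg.Agent.Lib.Suzuki.Order Cfsg.Agent.Lib.Suzuki.Zass Cfsg.Agent.Lib.Suzuki.Sub
  Cfsg.Agent.Lib.Suzuki.Syl Cfsg.Agent.Lib.Suzuki.Gen Cfsg.Agent.Lib.Suzuki.Fix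
  Cfsg.Agent.Lib.Suzuki.Cent Cfsg.Agent.Lib.Suzuki.Types Cfsg.Agent.Lib.Suzuki.Tori1
  Cfsg.Agent.Lib.Suzuki.Tori2 Cfsg.Agent.Lib.Suzuki.Tori3 Cfsg.Agent.Lib.Suzuki.Part
  Cfsg.Agent.Lib.Suzuki.SubAbs Cfsg.Agent.Lib.Suzuki.SubG Cfsg.Agent.Lib.Suzuki.SubOdd
  Cfsg.Agent.Lib.Suzuki.SubMain Cfsg.Agent.Lib.Suzuki.SubEmb Cfsg.Agent.Lib.Suzuki.Classify
  Cfsg.Agent.Lib.Suzuki.Fixity Cfsg.Agent.Lib.Suzuki.Solub Cfsg.Agent.Lib.Suzuki.Solub2
  Cfsg.Agent.Lib.Suzuki.Solub3
open scoped Pointwise BigOperators commutatorElement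

/-- Double counting. -/
theorem double_count {α β : Type*} [Finite α] [Finite β] (s : Set α) (t : Set β) (r : α → β → Prop) {c d : ℕ}
    (h1 : ∀ a ∈ s, {b | b ∈ t ∧ r a b}.ncard = c) (h2 : ∀ b ∈ t, {a | a ∈ s ∧ r a b}.ncard = d) :
    s.ncard * c = t.ncard * d := by
  classical
  have : Fintype α := Fintype.ofFinite α
  have : Fintype β := Fintype.ofFinite β
  have key := Finset.sum_card_bipartiteAbove_eq_sum_card_bipartiteBelow (s := s.toFinset) (t := t.toFinset) r
  have e1 : ∀ a ∈ s.toFinset, (t.toFinset.bipartiteAbove r a).card = c := by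
    intro a ha
    rw [← h1 a (Set.mem_toFinset.mp ha), Set.ncard_eq_toFinset_card']
    congr 1
    ext b
    simp [Finset.mem_bipartiteAbove]
  have e2 : ∀ b ∈ t.toFinset, (s.toFinset.bipartiteBelow r b).card = d := by
    intro b hb
    rw [← h2 b (Set.mem_toFinset.mp hb), Set.ncard_eq_toFinset_card']
    congr 1
    ext a
    simp [Finset.mem_bipartiteBelow]
  rw [Finset.sum_congr rfl e1, Finset.sum_congr rfl e2, Finset.sum_const, Finset.sum_const, smul_eq_mul,
    smul_eq_mul] at key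
  rw [Set.ncard_eq_toFinset_card', Set.ncard_eq_toFinset_card']
  exact key

variable {F : Type*} [Field F] [Fintype F] {m : ℕ} (h : Hyp F m)
include h

omit h in
theorem inv_inv_eq {z : G F m} (hz : IsInv z) : z⁻¹ = z := inv_eq_of_mul_eq_one_left hz.2

/-- An involution normalising a member of the partition inverts it. -/
theorem invert {z y : G F m} (hz : IsInv z) (h4 : y ^ 4 ≠ 1) (hc : cm z y) : z * y * z⁻¹ = y⁻¹ := by
  have hP := part_cent h h4
  have hzN := (mem_norm_iff h h4).mpr hc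
  have hy1 := mem_cent_self h y
  have h1 : z * y * z⁻¹ ∈ cent y := mem_cent.mpr hc
  set t := y * (z * y * z⁻¹) with ht
  have htX : t ∈ cent y := (cent y).mul_mem hy1 h1
  have hzt : z * t = t * z := by
    have hzi := inv_inv_eq hz
    have e1 : z * t = (z * y * z⁻¹) * (z * (z * y * z⁻¹) * z⁻¹) * z := by
      rw [ht]
      group
    have e2 : z * (z * y * z⁻¹) * z⁻¹ = y := by
      have e3 : z * (z * y * z⁻¹) * z⁻¹ = (z * z) * y * (z⁻¹ * z⁻¹) := by group
      rw [e3, hzi, hz.2]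
      group
    have hc' : z * y * z⁻¹ * y = y * (z * y * z⁻¹) := hc
    rw [e1, e2, hc']
  by_contra hne
  have hne' : t ≠ 1 := by
    intro h0
    apply hne
    have e : y * (z * y * z⁻¹) = 1 := h0
    exact (eq_inv_of_mul_eq_one_right e)
  have h2 := eq_cent h hP.1 hP.2 htX hne'
  have h3 : z ∈ cent y := by
    rw [h2]
    exact mem_cent.mpr hzt
  exact hz.1 (eq_one_of_mem_part h hP h3 hz.pow_four)

/-- Involutions not fixing `w₀`. -/
def Iz (w₀ : Om F m) : Set (G F m) := {z' | IsInv z' ∧ z' • w₀ ≠ w₀}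

/-- The elements inverted by `z`. -/
def Yz (z : G F m) : Set (G F m) := {y | y ^ 4 ≠ 1 ∧ cm z y}

theorem Yz_eq_image {z : G F m} (hz : IsInv z) {w₀ : Om F m} (hw₀ : z • w₀ = w₀) :
    Yz z = (fun z' => z * z') '' Iz w₀ := by
  have hzi := inv_inv_eq hz
  have hz4 := hz.pow_four
  ext y
  constructor
  · rintro ⟨h4, hc⟩
    have hinv := invert h hz h4 hc
    have hy1 : y ≠ 1 := by
      rintro rfl
      simp at h4
    refine ⟨z * y, ⟨⟨?_, ?_⟩, ?_⟩, ?_⟩
    · intro h0
      have h1 : y = z := by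
        have e : y = z⁻¹ * (z * y) := by group
        rw [e, h0, hzi, mul_one]
      rw [h1] at h4
      exact h4 hz4
    · calc z * y * (z * y) = (z * y * z⁻¹) * (z * z) * y := by
            group
        _ = 1 := by rw [hinv, hz.2]; group
    · intro hfix
      have hfy : y • w₀ = w₀ := by
        rw [mul_smul] at hfix
        have h3 : z • (y • w₀) = z • w₀ := by rw [hfix, hw₀]
        exact smul_left_cancel _ h3
      have hP := part_cent h h4
      exact hy1 (part_inf_stab h hP ((mem_norm_iff h h4).mpr hc) hz.1 hz4 hw₀ (mem_cent_self h y) hfy)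
    · change z * (z * y) = y
      rw [← mul_assoc, hz.2, one_mul]
  · rintro ⟨z', ⟨hz', hne⟩, rfl⟩
    have hzi' := inv_inv_eq hz'
    have hconj : z * (z * z') * z⁻¹ = (z * z')⁻¹ := by
      rw [mul_inv_rev, hzi, hzi', ← mul_assoc, hz.2, one_mul]
    refine ⟨?_, ?_⟩
    · intro h4
      change (z * z') ^ 4 = 1 at h4
      have hy1 : z * z' ≠ 1 := by
        intro h0
        have e : z' = z := by
          have e2 : z' = z⁻¹ * (z * z') := by group
          rw [e2, h0, hzi, mul_one]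
        rw [e] at hne
        exact hne hw₀
      obtain ⟨w₁, hw₁⟩ := fix_exists h h4
      have h2 : (z * z')⁻¹ • w₁ = w₁ := by
        rw [inv_smul_eq_iff, hw₁]
      rw [← hconj, mul_smul, mul_smul, hzi] at h2
      have h3 : (z * z') • (z • w₁) = z • w₁ := by
        have h5 := congrArg (fun t => z • t) h2
        change z • z • (z * z') • z • w₁ = z • w₁ at h5
        rwa [smul_smul, hz.2, one_smul] at h5
      have h6 := fix_unique h hy1 h4 h3 hw₁
      have h7 := fix_unique h hz.1 hz4 h6 hw₀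
      rw [h7] at hw₁
      apply hne
      rw [mul_smul] at hw₁
      have h8 : z • (z' • w₀) = z • w₀ := by rw [hw₁, hw₀]
      exact smul_left_cancel _ h8
    · change z * (z * z') * z⁻¹ * (z * z') = (z * z') * (z * (z * z') * z⁻¹)
      rw [hconj]
      simp

theorem Yz_ncard {z : G F m} (hz : IsInv z) {w₀ : Om F m} (hw₀ : z • w₀ = w₀) :
    (Yz z).ncard = (Iz w₀ : Set (G F m)).ncard := by
  rw [Yz_eq_image h hz hw₀]
  exact Set.ncard_image_of_injective _ (mul_right_injective z)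

/-- The number of involutions moving a point. -/
theorem Iz_ncard (w₀ : Om F m) :
    (Iz w₀ : Set (G F m)).ncard = Fintype.card F ^ 2 * (Fintype.card F - 1) := by
  classical
  have : Finite (Om F m) := Nat.finite_of_card_ne_zero (by rw [card_Om]; omega)
  let φ : Om F m × F → G F m := fun p => mv h p.1 * Lg h 0 p.2 * (mv h p.1)⁻¹
  have hI : Iz w₀ = φ '' (({w₀} : Set (Om F m))ᶜ ×ˢ ({0} : Set F)ᶜ) := by
    ext z'
    constructor
    · rintro ⟨hz', hne⟩
      obtain ⟨w, hw⟩ := inv_exists h hz'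
      obtain ⟨b, hb, he⟩ := inv_form h hz' hw (mv_spec h w)
      refine ⟨(w, b), ⟨?_, hb⟩, he.symm⟩
      rintro rfl
      exact hne hw
    · rintro ⟨⟨w, b⟩, ⟨hw, hb⟩, rfl⟩
      have hinv : IsInv (mv h w * Lg h 0 b * (mv h w)⁻¹) := isInv_conj_zero h hb
      refine ⟨hinv, ?_⟩
      intro hc
      have hfix : (mv h w * Lg h 0 b * (mv h w)⁻¹) • w = w := by
        have hx := mv_spec h w
        rw [mul_smul, mul_smul, inv_smul_eq_iff.mpr hx.symm, Lg_oI h, hx]
      exact hw (inv_unique h hinv hfix hc)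
  have hinj : Set.InjOn φ (({w₀} : Set (Om F m))ᶜ ×ˢ ({0} : Set F)ᶜ) := by
    rintro ⟨w, b⟩ ⟨-, hb⟩ ⟨w', b'⟩ ⟨-, hb'⟩ he
    have he' : mv h w * Lg h 0 b * (mv h w)⁻¹ = mv h w' * Lg h 0 b' * (mv h w')⁻¹ := he
    have hinv : IsInv (mv h w * Lg h 0 b * (mv h w)⁻¹) := isInv_conj_zero h hb
    have hfix : (mv h w * Lg h 0 b * (mv h w)⁻¹) • w = w := by
      have hx := mv_spec h w
      rw [mul_smul, mul_smul, inv_smul_eq_iff.mpr hx.symm, Lg_oI h, hx]
    have hfix' : (mv h w * Lg h 0 b * (mv h w)⁻¹) • w' = w' := by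
      rw [he']
      have hx := mv_spec h w'
      rw [mul_smul, mul_smul, inv_smul_eq_iff.mpr hx.symm, Lg_oI h, hx]
    have hww := inv_unique h hinv hfix hfix'
    subst hww
    have h3 : Lg h 0 b = Lg h 0 b' := by
      have e1 : Lg h 0 b = (mv h w)⁻¹ * (mv h w * Lg h 0 b * (mv h w)⁻¹) * mv h w := by group
      rw [e1, he']
      group
    have h4 := (Lg_inj h h3).2
    subst h4
    rfl
  rw [hI, Set.ncard_image_of_injOn hinj, Set.ncard_prod, Set.ncard_compl, Set.ncard_singleton,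
    Set.ncard_compl, Set.ncard_singleton, card_Om, Nat.card_eq_fintype_card]
  simp

/-- A fibre of the count of elements of `Yd`. -/
theorem Ew_ncard {z : G F m} (hz : IsInv z) {w₀ w : Om F m} (hw₀ : z • w₀ = w₀) (hw : w ≠ w₀) :
    {y | y ∈ Yd z ∧ y • w = w}.ncard = Fintype.card F - 2 := by
  classical
  have hzi := inv_inv_eq hz
  have hz4 := hz.pow_four
  have hzw : w ≠ z • w := fun hc => hw (fix_unique h hz.1 hz4 hc.symm hw₀)
  obtain ⟨g, hg1, hg2⟩ := two_trans h (oI_ne_zero h) hzw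
  have hzzw : z • (z • w) = w := by rw [smul_smul, hz.2, one_smul]
  let φ : Fˣ → G F m := fun k => g * Dg h k * g⁻¹
  have hfix1 : ∀ k : Fˣ, φ k • w = w := by
    intro k
    change (g * Dg h k * g⁻¹) • w = w
    rw [← hg1, mul_smul, mul_smul, inv_smul_smul, Dg_oI h]
  have hfix2 : ∀ k : Fˣ, φ k • (z • w) = z • w := by
    intro k
    change (g * Dg h k * g⁻¹) • (z • w) = z • w
    rw [← hg2, mul_smul, mul_smul, inv_smul_smul, Dg_oA h]
    simp
  have hform : ∀ y : G F m, y • w = w → y • (z • w) = z • w → ∃ k : Fˣ, y = φ k := by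
    intro y h1 h2
    have h3 : (g⁻¹ * y * g) • (oI : Om F m) = oI := by
      rw [mul_smul, mul_smul, hg1, h1, inv_smul_eq_iff, hg1]
    have h4 : (g⁻¹ * y * g) • (oA 0 0 : Om F m) = oA 0 0 := by
      rw [mul_smul, mul_smul, hg2, h2, inv_smul_eq_iff, hg2]
    obtain ⟨k, hk⟩ := eq_Dg_of_fix h _ h3 h4
    refine ⟨k, ?_⟩
    change y = g * Dg h k * g⁻¹
    rw [← hk]
    group
  have hinj : Function.Injective φ := by
    intro k l he
    have he' : g * Dg h k * g⁻¹ = g * Dg h l * g⁻¹ := he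
    apply Dg_inj h
    have e : Dg h k = g⁻¹ * (g * Dg h k * g⁻¹) * g := by group
    rw [e, he']
    group
  have hφ1 : ∀ k : Fˣ, φ k = 1 ↔ k = 1 := by
    intro k
    constructor
    · intro hc
      apply hinj
      rw [hc]
      change (1 : G F m) = g * Dg h 1 * g⁻¹
      rw [Dg_one h]
      group
    · rintro rfl
      change g * Dg h 1 * g⁻¹ = 1
      rw [Dg_one h]
      group
  have hset : {y | y ∈ Yd z ∧ y • w = w} = φ '' ({1} : Set Fˣ)ᶜ := by
    ext y
    constructor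
    · rintro ⟨⟨-, h4, hc⟩, hyw⟩
      have hinv := invert h hz h4 hc
      have hyz : y * z = z * y⁻¹ := by
        rw [← hinv, hzi]
        calc y * z = z * z * y * z := by rw [hz.2, one_mul]
          _ = _ := by group
      have h2 : y • (z • w) = z • w := by
        rw [smul_smul, hyz, mul_smul]
        congr 1
        rw [inv_smul_eq_iff, hyw]
      obtain ⟨k, rfl⟩ := hform y hyw h2
      refine ⟨k, ?_, rfl⟩
      intro hk
      rw [Set.mem_singleton_iff] at hk
      rw [(hφ1 k).mpr hk] at h4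
      simp at h4
    · rintro ⟨k, hk, rfl⟩
      have hk1 : φ k ≠ 1 := fun hc => hk ((hφ1 k).mp hc)
      refine ⟨⟨fun hf => hf w (hfix1 k), ?_, ?_⟩, hfix1 k⟩
      · intro h4
        exact hzw (fix_unique h hk1 h4 (hfix1 k) (hfix2 k))
      · -- the conjugate has the same two fixed points
        have h1 : (z * φ k * z⁻¹) • w = w := by
          rw [hzi, mul_smul, mul_smul, hfix2 k, hzzw]
        have h2 : (z * φ k * z⁻¹) • (z • w) = z • w := by
          rw [mul_smul, mul_smul, inv_smul_smul, hfix1 k]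
        obtain ⟨k', hk'⟩ := hform _ h1 h2
        change z * φ k * z⁻¹ * φ k = φ k * (z * φ k * z⁻¹)
        rw [hk']
        change g * Dg h k' * g⁻¹ * (g * Dg h k * g⁻¹) = g * Dg h k * g⁻¹ * (g * Dg h k' * g⁻¹)
        have e : ∀ a b : Fˣ, g * Dg h a * g⁻¹ * (g * Dg h b * g⁻¹) = g * Dg h (a * b) * g⁻¹ := by
          intro a b
          rw [← Dg_mul h]
          group
        rw [e, e, mul_comm]
  rw [hset, Set.ncard_image_of_injective _ hinj, Set.ncard_compl, Set.ncard_singleton, card_units h]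
  have := Nat.card_eq_fintype_card (α := F)
  omega

/-- Elements of `Yd` have exactly two fixed points away from the fixed point of `z`. -/
theorem Fix2_ncard {z : G F m} (hz : IsInv z) {w₀ : Om F m} (hw₀ : z • w₀ = w₀) {y : G F m} (hy : y ∈ Yd z) :
    {w | w ∈ ({w₀} : Set (Om F m))ᶜ ∧ y • w = w}.ncard = 2 := by
  obtain ⟨hf, h4, hc⟩ := hy
  have hy1 : y ≠ 1 := by
    rintro rfl
    simp at h4
  have hP := part_cent h h4
  have hy0 : y • w₀ ≠ w₀ := by
    intro hfy
    exact hy1 (part_inf_stab h hP ((mem_norm_iff h h4).mpr hc) hz.1 hz.pow_four hw₀ (mem_cent_self h y) hfy)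
  rcases trichotomy h hy1 with ⟨x, a, b, hne, he⟩ | ⟨g, k, hk, he⟩ | hf'
  · exfalso
    apply h4
    rw [he]
    exact conj_U_pow_four h ⟨a, b, rfl⟩
  · have hfix1 : y • (g • (oI : Om F m)) = g • oI := by
      rw [he, mul_smul, mul_smul, inv_smul_smul, Dg_oI h]
    have hfix2 : y • (g • (oA 0 0 : Om F m)) = g • oA 0 0 := by
      rw [he, mul_smul, mul_smul, inv_smul_smul, Dg_oA h]
      simp
    have hset : {w | w ∈ ({w₀} : Set (Om F m))ᶜ ∧ y • w = w} = {g • (oI : Om F m), g • (oA 0 0 : Om F m)} := by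
      ext w
      constructor
      · rintro ⟨-, hw⟩
        rw [he, mul_smul, mul_smul] at hw
        have h1 : Dg h k • (g⁻¹ • w) = g⁻¹ • w := (smul_eq_iff_eq_inv_smul g).mp hw
        rcases Dg_fix h hk h1 with h2 | h2
        · left
          rw [← h2, smul_inv_smul]
        · right
          rw [← h2, smul_inv_smul]
          exact Set.mem_singleton _
      · rintro (rfl | rfl)
        · exact ⟨fun hc => hy0 (by rw [Set.mem_singleton_iff] at hc; rw [← hc]; exact hfix1), hfix1⟩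
        · exact ⟨fun hc => hy0 (by rw [Set.mem_singleton_iff] at hc; rw [← hc]; exact hfix2), hfix2⟩
    rw [hset, Set.ncard_pair]
    exact fun hc => oI_ne_zero h (smul_left_cancel _ hc)
  · exact absurd hf' hf

/-- The count of `Yd` for an involution. -/
theorem two_Yd {z : G F m} (hz : IsInv z) {w₀ : Om F m} (hw₀ : z • w₀ = w₀) :
    2 * (Yd z).ncard = Fintype.card F ^ 2 * (Fintype.card F - 2) := by
  have : Finite (Om F m) := Nat.finite_of_card_ne_zero (by rw [card_Om]; omega)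
  have h1 := double_count ({w₀} : Set (Om F m))ᶜ (Yd z) (fun w y => y • w = w)
    (fun w hw => Ew_ncard h hz hw₀ hw) (fun y hy => Fix2_ncard h hz hw₀ hy)
  rw [Set.ncard_compl, Set.ncard_singleton, card_Om] at h1
  rw [mul_comm, ← h1]
  simp

/-- The sum of the two counts. -/
theorem Yd_add_Yt {z : G F m} (hz : IsInv z) {w₀ : Om F m} (hw₀ : z • w₀ = w₀) :
    (Yd z).ncard + (Yt z).ncard = Fintype.card F ^ 2 * (Fintype.card F - 1) := by
  rw [← Iz_ncard h w₀, ← Yz_ncard h hz hw₀, ← Set.ncard_union_eq _ (Set.toFinite _) (Set.toFinite _)]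
  · congr 1
    ext y
    constructor
    · rintro (⟨-, h4, hc⟩ | ⟨hf, hc⟩)
      · exact ⟨h4, hc⟩
      · exact ⟨pow_four_ne_of_mem h (isPart_tor h hf) (mem_cent_self h y) (Fpf.ne_one h hf), hc⟩
    · rintro ⟨h4, hc⟩
      by_cases hf : Fpf y
      · exact Or.inr ⟨hf, hc⟩
      · exact Or.inl ⟨hf, h4, hc⟩
  · rw [Set.disjoint_left]
    rintro y ⟨hf, -⟩ ⟨hf', -⟩
    exact hf hf'

/-- The count of `Yt` for an involution. -/
theorem two_Yt {z : G F m} (hz : IsInv z) {w₀ : Om F m} (hw₀ : z • w₀ = w₀) :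
    2 * (Yt z).ncard = Fintype.card F ^ 3 := by
  have h1 := two_Yd h hz hw₀
  have h2 := Yd_add_Yt h hz hw₀
  have hq : 2 ≤ Fintype.card F := Fintype.one_lt_card
  obtain ⟨R, hR⟩ : ∃ R, Fintype.card F = R + 2 := ⟨Fintype.card F - 2, by omega⟩
  rw [hR] at h1 h2 ⊢
  have e1 : R + 2 - 2 = R := by omega
  have e2 : R + 2 - 1 = R + 1 := by omega
  rw [e1] at h1
  rw [e2] at h2
  nlinarith

/-- The solubiliser of an involution. -/
theorem sol_inv (hp : (2 * m + 1).Prime) {z : G F m} (hz : IsInv z) :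
    (Sol z).ncard = Fintype.card F ^ 2 * (4 * Fintype.card F - 3) := by
  obtain ⟨w₀, hw₀⟩ := inv_exists h hz
  rw [sol_card h hp hz.1 hz.pow_four hw₀]
  have h1 := two_Yd h hz hw₀
  have h2 := two_Yt h hz hw₀
  have hq : 2 ≤ Fintype.card F := Fintype.one_lt_card
  obtain ⟨R, hR⟩ : ∃ R, Fintype.card F = R + 2 := ⟨Fintype.card F - 2, by omega⟩
  rw [hR] at h1 h2 ⊢
  have e1 : R + 2 - 2 = R := by omega
  have e2 : R + 2 - 1 = R + 1 := by omega
  have e3 : 4 * (R + 2) - 3 = 4 * R + 5 := by omega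
  rw [e1] at h1
  rw [e2, e3]
  nlinarith

end Cfsg.Agent.Lib.Suzuki.Solub4
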