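import Cfsg.Agent.Lib.Suzuki.Iso
import Cfsg.Prelude.Def_KGroupFacts

/-! Stem extensions of the Suzuki groups `Sz(2^(2m+1))`, `m ≥ 2`, are isomorphisms.

Let `σ : Γ → G` be a finite stem extension with kernel `K`.  Conjugation of the preimage of a
subgroup on `K`-central commutators only depends on the image in `G`.  Biadditive forms on `F × F`
with values in `K` that are invariant under the torus vanish, since `x ↦ x^(-e)` is not additive for
`e = 1` and `e = σ + 1` (this is where `m ≥ 2` enters).  Hence the preimage of `Z` is abelian and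
central in the preimage of `U`; the norm of `D` on the preimage of `Z` kills the commutators of the
preimage of `U`, and the transfer then gives that `K` has odd order.  The odd Sylow subgroups
of `G` are cyclic, so `K` is trivial. -/

set_option autoImplicit false
set_option linter.unusedSectionVars false
set_option linter.deprecated false
set_option linter.unusedSimpArgs false

namespace Cfsg.Agent.Lib.Suzuki.Stem

open Cfsg Cfsg.Agent.Lib.Suzuki.Basic Cfsg.Agent.Lib.Suzuki.Group Cfsg.Agent.Lib.Suzuki.Struct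
  Cfsg.Agent.Lib.Suzuki.Order Cfsg.Agent.Lib.Suzuki.Sub Cfsg.Agent.Lib.Suzuki.Types
open scoped commutatorElement

section generic

variable {Γ : Type*} [_root_.Group Γ]

theorem comm_mul_left {x y z : Γ} (hc : x * ⁅y, z⁆ = ⁅y, z⁆ * x) : ⁅x * y, z⁆ = ⁅y, z⁆ * ⁅x, z⁆ := by
  have h1 : ⁅x * y, z⁆ = x * ⁅y, z⁆ * x⁻¹ * ⁅x, z⁆ := by
    simp only [commutatorElement_def]; group
  rw [h1, hc]; group

theorem comm_mul_right {x y z : Γ} (hc : y * ⁅x, z⁆ = ⁅x, z⁆ * y) : ⁅x, y * z⁆ = ⁅x, y⁆ * ⁅x, z⁆ := by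
  have h1 : ⁅x, y * z⁆ = ⁅x, y⁆ * (y * ⁅x, z⁆ * y⁻¹) := by
    simp only [commutatorElement_def]; group
  rw [h1, hc]; group

theorem conj_commutator (g x y : Γ) : g * ⁅x, y⁆ * g⁻¹ = ⁅g * x * g⁻¹, g * y * g⁻¹⁆ := by
  simp only [commutatorElement_def]; group

theorem comm_eq_one_iff {x y : Γ} : ⁅x, y⁆ = 1 ↔ x * y = y * x :=
  commutatorElement_eq_one_iff_mul_comm

variable {G : Type*} [_root_.Group G] (s : Γ →* G) (hk : s.ker ≤ Subgroup.center Γ)
include hk

theorem conj_congr {x x' : Γ} (hx : s x = s x') (y : Γ) : x * y * x⁻¹ = x' * y * x'⁻¹ := by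
  have h1 : x⁻¹ * x' ∈ s.ker := by
    rw [MonoidHom.mem_ker, map_mul, map_inv, hx, inv_mul_cancel]
  have h2 := Subgroup.mem_center_iff.mp (hk h1) y
  have h3 : x' = x * (x⁻¹ * x') := by group
  rw [h3]
  generalize x⁻¹ * x' = t at h2
  calc x * y * x⁻¹ = x * (y * t) * t⁻¹ * x⁻¹ := by group
    _ = x * (t * y) * t⁻¹ * x⁻¹ := by rw [h2]
    _ = x * t * y * (x * t)⁻¹ := by group

theorem comm_congr {x x' y y' : Γ} (hx : s x = s x') (hy : s y = s y') : ⁅x, y⁆ = ⁅x', y'⁆ := by
  have h1 : ⁅x, y⁆ = ⁅x', y⁆ := by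
    simp only [commutatorElement_def]
    rw [conj_congr s hk hx y]
  have h2 : ⁅x', y⁆ = ⁅x', y'⁆ := by
    have h3 : ⁅x', y⁆ = x' * (y * x'⁻¹ * y⁻¹) := by
      simp only [commutatorElement_def]; group
    have h4 : ⁅x', y'⁆ = x' * (y' * x'⁻¹ * y'⁻¹) := by
      simp only [commutatorElement_def]; group
    rw [h3, h4, conj_congr s hk hy x'⁻¹]
  rw [h1, h2]

theorem comm_mem_ker {x y : Γ} (hxy : s x * s y = s y * s x) : ⁅x, y⁆ ∈ s.ker := by
  rw [MonoidHom.mem_ker, map_commutatorElement, commutatorElement_eq_one_iff_mul_comm]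
  exact hxy

omit hk in
/-- The transfer into the abelianization of a subgroup. -/
theorem exists_mem_commutator [Finite Γ] (H : Subgroup Γ) {z : Γ} (hz : z ∈ Subgroup.center Γ)
    (hzc : z ∈ commutator Γ) : ∃ w : H, w ∈ commutator H ∧ (w : Γ) = z ^ H.index := by
  let τ : Γ →* Abelianization H := MonoidHom.transfer (Abelianization.of : H →* Abelianization H)
  have h1 : τ z = 1 := by
    have hle : commutator Γ ≤ τ.ker := by
      rw [commutator_def, Subgroup.commutator_le]
      intro a _ b _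
      rw [MonoidHom.mem_ker, map_commutatorElement, commutatorElement_eq_one_iff_mul_comm]
      exact mul_comm _ _
    exact hle hzc
  have hcentral : ∀ (k : ℕ) (g₀ : Γ), g₀⁻¹ * z ^ k * g₀ ∈ H → g₀⁻¹ * z ^ k * g₀ = z ^ k := by
    intro k g₀ _
    have hzk : z ^ k ∈ Subgroup.center Γ := pow_mem hz k
    rw [mul_assoc, ← (Subgroup.mem_center_iff.mp hzk g₀), inv_mul_cancel_left]
  have h2 := MonoidHom.transfer_eq_pow (Abelianization.of : H →* Abelianization H) z hcentral
  refine ⟨⟨z ^ H.index, MonoidHom.transfer_eq_pow_aux z hcentral⟩, ?_, rfl⟩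
  have h3 : (Abelianization.of : H →* Abelianization H)
      ⟨z ^ H.index, MonoidHom.transfer_eq_pow_aux z hcentral⟩ = 1 := by
    rw [← h2]; exact h1
  exact (QuotientGroup.eq_one_iff _).mp h3

end generic

section form

variable {E V : Type*} [Field E] [CommGroup V]

/-- Invariant biadditive forms vanish as soon as `x ↦ x^(-e)` is not additive. -/
theorem inv_form (h2 : (2 : E) = 0) (β : E → E → V) (e : ℕ)
    (hl : ∀ a a' b, β (a + a') b = β a b * β a' b)
    (hr : ∀ a b b', β a (b + b') = β a b * β a b')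
    (hinv : ∀ k : E, k ≠ 0 → ∀ a b, β (k * a) (k ^ e * b) = β a b)
    {x : E} (hx0 : x ≠ 0) (hx1 : x ≠ 1) (hw : x ^ e + (x + 1) ^ e + x ^ e * (x + 1) ^ e ≠ 0) :
    ∀ a b, β a b = 1 := by
  have hx1' : x + 1 ≠ 0 := by
    intro hc
    apply hx1
    linear_combination hc - h2
  have hself : ∀ a : E, a + a = 0 := fun a => by linear_combination a * h2
  have hzero : ∀ b, β 0 b = 1 := by
    intro b
    have := hl 0 0 b
    rw [add_zero] at this
    exact (left_eq_mul.mp this)
  have hsq : ∀ a b, β a b * β a b = 1 := by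
    intro a b
    rw [← hl, hself, hzero]
  have hg : ∀ a b, a ≠ 0 → β a b = β 1 (b / a ^ e) := by
    intro a b ha
    have := hinv a ha 1 (b / a ^ e)
    rw [mul_one, mul_div_cancel₀ _ (pow_ne_zero e ha)] at this
    exact this
  set W : E := ((x + 1) ^ e)⁻¹ + (x ^ e)⁻¹ + 1 with hWdef
  have hW : W ≠ 0 := by
    intro hc
    apply hw
    have h1 : (x + 1) ^ e ≠ 0 := pow_ne_zero e hx1'
    have h3 : x ^ e ≠ 0 := pow_ne_zero e hx0
    have : x ^ e + (x + 1) ^ e + x ^ e * (x + 1) ^ e = W * (x ^ e * (x + 1) ^ e) := by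
      rw [hWdef]; field_simp
    rw [this, hc, zero_mul]
  have hg1 : ∀ t, β 1 t = 1 := by
    intro t
    set b := t / W with hb
    have ht : t = b / (x + 1) ^ e + b / x ^ e + b := by
      have : t = b * W := by rw [hb]; field_simp
      rw [this, hWdef]; ring
    have h3 : β 1 t = β (x + 1) b * β x b * β 1 b := by
      rw [ht, hr, hr, ← hg (x + 1) b hx1', ← hg x b hx0]
    rw [h3, hl]
    have h4 := hsq x b
    have h5 := hsq 1 b
    calc β x b * β 1 b * β x b * β 1 b = (β x b * β x b) * (β 1 b * β 1 b) := by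
          ac_rfl
      _ = 1 := by rw [h4, h5, one_mul]
  intro a b
  by_cases ha : a = 0
  · rw [ha, hzero]
  · rw [hg a b ha, hg1]

/-- Existence of a witness for `inv_form` by counting roots. -/
theorem witness [Fintype E] (e : ℕ) (he : 0 < e) (hq : 2 * e + 2 < Fintype.card E) :
    ∃ x : E, x ≠ 0 ∧ x ≠ 1 ∧ x ^ e + (x + 1) ^ e + x ^ e * (x + 1) ^ e ≠ 0 := by
  classical
  open Polynomial in
  let P : E[X] := (X : E[X]) ^ e * (X + 1) ^ e + (X ^ e + (X + 1) ^ e)
  have hmon1 : (Polynomial.X : Polynomial E) ^ e * (Polynomial.X + 1) ^ e |>.Monic := by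
    apply Polynomial.Monic.mul (Polynomial.monic_X_pow e)
    exact Polynomial.Monic.pow (by simpa using Polynomial.monic_X_add_C (1 : E)) e
  have hnd1 : ((Polynomial.X : Polynomial E) ^ e * (Polynomial.X + 1) ^ e).natDegree = 2 * e := by
    rw [Polynomial.Monic.natDegree_mul (Polynomial.monic_X_pow e)
      (Polynomial.Monic.pow (by simpa using Polynomial.monic_X_add_C (1 : E)) e)]
    rw [Polynomial.natDegree_X_pow, Polynomial.natDegree_pow]
    have : ((Polynomial.X : Polynomial E) + 1).natDegree = 1 := by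
      simpa using Polynomial.natDegree_X_add_C (1 : E)
    rw [this]; ring
  have hnd2 : ((Polynomial.X : Polynomial E) ^ e + (Polynomial.X + 1) ^ e).natDegree ≤ e := by
    compute_degree
  have hdeg : ((Polynomial.X : Polynomial E) ^ e + (Polynomial.X + 1) ^ e).degree
      < ((Polynomial.X : Polynomial E) ^ e * (Polynomial.X + 1) ^ e).degree := by
    apply Polynomial.degree_lt_degree
    rw [hnd1]; omega
  have hmon : P.Monic := hmon1.add_of_left hdeg
  have hP0 : P ≠ 0 := hmon.ne_zero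
  have hnd : P.natDegree = 2 * e := by
    rw [Polynomial.natDegree_add_eq_left_of_degree_lt hdeg, hnd1]
  have hcard : (P.roots.toFinset ∪ {0, 1}).card < Fintype.card E := by
    have h1 : P.roots.toFinset.card ≤ 2 * e := by
      calc P.roots.toFinset.card ≤ P.roots.card := Multiset.toFinset_card_le _
        _ ≤ P.natDegree := Polynomial.card_roots' P
        _ = 2 * e := hnd
    have h2 : ({0, 1} : Finset E).card ≤ 2 := Finset.card_le_two
    have h3 := Finset.card_union_le P.roots.toFinset {0, 1}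
    omega
  obtain ⟨x, hx⟩ : ∃ x : E, x ∉ P.roots.toFinset ∪ {0, 1} := by
    by_contra hc
    push_neg at hc
    have : P.roots.toFinset ∪ {0, 1} = Finset.univ := Finset.eq_univ_iff_forall.mpr hc
    rw [this, Finset.card_univ] at hcard
    exact lt_irrefl _ hcard
  simp only [Finset.mem_union, Multiset.mem_toFinset, Finset.mem_insert, Finset.mem_singleton,
    not_or] at hx
  refine ⟨x, hx.2.1, hx.2.2, ?_⟩
  intro hc
  apply hx.1
  rw [Polynomial.mem_roots hP0, Polynomial.IsRoot.def]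
  simp only [P, Polynomial.eval_add, Polynomial.eval_mul, Polynomial.eval_pow, Polynomial.eval_X,
    Polynomial.eval_one]
  linear_combination hc

end form

section main

/-- The center as a commutative group. -/
@[reducible] def commCenter (Γ : Type*) [_root_.Group Γ] : CommGroup (Subgroup.center Γ) :=
  { (inferInstance : _root_.Group (Subgroup.center Γ)) with
    mul_comm := fun a b => Subtype.ext (Subgroup.mem_center_iff.mp b.2 (a : Γ)) }

attribute [local instance] commCenter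

/-- Lift of an element of `G`. -/
noncomputable def lf {F : Type*} [Field F] [Fintype F] {m : ℕ} (_h : Hyp F m)
    {Γ : Type*} [_root_.Group Γ] (s : Γ →* G F m) (hσ : IsStemExtension s) (g : G F m) : Γ :=
  Function.surjInv hσ.1 g

variable {F : Type*} [Field F] [Fintype F] {m : ℕ} (h : Hyp F m)
variable {Γ : Type*} [_root_.Group Γ] (s : Γ →* G F m) (hσ : IsStemExtension s)
include h hσ

theorem mem_center_of_ker {z : Γ} (hz : z ∈ s.ker) : z ∈ Subgroup.center Γ := hσ.2.1 hz

/-- The central commutators coming from commuting pairs are in the center of `Γ`. -/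
theorem comm_mem_center {x y : Γ} (hxy : s x * s y = s y * s x) : ⁅x, y⁆ ∈ Subgroup.center Γ :=
  hσ.2.1 (comm_mem_ker s hσ.2.1 hxy)

omit h hσ in
theorem Lg_zero_add (h : Hyp F m) (b b' : F) : Lg h 0 (b + b') = Lg h 0 b * Lg h 0 b' := by
  rw [Lg_mul h, add_zero, zero_pow_sg h, zero_mul, add_zero]

omit hσ in
theorem Lg_split (a b : F) : Lg h a b = Lg h a 0 * Lg h 0 b := by
  rw [Lg_mul h, add_zero, zero_add, mul_zero, add_zero]

omit hσ in
theorem Lg_add_split (a a' : F) :
    Lg h (a + a') 0 = Lg h a 0 * Lg h a' 0 * Lg h 0 (a ^ (2 ^ (m + 1)) * a') := by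
  have h2 := h.two_eq_zero
  rw [Lg_mul h, Lg_mul h]
  congr 1
  · simp
  · simp only [zero_add, add_zero, mul_zero]
    linear_combination (-(a ^ (2 ^ (m + 1)) * a')) * h2

theorem lf_spec (g : G F m) : s (lf h s hσ g) = g := Function.surjInv_eq hσ.1 g

/-- Elements over `Z` commute. -/
theorem step1 {x y : Γ} {b b' : F} (hx : s x = Lg h 0 b) (hy : s y = Lg h 0 b') : x * y = y * x := by
  have : Finite (G F m) := finite_G
  let c : F → F → Subgroup.center Γ := fun a d =>
    ⟨⁅lf h s hσ (Lg h 0 a), lf h s hσ (Lg h 0 d)⁆, comm_mem_center h s hσ (by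
      rw [lf_spec h s hσ, lf_spec h s hσ]; exact Lg_zero_comm h _ _ _)⟩
  have hcval : ∀ (a d : F) (u v : Γ), s u = Lg h 0 a → s v = Lg h 0 d → ⁅u, v⁆ = (c a d : Γ) := by
    intro a d u v hu hv
    exact comm_congr s hσ.2.1 (by rw [hu, lf_spec h s hσ]) (by rw [hv, lf_spec h s hσ])
  have hcen : ∀ (a d : F) (g : Γ), g * (c a d : Γ) = (c a d : Γ) * g := by
    intro a d g
    exact ((Subgroup.mem_center_iff.mp (c a d).2) g)
  obtain ⟨x₀, hx0, hx1, hw⟩ := witness (E := F) 1 one_pos (by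
    rw [h.hF]
    have := h.hm
    calc 2 * 1 + 2 = 2 ^ 2 := by norm_num
      _ < 2 ^ (2 * m + 1) := Nat.pow_lt_pow_right (by norm_num) (by omega))
  have hall := inv_form h.two_eq_zero c 1
    (by
      intro a a' d
      apply Subtype.ext
      rw [Subgroup.coe_mul, hcen a' d (c a d : Γ)]
      rw [← hcval (a + a') d (lf h s hσ (Lg h 0 a) * lf h s hσ (Lg h 0 a')) (lf h s hσ (Lg h 0 d))
        (by rw [map_mul, lf_spec h s hσ, lf_spec h s hσ, Lg_zero_add h]) (lf_spec h s hσ _)]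
      rw [comm_mul_left (by
        rw [hcval a' d _ _ (lf_spec h s hσ _) (lf_spec h s hσ _)]; exact hcen _ _ _)])
    (by
      intro a d d'
      apply Subtype.ext
      rw [Subgroup.coe_mul]
      rw [← hcval a (d + d') (lf h s hσ (Lg h 0 a)) (lf h s hσ (Lg h 0 d) * lf h s hσ (Lg h 0 d'))
        (lf_spec h s hσ _) (by rw [map_mul, lf_spec h s hσ, lf_spec h s hσ, Lg_zero_add h])]
      rw [comm_mul_right (by
        rw [hcval a d' _ _ (lf_spec h s hσ _) (lf_spec h s hσ _)]; exact hcen _ _ _)])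
    (by
      intro k hk a d
      apply Subtype.ext
      obtain ⟨l, hl⟩ := (pow_sg_mul_self_bij h).2 k
      have hl0 : l ≠ 0 := by
        rintro rfl
        apply hk
        rw [← hl]; simp
      let lu : Fˣ := Units.mk0 l hl0
      have hlu : (lu : F) = l := rfl
      set g := lf h s hσ (Dg h lu) with hg
      have hgs : s g = Dg h lu := lf_spec h s hσ _
      have e1 : (c (k * a) (k ^ 1 * d) : Γ) = g * ⁅lf h s hσ (Lg h 0 a), lf h s hσ (Lg h 0 d)⁆ * g⁻¹ := by
        rw [conj_commutator]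
        rw [hcval (k * a) (k ^ 1 * d) _ _ (u := g * lf h s hσ (Lg h 0 a) * g⁻¹)
          (v := g * lf h s hσ (Lg h 0 d) * g⁻¹)]
        · simp only [map_mul, map_inv, hgs, lf_spec h s hσ]
          rw [Dg_conj_Lg h, hlu, mul_zero, ← hl]
        · simp only [map_mul, map_inv, hgs, lf_spec h s hσ]
          rw [Dg_conj_Lg h, hlu, mul_zero, ← hl, pow_one]
      rw [e1]
      have e2 : g * ⁅lf h s hσ (Lg h 0 a), lf h s hσ (Lg h 0 d)⁆ * g⁻¹ = (c a d : Γ) := by
        change g * (c a d : Γ) * g⁻¹ = (c a d : Γ)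
        rw [hcen]; group
      exact e2)
    hx0 hx1 hw
  have h1 := hcval b b' x y hx hy
  rw [hall b b'] at h1
  exact comm_eq_one_iff.mp h1

/-- The arithmetic that needs `m ≥ 2`. -/
theorem arith_two (hm : 2 ≤ m) : 2 * (2 ^ (m + 1) + 1) + 2 < Fintype.card F := by
  rw [h.hF]
  have h1 : 2 ^ (2 * m + 1) = 2 ^ (m + 1) * 2 ^ m := by
    rw [← pow_add]; congr 1; omega
  have h2 : 4 ≤ 2 ^ m := by
    calc 4 = 2 ^ 2 := by norm_num
      _ ≤ 2 ^ m := Nat.pow_le_pow_right (by norm_num) hm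
  have h3 : 8 ≤ 2 ^ (m + 1) := by
    rw [pow_succ]; omega
  rw [h1]
  nlinarith

/-- Elements over `U` commute with elements over `Z`. -/
theorem step2 (hm : 2 ≤ m) {x y : Γ} {a b b' : F} (hx : s x = Lg h a b) (hy : s y = Lg h 0 b') :
    x * y = y * x := by
  have : Finite (G F m) := finite_G
  let c : F → F → Subgroup.center Γ := fun a d =>
    ⟨⁅lf h s hσ (Lg h a 0), lf h s hσ (Lg h 0 d)⁆, comm_mem_center h s hσ (by
      rw [lf_spec h s hσ, lf_spec h s hσ]; exact (Lg_zero_comm h _ _ _).symm)⟩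
  have hcval : ∀ (a d : F) (u v : Γ), s u = Lg h a 0 → s v = Lg h 0 d → ⁅u, v⁆ = (c a d : Γ) := by
    intro a d u v hu hv
    exact comm_congr s hσ.2.1 (by rw [hu, lf_spec h s hσ]) (by rw [hv, lf_spec h s hσ])
  have hcen : ∀ (a d : F) (g : Γ), g * (c a d : Γ) = (c a d : Γ) * g := by
    intro a d g
    exact ((Subgroup.mem_center_iff.mp (c a d).2) g)
  obtain ⟨x₀, hx0, hx1, hw⟩ := witness (E := F) (2 ^ (m + 1) + 1) (by positivity) (arith_two h s hσ hm)
  have hall := inv_form h.two_eq_zero c (2 ^ (m + 1) + 1)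
    (by
      intro a a' d
      apply Subtype.ext
      rw [Subgroup.coe_mul, hcen a' d (c a d : Γ)]
      set X := lf h s hσ (Lg h a 0)
      set X' := lf h s hσ (Lg h a' 0)
      set t := lf h s hσ (Lg h 0 (a ^ (2 ^ (m + 1)) * a'))
      set Y := lf h s hσ (Lg h 0 d)
      have hX : s X = Lg h a 0 := lf_spec h s hσ _
      have hX' : s X' = Lg h a' 0 := lf_spec h s hσ _
      have ht : s t = Lg h 0 (a ^ (2 ^ (m + 1)) * a') := lf_spec h s hσ _
      have hY : s Y = Lg h 0 d := lf_spec h s hσ _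
      have h1 : ⁅t, Y⁆ = 1 := comm_eq_one_iff.mpr (step1 h s hσ ht hY)
      rw [← hcval (a + a') d (X * X' * t) Y
        (by rw [map_mul, map_mul, hX, hX', ht, Lg_add_split h]) hY]
      rw [comm_mul_left (by rw [h1, mul_one, one_mul]), h1, one_mul]
      rw [comm_mul_left (by rw [hcval a' d X' Y hX' hY]; exact hcen _ _ _)])
    (by
      intro a d d'
      apply Subtype.ext
      rw [Subgroup.coe_mul]
      rw [← hcval a (d + d') (lf h s hσ (Lg h a 0)) (lf h s hσ (Lg h 0 d) * lf h s hσ (Lg h 0 d'))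
        (lf_spec h s hσ _) (by rw [map_mul, lf_spec h s hσ, lf_spec h s hσ, Lg_zero_add h])]
      rw [comm_mul_right (by
        rw [hcval a d' _ _ (lf_spec h s hσ _) (lf_spec h s hσ _)]; exact hcen _ _ _)])
    (by
      intro k hk a d
      apply Subtype.ext
      let lu : Fˣ := Units.mk0 k hk
      have hlu : (lu : F) = k := rfl
      set g := lf h s hσ (Dg h lu) with hg
      have hgs : s g = Dg h lu := lf_spec h s hσ _
      have e1 : (c (k * a) (k ^ (2 ^ (m + 1) + 1) * d) : Γ)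
          = g * ⁅lf h s hσ (Lg h a 0), lf h s hσ (Lg h 0 d)⁆ * g⁻¹ := by
        rw [conj_commutator]
        rw [hcval (k * a) (k ^ (2 ^ (m + 1) + 1) * d) _ _ (u := g * lf h s hσ (Lg h a 0) * g⁻¹)
          (v := g * lf h s hσ (Lg h 0 d) * g⁻¹)]
        · simp only [map_mul, map_inv, hgs, lf_spec h s hσ]
          rw [Dg_conj_Lg h, hlu, mul_zero]
        · simp only [map_mul, map_inv, hgs, lf_spec h s hσ]
          rw [Dg_conj_Lg h, hlu, mul_zero, pow_succ k (2 ^ (m + 1))]
      rw [e1]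
      change g * (c a d : Γ) * g⁻¹ = (c a d : Γ)
      rw [hcen]; group)
    hx0 hx1 hw
  have hzero : ∀ a d, ⁅lf h s hσ (Lg h a 0), lf h s hσ (Lg h 0 d)⁆ = 1 := by
    intro a d
    have := hcval a d _ _ (lf_spec h s hσ (Lg h a 0)) (lf_spec h s hσ (Lg h 0 d))
    rw [hall a d] at this
    exact this
  rw [← comm_eq_one_iff]
  rw [comm_congr s hσ.2.1 (x' := lf h s hσ (Lg h a 0) * lf h s hσ (Lg h 0 b))
    (y' := lf h s hσ (Lg h 0 b')) (by
      rw [hx, map_mul, lf_spec h s hσ, lf_spec h s hσ, ← Lg_split h]) (by rw [hy, lf_spec h s hσ])]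
  have h1 : ⁅lf h s hσ (Lg h 0 b), lf h s hσ (Lg h 0 b')⁆ = 1 :=
    comm_eq_one_iff.mpr (step1 h s hσ (lf_spec h s hσ _) (lf_spec h s hσ _))
  rw [comm_mul_left (by rw [h1, mul_one, one_mul]), h1, one_mul, hzero]

/-- The preimage of `Z`. -/
abbrev Ahat (h : Hyp F m) (s : Γ →* G F m) : Subgroup Γ := (Zsub h).comap s

/-- The preimage of `U`. -/
abbrev Uhat (h : Hyp F m) (s : Γ →* G F m) : Subgroup Γ := (Usub h).comap s

omit hσ in
theorem mem_Ahat {x : Γ} : x ∈ Ahat h s ↔ ∃ b : F, s x = Lg h 0 b := Iff.rfl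

omit hσ in
theorem mem_Uhat {x : Γ} : x ∈ Uhat h s ↔ ∃ a b : F, s x = Lg h a b := Iff.rfl

/-- The preimage of `Z` is a commutative group. -/
@[reducible] def commA : CommGroup (Ahat h s) :=
  { (inferInstance : _root_.Group (Ahat h s)) with
    mul_comm := by
      rintro ⟨x, b, hx⟩ ⟨y, b', hy⟩
      exact Subtype.ext (step1 h s hσ hx hy) }

/-- Conjugation by the torus on the preimage of `Z`. -/
noncomputable def actA (k : Fˣ) : Ahat h s →* Ahat h s where
  toFun x := ⟨lf h s hσ (Dg h k) * x * (lf h s hσ (Dg h k))⁻¹, by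
    obtain ⟨x, b, hx⟩ := x
    refine ⟨(k : F) ^ (2 ^ (m + 1)) * k * b, ?_⟩
    change s _ = _
    simp only [map_mul, map_inv, lf_spec h s hσ]
    change _ * s x * _ = _
    rw [hx, Dg_conj_Lg h, mul_zero]⟩
  map_one' := by
    apply Subtype.ext
    simp
  map_mul' x y := by
    apply Subtype.ext
    simp only [Subgroup.coe_mul]
    group

theorem actA_coe (k : Fˣ) (x : Ahat h s) :
    ((actA h s hσ k x : Ahat h s) : Γ) = lf h s hσ (Dg h k) * x * (lf h s hσ (Dg h k))⁻¹ := rfl

theorem actA_actA (k l : Fˣ) (x : Ahat h s) :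
    actA h s hσ k (actA h s hσ l x) = actA h s hσ (k * l) x := by
  apply Subtype.ext
  rw [actA_coe, actA_coe, actA_coe]
  have h1 := conj_congr s hσ.2.1 (x := lf h s hσ (Dg h k) * lf h s hσ (Dg h l))
    (x' := lf h s hσ (Dg h (k * l))) (by
      rw [map_mul, lf_spec h s hσ, lf_spec h s hσ, lf_spec h s hσ, Dg_mul h]) (x : Γ)
  rw [← h1]
  group

open scoped Classical in
/-- The arithmetic of the power sum. -/
theorem sum_units_eq_zero : ∑ k : Fˣ, (k : F) ^ (2 ^ (m + 1)) * k = 0 := by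
  classical
  have h1 := FiniteField.sum_pow_units (K := F) (2 ^ (m + 1) + 1)
  have hm := h.hm
  have hnd : ¬ (Fintype.card F - 1 ∣ 2 ^ (m + 1) + 1) := by
    intro hd
    have hle := Nat.le_of_dvd (by positivity) hd
    rw [h.hF] at hle
    have h3 : 2 ^ (2 * m + 1) = 2 ^ (m + 1) * 2 ^ m := by
      rw [← pow_add]; congr 1; omega
    have h4 : 2 ≤ 2 ^ m := by
      calc 2 = 2 ^ 1 := by norm_num
        _ ≤ 2 ^ m := Nat.pow_le_pow_right (by norm_num) hm
    have h5 : 4 ≤ 2 ^ (m + 1) := by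
      rw [pow_succ]; omega
    rw [h3] at hle
    have h6 : 2 ^ (m + 1) * 2 ≤ 2 ^ (m + 1) * 2 ^ m := Nat.mul_le_mul_left _ h4
    omega
  rw [if_neg hnd] at h1
  rw [← h1]
  apply Finset.sum_congr rfl
  intro k _
  rw [pow_succ (k : F) (2 ^ (m + 1))]

/-- The norm of the torus on the preimage of `Z`. -/
theorem exists_norm : ∃ N : Ahat h s → Γ,
    (∀ x y, N (x * y) = N x * N y) ∧ (∀ x, N x ∈ s.ker) ∧
    (∀ k x, N (actA h s hσ k x) = N x) ∧
    (∀ z : Ahat h s, (z : Γ) ∈ s.ker → N z = (z : Γ) ^ (Fintype.card F - 1)) := by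
  classical
  letI := commA h s hσ
  refine ⟨fun x => ((∏ k : Fˣ, actA h s hσ k x : Ahat h s) : Γ), ?_, ?_, ?_, ?_⟩
  · intro x y
    simp only [map_mul]
    rw [Finset.prod_mul_distrib]
    rfl
  · intro x
    obtain ⟨b, hb⟩ := x.2
    have hind : ∀ T : Finset Fˣ, s ((∏ k ∈ T, actA h s hσ k x : Ahat h s) : Γ)
        = Lg h 0 (∑ k ∈ T, (k : F) ^ (2 ^ (m + 1)) * k * b) := by
      intro T
      induction T using Finset.induction_on with
      | empty =>
        simp only [Finset.prod_empty, Finset.sum_empty]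
        rw [Lg_zero h]
        exact map_one s
      | insert k T hk ih =>
        rw [Finset.prod_insert hk, Finset.sum_insert hk, Lg_zero_add h, ← ih]
        have : ((actA h s hσ k x * ∏ k ∈ T, actA h s hσ k x : Ahat h s) : Γ)
            = (actA h s hσ k x : Γ) * ((∏ k ∈ T, actA h s hσ k x : Ahat h s) : Γ) := rfl
        rw [this, map_mul]
        congr 1
        rw [actA_coe]
        simp only [map_mul, map_inv, lf_spec h s hσ]
        rw [hb, Dg_conj_Lg h, mul_zero]
    have h1 := hind Finset.univ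
    rw [MonoidHom.mem_ker, h1, ← Finset.sum_mul, sum_units_eq_zero h s hσ, zero_mul, Lg_zero h]
  · intro k x
    simp only [actA_actA]
    congr 1
    exact Fintype.prod_equiv (Equiv.mulRight k) _ _ (fun l => rfl)
  · intro z hz
    have h1 : ∀ k : Fˣ, actA h s hσ k z = z := by
      intro k
      apply Subtype.ext
      rw [actA_coe]
      have := Subgroup.mem_center_iff.mp (hσ.2.1 hz) (lf h s hσ (Dg h k))
      rw [this]; group
    simp only [h1]
    rw [Finset.prod_const, Finset.card_univ, Fintype.card_units]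
    rfl

omit hσ in
theorem comm_mem_Ahat {x y : Γ} (hx : x ∈ Uhat h s) (hy : y ∈ Uhat h s) : ⁅x, y⁆ ∈ Ahat h s := by
  obtain ⟨a, b, hx⟩ := hx
  obtain ⟨c, d, hy⟩ := hy
  refine ⟨a ^ (2 ^ (m + 1)) * c + c ^ (2 ^ (m + 1)) * a, ?_⟩
  rw [map_commutatorElement, hx, hy, commutatorElement_def, Lg_commutator h]

/-- The `2`-part: the order of a central element of the kernel is odd. -/
theorem key_two [Finite Γ] (hm : 2 ≤ m) {z : Γ} (hz : z ∈ s.ker) :
    z ^ ((Uhat h s).index * (Fintype.card F - 1)) = 1 := by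
  obtain ⟨N, hNmul, hNker, hNact, hNz⟩ := exists_norm h s hσ
  have hlfU : ∀ a d : F, lf h s hσ (Lg h a d) ∈ Uhat h s := fun a d => ⟨a, d, lf_spec h s hσ _⟩
  let γ : F → F → Ahat h s := fun a d =>
    ⟨⁅lf h s hσ (Lg h a 0), lf h s hσ (Lg h d 0)⁆, comm_mem_Ahat h s (hlfU _ _) (hlfU _ _)⟩
  have hγ : ∀ (a d : F) (u v : Γ), s u = Lg h a 0 → s v = Lg h d 0 → ⁅u, v⁆ = (γ a d : Γ) := by
    intro a d u v hu hv
    exact comm_congr s hσ.2.1 (by rw [hu, lf_spec h s hσ]) (by rw [hv, lf_spec h s hσ])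
  let c : F → F → Subgroup.center Γ := fun a d => ⟨N (γ a d), hσ.2.1 (hNker _)⟩
  have hcen : ∀ (a d : F) (g : Γ), g * (c a d : Γ) = (c a d : Γ) * g := by
    intro a d g
    exact ((Subgroup.mem_center_iff.mp (c a d).2) g)
  -- values over `Z` are central in the preimage of `U`
  have hZU : ∀ (u v : Γ) (a b : F), s u = Lg h a b → v ∈ Ahat h s → u * v = v * u := by
    rintro u v a b hu ⟨e, he⟩
    exact step2 h s hσ hm hu he
  obtain ⟨x₀, hx0, hx1, hw⟩ := witness (E := F) 1 one_pos (by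
    rw [h.hF]
    have := h.hm
    calc 2 * 1 + 2 = 2 ^ 2 := by norm_num
      _ < 2 ^ (2 * m + 1) := Nat.pow_lt_pow_right (by norm_num) (by omega))
  have hall := inv_form h.two_eq_zero c 1
    (by
      intro a a' d
      apply Subtype.ext
      rw [Subgroup.coe_mul, hcen a' d (c a d : Γ)]
      change N (γ (a + a') d) = N (γ a' d) * N (γ a d)
      rw [← hNmul]
      congr 1
      apply Subtype.ext
      rw [Subgroup.coe_mul]
      set X := lf h s hσ (Lg h a 0)
      set X' := lf h s hσ (Lg h a' 0)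
      set t := lf h s hσ (Lg h 0 (a ^ (2 ^ (m + 1)) * a'))
      set Y := lf h s hσ (Lg h d 0)
      have hX : s X = Lg h a 0 := lf_spec h s hσ _
      have hX' : s X' = Lg h a' 0 := lf_spec h s hσ _
      have ht : s t = Lg h 0 (a ^ (2 ^ (m + 1)) * a') := lf_spec h s hσ _
      have hY : s Y = Lg h d 0 := lf_spec h s hσ _
      have h1 : ⁅t, Y⁆ = 1 := comm_eq_one_iff.mpr (step2 h s hσ hm hY ht).symm
      rw [← hγ (a + a') d (X * X' * t) Y
        (by rw [map_mul, map_mul, hX, hX', ht, Lg_add_split h]) hY]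
      rw [comm_mul_left (by rw [h1, mul_one, one_mul]), h1, one_mul]
      rw [comm_mul_left (hZU X _ a 0 hX (comm_mem_Ahat h s ⟨a', 0, hX'⟩ ⟨d, 0, hY⟩))])
    (by
      intro a d d'
      apply Subtype.ext
      rw [Subgroup.coe_mul]
      change N (γ a (d + d')) = N (γ a d) * N (γ a d')
      rw [← hNmul]
      congr 1
      apply Subtype.ext
      rw [Subgroup.coe_mul]
      set X := lf h s hσ (Lg h a 0)
      set Y := lf h s hσ (Lg h d 0)
      set Y' := lf h s hσ (Lg h d' 0)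
      set t := lf h s hσ (Lg h 0 (d ^ (2 ^ (m + 1)) * d'))
      have hX : s X = Lg h a 0 := lf_spec h s hσ _
      have hY : s Y = Lg h d 0 := lf_spec h s hσ _
      have hY' : s Y' = Lg h d' 0 := lf_spec h s hσ _
      have ht : s t = Lg h 0 (d ^ (2 ^ (m + 1)) * d') := lf_spec h s hσ _
      have h1 : ⁅X, t⁆ = 1 := comm_eq_one_iff.mpr (step2 h s hσ hm hX ht)
      rw [← hγ a (d + d') X (Y * Y' * t) hX
        (by rw [map_mul, map_mul, hY, hY', ht, Lg_add_split h])]
      rw [comm_mul_right (by rw [h1, mul_one, one_mul]), h1, mul_one]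
      rw [comm_mul_right (hZU Y _ d 0 hY (comm_mem_Ahat h s ⟨a, 0, hX⟩ ⟨d', 0, hY'⟩))])
    (by
      intro k hk a d
      apply Subtype.ext
      change N (γ (k * a) (k ^ 1 * d)) = N (γ a d)
      let lu : Fˣ := Units.mk0 k hk
      have hlu : (lu : F) = k := rfl
      rw [← hNact lu (γ a d)]
      congr 1
      apply Subtype.ext
      rw [actA_coe]
      set g := lf h s hσ (Dg h lu) with hg
      have hgs : s g = Dg h lu := lf_spec h s hσ _
      change _ = g * ⁅lf h s hσ (Lg h a 0), lf h s hσ (Lg h d 0)⁆ * g⁻¹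
      rw [conj_commutator]
      symm
      apply hγ
      · simp only [map_mul, map_inv, hgs, lf_spec h s hσ]
        rw [Dg_conj_Lg h, hlu, mul_zero]
      · simp only [map_mul, map_inv, hgs, lf_spec h s hσ]
        rw [Dg_conj_Lg h, hlu, mul_zero, pow_one])
    hx0 hx1 hw
  have hN1 : ∀ a d, N (γ a d) = 1 := fun a d => congrArg Subtype.val (hall a d)
  let N' : Ahat h s →* Γ := MonoidHom.mk' N hNmul
  have hN' : ∀ x, N' x = N x := fun _ => rfl
  have hT : ∀ x ∈ Uhat h s, ∀ y ∈ Uhat h s, ⁅x, y⁆ ∈ N'.ker.map (Ahat h s).subtype := by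
    rintro x ⟨a, b, hx⟩ y ⟨d, e, hy⟩
    refine ⟨γ a d, ?_, ?_⟩
    · change N' (γ a d) = 1
      rw [hN', hN1]
    · change ⁅lf h s hσ (Lg h a 0), lf h s hσ (Lg h d 0)⁆ = ⁅x, y⁆
      set X := lf h s hσ (Lg h a 0)
      set Y := lf h s hσ (Lg h d 0)
      set t := lf h s hσ (Lg h 0 b)
      set t' := lf h s hσ (Lg h 0 e)
      have hX : s X = Lg h a 0 := lf_spec h s hσ _
      have hY : s Y = Lg h d 0 := lf_spec h s hσ _
      have ht : s t = Lg h 0 b := lf_spec h s hσ _
      have ht' : s t' = Lg h 0 e := lf_spec h s hσ _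
      have h1 : s (X * t) = s x := by rw [map_mul, hX, ht, ← Lg_split h, hx]
      have h2 : s (Y * t') = s y := by rw [map_mul, hY, ht', ← Lg_split h, hy]
      rw [← comm_congr s hσ.2.1 h1 h2]
      have h3 : ⁅t, Y * t'⁆ = 1 :=
        comm_eq_one_iff.mpr (hZU (Y * t') t d e (by rw [h2, hy]) ⟨b, ht⟩).symm
      have h4 : ⁅X, t'⁆ = 1 := comm_eq_one_iff.mpr (hZU X t' a 0 hX ⟨e, ht'⟩)
      rw [comm_mul_left (by rw [h3, mul_one, one_mul]), h3, one_mul,
        comm_mul_right (by rw [h4, mul_one, one_mul]), h4, mul_one]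
  have hle : (commutator (Uhat h s)).map (Uhat h s).subtype ≤ N'.ker.map (Ahat h s).subtype := by
    rw [Subgroup.map_subtype_commutator, Subgroup.commutator_le]
    exact hT
  obtain ⟨w, hw1, hw2⟩ := exists_mem_commutator (Uhat h s) (hσ.2.1 hz) (hσ.2.2 hz)
  obtain ⟨y, hy1, hy2⟩ := hle ⟨w, hw1, rfl⟩
  have hy3 : (y : Γ) = z ^ (Uhat h s).index := by
    rw [← hw2]; exact hy2
  have hy4 : (y : Γ) ∈ s.ker := by
    rw [hy3]; exact pow_mem hz _
  have hy5 := hNz y hy4
  have hy6 : N y = 1 := hy1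
  rw [hy6, hy3] at hy5
  rw [pow_mul]
  exact hy5.symm

/-- The odd part: the odd Sylow subgroups of `G` are cyclic. -/
theorem no_odd_prime [Finite Γ] {r : ℕ} [Fact r.Prime] (hr : r ≠ 2) {z : Γ} (hz : z ∈ s.ker)
    (hord : orderOf z = r) : False := by
  have : Finite (G F m) := finite_G
  let Q : Sylow r (G F m) := default
  have hcyc : IsCyclic Q := sylow_cyclic h hr Q
  obtain ⟨g, hg⟩ := IsCyclic.exists_generator (α := Q)
  let P : Subgroup Γ := (Q : Subgroup (G F m)).comap s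
  set t := lf h s hσ (g : G F m)
  have hts : s t = (g : G F m) := lf_spec h s hσ _
  have hpow : ∀ x ∈ P, ∃ i : ℤ, s x = s (t ^ i) := by
    intro x hx
    obtain ⟨i, hi⟩ := Subgroup.mem_zpowers_iff.mp (hg ⟨s x, hx⟩)
    refine ⟨i, ?_⟩
    rw [map_zpow, hts]
    have := congrArg Subtype.val hi
    simpa using this.symm
  have hP : ∀ x ∈ P, ∀ y ∈ P, ⁅x, y⁆ ∈ (⊥ : Subgroup Γ) := by
    intro x hx y hy
    obtain ⟨i, hi⟩ := hpow x hx
    obtain ⟨j, hj⟩ := hpow y hy
    rw [comm_congr s hσ.2.1 hi hj, Subgroup.mem_bot, comm_eq_one_iff]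
    exact ((Commute.refl t).zpow_zpow i j)
  have hle : (commutator P).map P.subtype ≤ ⊥ := by
    rw [Subgroup.map_subtype_commutator, Subgroup.commutator_le]
    exact hP
  obtain ⟨w, hw1, hw2⟩ := exists_mem_commutator P (hσ.2.1 hz) (hσ.2.2 hz)
  have hw3 : (w : Γ) = 1 := by
    have := hle ⟨w, hw1, rfl⟩
    simpa using this
  rw [hw3] at hw2
  have hd := orderOf_dvd_of_pow_eq_one hw2.symm
  rw [hord, Subgroup.index_comap_of_surjective _ hσ.1] at hd
  exact Q.not_dvd_index hd

/-- Stem extensions of `Sz(q)`, `q ≥ 32`, are isomorphisms. -/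
theorem ker_eq_bot [Finite Γ] (hm : 2 ≤ m) : s.ker = ⊥ := by
  have : Finite (G F m) := finite_G
  rw [eq_bot_iff]
  intro z hz
  rw [Subgroup.mem_bot]
  by_contra hne
  have hord1 : orderOf z ≠ 1 := fun hc => hne (orderOf_eq_one_iff.mp hc)
  let r := (orderOf z).minFac
  have hr : r.Prime := Nat.minFac_prime hord1
  haveI : Fact r.Prime := ⟨hr⟩
  have hrd : r ∣ orderOf z := Nat.minFac_dvd _
  have hpos : 0 < orderOf z := orderOf_pos z
  have hz' : z ^ (orderOf z / r) ∈ s.ker := pow_mem hz _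
  have hordz' : orderOf (z ^ (orderOf z / r)) = r := orderOf_pow_orderOf_div hpos.ne' hrd
  have hkey := key_two h s hσ hm hz
  have hdvd := orderOf_dvd_of_pow_eq_one hkey
  -- the index is odd
  have hidx : (Uhat h s).index = (Fintype.card F ^ 2 + 1) * (Fintype.card F - 1) := by
    rw [Subgroup.index_comap_of_surjective _ hσ.1]
    have h1 := Subgroup.card_mul_index (Usub h)
    rw [card_Usub h, card_G h, mul_assoc] at h1
    exact Nat.eq_of_mul_eq_mul_left (by have := Fintype.card_pos (α := F); positivity) h1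
  have hr2 : r ≠ 2 := by
    intro hc
    have h2 : 2 ∣ (Fintype.card F ^ 2 + 1) * (Fintype.card F - 1) * (Fintype.card F - 1) := by
      rw [← hidx, ← hc]; exact hrd.trans hdvd
    have hq : Even (2 ^ (2 * m + 1)) := (Nat.even_pow' (by omega)).mpr even_two
    rw [h.hF] at h2
    have hq1 : 1 ≤ 2 ^ (2 * m + 1) := Nat.one_le_two_pow
    have ho1 : Odd (2 ^ (2 * m + 1) - 1) := by
      obtain ⟨k, hk⟩ := hq
      exact ⟨k - 1, by omega⟩
    have ho2 : Odd ((2 ^ (2 * m + 1)) ^ 2 + 1) := by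
      apply Even.add_one
      exact hq.pow_of_ne_zero (by norm_num)
    have ho3 := (ho2.mul ho1).mul ho1
    exact (Nat.not_even_iff_odd.mpr ho3) (even_iff_two_dvd.mpr h2)
  exact no_odd_prime h s hσ hr2 hz' hordz'

end main

section final

variable {F : Type*} [Field F] [Fintype F] {m : ℕ} (h : Hyp F m)

include h in
/-- Schur multipliers of the Suzuki groups of order at least that of `Sz(32)` are trivial. -/
theorem hasSchurMultiplier_one (hm : 2 ≤ m) :
    Cfsg.HasCyclicSchurMultiplier ↥(Cfsg.Lie.Sz F (2 ^ (m + 1))) 1 := by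
  have : Finite (G F m) := finite_G
  let E := Cfsg.Agent.Lib.Suzuki.Iso.suzEquiv h
  have hfin : Finite ↥(Cfsg.Lie.Sz F (2 ^ (m + 1))) := Finite.of_equiv _ E.toEquiv
  have hkerall : ∀ (Γ : Type _) [_root_.Group Γ] [Finite Γ] (σ : Γ →* ↥(Cfsg.Lie.Sz F (2 ^ (m + 1)))),
      IsStemExtension σ → σ.ker = ⊥ := by
    intro Γ _ _ σ hσ
    let s : Γ →* G F m := E.symm.toMonoidHom.comp σ
    have hker : s.ker = σ.ker := by
      ext x
      simp [s, MonoidHom.mem_ker]
    have hs : IsStemExtension s := by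
      refine ⟨E.symm.surjective.comp hσ.1, ?_, ?_⟩
      · rw [hker]; exact hσ.2.1
      · rw [hker]; exact hσ.2.2
    rw [← hker]
    exact ker_eq_bot h s hs hm
  refine ⟨⟨↥(Cfsg.Lie.Sz F (2 ^ (m + 1))), inferInstance, hfin, MonoidHom.id _, ?_, ?_⟩, ?_⟩
  · have hk : (MonoidHom.id ↥(Cfsg.Lie.Sz F (2 ^ (m + 1)))).ker = ⊥ := MonoidHom.ker_id
    refine ⟨Function.surjective_id, ?_, ?_⟩
    · rw [hk]; exact bot_le
    · rw [hk]; exact bot_le
  · have hk : (MonoidHom.id ↥(Cfsg.Lie.Sz F (2 ^ (m + 1)))).ker = ⊥ := MonoidHom.ker_id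
    refine ⟨{ toFun := fun _ => 1, invFun := fun _ => 1, left_inv := ?_, right_inv := ?_, map_mul' := ?_ }⟩
    · intro x
      apply Subtype.ext
      have hx1 : ((x : ↥(Cfsg.Lie.Sz F (2 ^ (m + 1))))) = 1 := MonoidHom.mem_ker.mp x.2
      exact hx1.symm
    · intro x
      exact Subsingleton.elim _ _
    · intro x y
      simp
  · intro Γ _ _ σ hσ
    refine ⟨1, ?_⟩
    rintro ⟨x, hx⟩
    refine ⟨1, ?_⟩
    apply Subtype.ext
    have hx' := hx
    rw [hkerall Γ σ hσ] at hx'
    simpa using (Subgroup.mem_bot.mp hx').symm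

end final

end Cfsg.Agent.Lib.Suzuki.Stem
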