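import Mathlib

/-! The arithmetic at the heart of Suzuki's count of the tori. -/

set_option autoImplicit false
set_option linter.unusedSectionVars false
set_option linter.deprecated false
set_option linter.unusedSimpArgs false

namespace Cfsg.Agent.Lib.Suzuki.Arith

open scoped BigOperators

/-- Elementary facts on `q = 2^(2m+1)`. -/
theorem q_mod_three (m : ℕ) : 2 ^ (2 * m + 1) % 3 = 2 := by
  induction m with
  | zero => norm_num
  | succ n ih =>
    have : 2 ^ (2 * (n + 1) + 1) = 4 * 2 ^ (2 * n + 1) := by ring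
    rw [this]
    omega

theorem three_not_dvd_sq_add_one (m : ℕ) : ¬ 3 ∣ (2 ^ (2 * m + 1)) ^ 2 + 1 := by
  intro hc
  have h1 := q_mod_three m
  have h2 : (2 ^ (2 * m + 1)) ^ 2 % 3 = 1 := by
    rw [Nat.pow_mod, h1]
  omega

theorem three_not_dvd_card (m : ℕ) :
    ¬ 3 ∣ (2 ^ (2 * m + 1)) ^ 2 * ((2 ^ (2 * m + 1)) ^ 2 + 1) * (2 ^ (2 * m + 1) - 1) := by
  intro hc
  have hp : Nat.Prime 3 := Nat.prime_three
  have h1 := q_mod_three m
  rcases (hp.dvd_mul).mp hc with h2 | h2
  · rcases (hp.dvd_mul).mp h2 with h3 | h3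
    · have := hp.dvd_of_dvd_pow h3
      generalize 2 ^ (2 * m + 1) = q at h1 this
      omega
    · exact three_not_dvd_sq_add_one m h3
  · generalize 2 ^ (2 * m + 1) = q at h1 h2
    omega

theorem odd_sq_add_one (m : ℕ) : Odd ((2 ^ (2 * m + 1)) ^ 2 + 1) :=
  Even.add_one (Even.pow_of_ne_zero (Even.pow_of_ne_zero even_two (by omega)) (by omega))

/-- An element `a > 1` dividing `q² + 1` is at least `5`. -/
theorem five_le_of_dvd (m a : ℕ) (hd : a ∣ (2 ^ (2 * m + 1)) ^ 2 + 1) (ha : 1 < a) : 5 ≤ a := by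
  have hodd : Odd a := (odd_sq_add_one m).of_dvd_nat hd
  have h3 : a ≠ 3 := by
    rintro rfl
    exact three_not_dvd_sq_add_one m hd
  obtain ⟨k, rfl⟩ := hodd
  omega

/-- Solving the quadratic equation. -/
theorem solve_quad (m q ax ay : ℕ) (hq : q = 2 ^ (2 * m + 1)) (_hm : 1 ≤ m)
    (hprod : ax * ay = q ^ 2 + 1) (hsum : ax + ay = 2 * (q + 1)) :
    (ax = q + 2 ^ (m + 1) + 1 ∧ ay = q - 2 ^ (m + 1) + 1) ∨
      (ay = q + 2 ^ (m + 1) + 1 ∧ ax = q - 2 ^ (m + 1) + 1) := by
  obtain ⟨r, hr⟩ : ∃ r, r = 2 ^ m := ⟨_, rfl⟩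
  have hr1 : 1 ≤ r := by
    rw [hr]
    exact Nat.one_le_two_pow
  have hqr : q = 2 * r ^ 2 := by
    rw [hq, hr]
    ring
  have hsig : 2 ^ (m + 1) = 2 * r := by
    rw [hr]
    ring
  rw [hsig]
  clear hsig hq hr
  have hrq : 2 * r ≤ q := by
    rw [hqr]
    nlinarith
  have e0 : (ax : ℤ) + ay = 2 * ((q : ℤ) + 1) := by
    have : ((ax + ay : ℕ) : ℤ) = ((2 * (q + 1) : ℕ) : ℤ) := by rw [hsum]
    push_cast at this
    linarith
  have e2 : (ax : ℤ) * ay = (q : ℤ) ^ 2 + 1 := by
    have : ((ax * ay : ℕ) : ℤ) = ((q ^ 2 + 1 : ℕ) : ℤ) := by rw [hprod]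
    push_cast at this
    linarith
  have e3 : (q : ℤ) = 2 * (r : ℤ) ^ 2 := by
    rw [hqr]
    push_cast
    ring
  have e1 : (ay : ℤ) = 2 * ((q : ℤ) + 1) - ax := by linarith
  have hx2 : ((ax : ℤ) - ((q : ℤ) + 1)) ^ 2 = (2 * (r : ℤ)) ^ 2 := by
    rw [e1] at e2
    have e4 : (2 * (r : ℤ)) ^ 2 = 2 * (q : ℤ) := by
      rw [e3]
      ring
    rw [e4]
    linarith
  have hsubz : ((q - 2 * r : ℕ) : ℤ) = (q : ℤ) - 2 * r := by
    rw [Nat.cast_sub hrq]
    push_cast
    ring
  rcases sq_eq_sq_iff_eq_or_eq_neg.mp hx2 with h3 | h3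
  · left
    constructor
    · zify
      linarith
    · zify
      rw [hsubz]
      linarith
  · right
    constructor
    · zify
      linarith
    · zify
      rw [hsubz]
      linarith

/-- The main arithmetic statement. -/
theorem arith {Ω : Type*} [Fintype Ω] {m : ℕ} (hm : 1 ≤ m) (a e o : Ω → ℕ) (q : ℕ)
    (hq : q = 2 ^ (2 * m + 1))
    (hdvd : ∀ ω, a ω ∣ q ^ 2 + 1) (ha1 : ∀ ω, 1 < a ω) (he : ∀ ω, e ω = 1 ∨ e ω = 2 ∨ e ω = 4)
    (ho : ∀ ω, o ω * (a ω * e ω) = q ^ 2 * (q ^ 2 + 1) * (q - 1))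
    (X : ℕ) (hX : X = ∑ ω, o ω * (a ω - 1)) (h2X : 2 * X + q ^ 2 * (q ^ 2 - 1) = q ^ 2 * (q ^ 2 + 1) * (q - 1))
    (hcop : ∀ ω ω', ω ≠ ω' → Nat.Coprime (a ω) (a ω')) :
    ∃ ω₁ ω₂, ω₁ ≠ ω₂ ∧ (∀ ω, ω = ω₁ ∨ ω = ω₂) ∧ e ω₁ = 4 ∧ e ω₂ = 4 ∧
      a ω₁ = q + 2 ^ (m + 1) + 1 ∧ a ω₂ = q - 2 ^ (m + 1) + 1 := by
  classical
  have hq8 : 8 ≤ q := by
    rw [hq]
    calc 8 = 2 ^ 3 := rfl
      _ ≤ 2 ^ (2 * m + 1) := Nat.pow_le_pow_right (by norm_num) (by omega)
  have ha5 : ∀ ω, 5 ≤ a ω := fun ω => five_le_of_dvd m (a ω) (hq ▸ hdvd ω) (ha1 ω)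
  have he0 : ∀ ω, 0 < e ω := by
    intro ω
    rcases he ω with h | h | h <;> omega
  -- rational quantities
  set Q : ℚ := (q : ℚ) with hQ
  have hQ8 : (8 : ℚ) ≤ Q := by
    rw [hQ]
    exact_mod_cast hq8
  set D : ℚ := Q ^ 2 + 1 with hD
  have hDpos : 0 < D := by positivity
  set t : Ω → ℚ := fun ω => ((a ω : ℚ) - 1) / ((a ω : ℚ) * (e ω : ℚ)) with ht
  have hq1 : 1 ≤ q := by omega
  have hq21 : 1 ≤ q ^ 2 := Nat.one_le_pow _ _ (by omega)
  set GG : ℚ := Q ^ 2 * D * (Q - 1) with hGG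
  have hGGpos : 0 < GG := by
    apply mul_pos (mul_pos (by positivity) hDpos)
    linarith
  have hoq : ∀ ω, (o ω : ℚ) * ((a ω : ℚ) - 1) = GG * t ω := by
    intro ω
    have h1 := ho ω
    have h2 : (o ω : ℚ) * ((a ω : ℚ) * (e ω : ℚ)) = GG := by
      have := congrArg (fun n : ℕ => (n : ℚ)) h1
      beta_reduce at this
      push_cast [Nat.cast_sub hq1] at this
      rw [this, hGG, hD]
    have hapos : (0 : ℚ) < a ω := by
      have := ha5 ω
      exact_mod_cast (by omega : 0 < a ω)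
    have hepos : (0 : ℚ) < e ω := by exact_mod_cast he0 ω
    rw [ht, ← h2]
    simp only
    field_simp
  have hXq : (X : ℚ) = GG * ∑ ω, t ω := by
    rw [hX, Finset.mul_sum]
    push_cast
    apply Finset.sum_congr rfl
    intro ω _
    rw [Nat.cast_sub (by have := ha5 ω; omega)]
    push_cast
    exact hoq ω
  have h2Xq : 2 * (X : ℚ) + Q ^ 2 * (Q ^ 2 - 1) = GG := by
    have := congrArg (fun n : ℕ => (n : ℚ)) h2X
    beta_reduce at this
    push_cast [Nat.cast_sub hq1, Nat.cast_sub hq21] at this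
    rw [hGG, hD, hQ]
    exact this
  -- the value of the sum
  have hsum : ∑ ω, t ω = 1 / 2 - (Q + 1) / (2 * D) := by
    have hQ1 : Q - 1 ≠ 0 := by linarith
    have hQ0 : Q ≠ 0 := by linarith
    rw [hXq] at h2Xq
    have h3 : (2 * GG) * ((∑ ω, t ω) - (1 / 2 - (Q + 1) / (2 * D))) = 0 := by
      have e1 : GG * ((Q + 1) / D) = Q ^ 2 * (Q ^ 2 - 1) := by
        rw [hGG]
        field_simp
        ring
      have e2 : (2 * GG) * ((∑ ω, t ω) - (1 / 2 - (Q + 1) / (2 * D))) =
          2 * (GG * ∑ ω, t ω) + GG * ((Q + 1) / D) - GG := by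
        field_simp
        ring
      rw [e2, e1]
      linarith
    have h4 : (∑ ω, t ω) - (1 / 2 - (Q + 1) / (2 * D)) = 0 := by
      rcases mul_eq_zero.mp h3 with h5 | h5
      · exfalso
        linarith
      · exact h5
    linarith
  have hsmall : (Q + 1) / (2 * D) ≤ 1 / 10 := by
    rw [div_le_div_iff₀ (by positivity) (by norm_num)]
    rw [hD]
    nlinarith
  have hsmallpos : 0 < (Q + 1) / (2 * D) := by positivity
  -- lower bounds on the terms
  have hta : ∀ ω, ((a ω : ℚ) - 1) / (a ω : ℚ) ≥ 4 / 5 := by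
    intro ω
    have h5 : (5 : ℚ) ≤ a ω := by exact_mod_cast ha5 ω
    rw [ge_iff_le, div_le_div_iff₀ (by norm_num) (by linarith)]
    linarith
  have htform : ∀ ω, t ω = (((a ω : ℚ) - 1) / (a ω : ℚ)) / (e ω : ℚ) := by
    intro ω
    rw [ht]
    simp only
    rw [div_div]
  have hta1 : ∀ ω, ((a ω : ℚ) - 1) / (a ω : ℚ) < 1 := by
    intro ω
    have h5 : (0 : ℚ) < a ω := by
      have := ha5 ω
      exact_mod_cast (by omega : 0 < a ω)
    rw [div_lt_one h5]
    linarith
  have ht5 : ∀ ω, t ω ≥ 1 / 5 := by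
    intro ω
    rw [htform]
    have := hta ω
    rcases he ω with h | h | h <;> rw [h] <;> norm_num <;> linarith
  have ht1 : ∀ ω, e ω = 1 → t ω ≥ 4 / 5 := by
    intro ω h
    rw [htform, h]
    have := hta ω
    norm_num
    linarith
  have ht2 : ∀ ω, e ω = 2 → t ω ≥ 2 / 5 := by
    intro ω h
    rw [htform, h]
    have := hta ω
    norm_num
    linarith
  have ht4 : ∀ ω, e ω = 4 → t ω < 1 / 4 := by
    intro ω h
    rw [htform, h]
    have := hta1 ω
    norm_num
    linarith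
  -- at most two classes
  have hcard : Fintype.card Ω ≤ 2 := by
    have h1 : (Finset.univ : Finset Ω).card • (1 / 5 : ℚ) ≤ ∑ ω, t ω :=
      Finset.card_nsmul_le_sum _ _ _ (fun ω _ => ht5 ω)
    rw [hsum, Finset.card_univ, nsmul_eq_mul] at h1
    by_contra hcon
    have h3 : (3 : ℚ) ≤ Fintype.card Ω := by
      exact_mod_cast (by omega : 3 ≤ Fintype.card Ω)
    nlinarith
  have hcases : Fintype.card Ω = 0 ∨ Fintype.card Ω = 1 ∨ Fintype.card Ω = 2 := by omega
  rcases hcases with h0 | h1 | h2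
  · exfalso
    rw [Fintype.card_eq_zero_iff] at h0
    rw [Fintype.sum_empty] at hsum
    linarith
  · exfalso
    obtain ⟨x, hx⟩ := Fintype.card_eq_one_iff.mp h1
    have h3 : ∑ ω, t ω = t x := by
      apply Fintype.sum_eq_single
      intro ω hω
      exact absurd (hx ω) hω
    rw [h3] at hsum
    rcases he x with h | h | h
    · have := ht1 x h
      linarith
    · -- the interesting case
      have hax : (0 : ℚ) < a x := by
        have := ha5 x
        exact_mod_cast (by omega : 0 < a x)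
      have h4 : (a x : ℚ) * (Q + 1) = D := by
        have h5 : ((a x : ℚ) - 1) / ((a x : ℚ) * 2) = 1 / 2 - (Q + 1) / (2 * D) := by
          rw [← hsum, ht]
          simp only
          rw [h]
          norm_num
        field_simp at h5
        linarith
      have h6 : a x * (q + 1) = q ^ 2 + 1 := by
        have : ((a x * (q + 1) : ℕ) : ℚ) = ((q ^ 2 + 1 : ℕ) : ℚ) := by
          push_cast
          rw [← hQ]
          linarith
        exact_mod_cast this
      have h7 : q + 1 ∣ q ^ 2 + 1 := ⟨a x, by rw [← h6]; ring⟩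
      have h8 : q ^ 2 + 1 = (q + 1) * (q - 1) + 2 := by
        obtain ⟨p, rfl⟩ : ∃ p, q = p + 1 := ⟨q - 1, by omega⟩
        simp only [Nat.add_sub_cancel]
        ring
      rw [h8] at h7
      have h9 : q + 1 ∣ 2 := (Nat.dvd_add_right (Dvd.intro _ rfl)).mp h7
      have := Nat.le_of_dvd (by norm_num) h9
      omega
    · have := ht4 x h
      linarith
  · obtain ⟨x, y, hxy, huniv⟩ := Finset.card_eq_two.mp (by rw [Finset.card_univ]; exact h2 :
        (Finset.univ : Finset Ω).card = 2)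
    have hall : ∀ ω, ω = x ∨ ω = y := by
      intro ω
      have := Finset.mem_univ ω
      rw [huniv] at this
      simpa using this
    have hsum2 : ∑ ω, t ω = t x + t y := by
      rw [← Finset.sum_pair hxy]
      apply Finset.sum_congr _ (fun _ _ => rfl)
      ext ω
      simp [hall ω]
    rw [hsum2] at hsum
    have hex : e x = 4 := by
      rcases he x with h | h | h
      · have := ht1 x h
        have := ht5 y
        linarith
      · have := ht2 x h
        have := ht5 y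
        linarith
      · exact h
    have hey : e y = 4 := by
      rcases he y with h | h | h
      · have := ht1 y h
        have := ht5 x
        linarith
      · have := ht2 y h
        have := ht5 x
        linarith
      · exact h
    have hax : (0 : ℚ) < a x := by
      have := ha5 x
      exact_mod_cast (by omega : 0 < a x)
    have hay : (0 : ℚ) < a y := by
      have := ha5 y
      exact_mod_cast (by omega : 0 < a y)
    have hq' : ((a x : ℚ) + a y) * D = 2 * (Q + 1) * ((a x : ℚ) * a y) := by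
      rw [ht] at hsum
      simp only at hsum
      rw [hex, hey] at hsum
      push_cast at hsum
      field_simp at hsum
      linarith
    have hnat : (a x + a y) * (q ^ 2 + 1) = 2 * (q + 1) * (a x * a y) := by
      have : (((a x + a y) * (q ^ 2 + 1) : ℕ) : ℚ) = ((2 * (q + 1) * (a x * a y) : ℕ) : ℚ) := by
        push_cast
        rw [← hQ]
        rw [hD] at hq'
        linarith
      exact_mod_cast this
    have hco := hcop x y hxy
    have hdv1 : a x * a y ∣ q ^ 2 + 1 := Nat.Coprime.mul_dvd_of_dvd_of_dvd hco (hdvd x) (hdvd y)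
    have hoddD : Odd (q ^ 2 + 1) := by
      rw [hq]
      exact odd_sq_add_one m
    have hcoD : Nat.Coprime (q ^ 2 + 1) (2 * (q + 1)) := by
      have h8 : q ^ 2 + 1 = (q + 1) * (q - 1) + 2 := by
        obtain ⟨p, rfl⟩ : ∃ p, q = p + 1 := ⟨q - 1, by omega⟩
        simp only [Nat.add_sub_cancel]
        ring
      apply Nat.Coprime.mul_right
      · exact Nat.coprime_two_right.mpr hoddD
      · have hodd2 : Odd (q + 1) := by
          rw [hq]
          exact Even.add_one (Even.pow_of_ne_zero even_two (by omega))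
        have h10 : Nat.gcd (q ^ 2 + 1) (q + 1) ∣ 2 := by
          have h11 : Nat.gcd (q ^ 2 + 1) (q + 1) ∣ (q + 1) * (q - 1) + 2 := by
            rw [← h8]
            exact Nat.gcd_dvd_left (q ^ 2 + 1) (q + 1)
          have h12 := Nat.gcd_dvd_right (q ^ 2 + 1) (q + 1)
          have h13 : Nat.gcd (q ^ 2 + 1) (q + 1) ∣ (q + 1) * (q - 1) := Dvd.dvd.mul_right h12 _
          exact (Nat.dvd_add_right h13).mp h11
        have h14 : Odd (Nat.gcd (q ^ 2 + 1) (q + 1)) := hodd2.of_dvd_nat (Nat.gcd_dvd_right _ _)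
        have h15 := (Nat.dvd_prime Nat.prime_two).mp h10
        rcases h15 with h16 | h16
        · exact h16
        · rw [h16] at h14
          exact absurd h14 (by decide)
    have hdv2 : q ^ 2 + 1 ∣ a x * a y := by
      apply hcoD.dvd_of_dvd_mul_left
      exact ⟨a x + a y, by rw [← hnat]; ring⟩
    have hprod : a x * a y = q ^ 2 + 1 := Nat.dvd_antisymm hdv1 hdv2
    have hsumxy : a x + a y = 2 * (q + 1) := by
      rw [hprod] at hnat
      exact Nat.eq_of_mul_eq_mul_right (by positivity) hnat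
    rcases solve_quad m q (a x) (a y) hq hm hprod hsumxy with ⟨h3, h4⟩ | ⟨h3, h4⟩
    · exact ⟨x, y, hxy, hall, hex, hey, h3, h4⟩
    · exact ⟨y, x, hxy.symm, fun ω => (hall ω).symm, hey, hex, h3, h4⟩

end Cfsg.Agent.Lib.Suzuki.Arith
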