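import Mathlib

/-! Subfields of a finite field of characteristic 2. -/

set_option autoImplicit false
set_option linter.unusedSectionVars false
set_option linter.deprecated false
set_option linter.unusedSimpArgs false

namespace Cfsg.Agent.Lib.Suzuki.Subfield

variable {F : Type*} [Field F] [Fintype F]

/-- The field `F` of order `2^N` has a subfield of order `2^n` for `n ∣ N`. -/
theorem exists_subfield [CharP F 2] {N n : ℕ} (hF : Fintype.card F = 2 ^ N) (hn : n ∣ N) (hN : 0 < N) :
    ∃ K : Subfield F, Nat.card K = 2 ^ n ∧ ∀ x : F, x ∈ K ↔ x ^ (2 ^ n) = x := by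
  classical
  have hp : Fact (Nat.Prime 2) := ⟨Nat.prime_two⟩
  let K : Subfield F := (iterateFrobenius F 2 n).eqLocusField (RingHom.id F)
  have hK : ∀ x : F, x ∈ K ↔ x ^ (2 ^ n) = x := by
    intro x
    rw [RingHom.mem_eqLocusField]
    simp [iterateFrobenius_def]
  refine ⟨K, ?_, hK⟩
  have hn0 : 0 < n := Nat.pos_of_dvd_of_pos hn hN
  have hd : 2 ^ n - 1 ∣ 2 ^ N - 1 := by
    obtain ⟨d, rfl⟩ := hn
    rw [pow_mul]
    simpa using Nat.sub_dvd_pow_sub_pow (2 ^ n) 1 d
  have hcU : Nat.card Fˣ = 2 ^ N - 1 := by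
    rw [Nat.card_eq_fintype_card, Fintype.card_units, hF]
  have hker : Nat.card (powMonoidHom (2 ^ n - 1) : Fˣ →* Fˣ).ker = 2 ^ n - 1 := by
    rw [IsCyclic.card_powMonoidHom_ker, hcU, Nat.gcd_eq_right hd]
  have hpos : 1 ≤ 2 ^ n := Nat.one_le_two_pow
  let f : Option (powMonoidHom (2 ^ n - 1) : Fˣ →* Fˣ).ker → K := fun o =>
    match o with
    | none => 0
    | some u => ⟨((u : Fˣ) : F), by
        rw [hK]
        have h1 : ((u : Fˣ)) ^ (2 ^ n - 1) = 1 := u.2
        have h2 : ((u : Fˣ) : F) ^ (2 ^ n - 1) = 1 := by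
          have := congrArg Units.val h1
          simpa using this
        calc ((u : Fˣ) : F) ^ (2 ^ n) = ((u : Fˣ) : F) ^ (2 ^ n - 1 + 1) := by
              rw [Nat.sub_add_cancel hpos]
          _ = _ := by rw [pow_succ, h2, one_mul]⟩
  have hf : Function.Bijective f := by
    constructor
    · intro a b he
      rcases a with _ | a <;> rcases b with _ | b
      · rfl
      · exfalso
        have h1 : (0 : F) = ((b : Fˣ) : F) := congrArg Subtype.val he
        exact (b : Fˣ).ne_zero h1.symm
      · exfalso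
        have h1 : ((a : Fˣ) : F) = 0 := congrArg Subtype.val he
        exact (a : Fˣ).ne_zero h1
      · have h1 : ((a : Fˣ) : F) = ((b : Fˣ) : F) := congrArg Subtype.val he
        congr 1
        exact Subtype.ext (Units.ext h1)
    · rintro ⟨x, hx⟩
      by_cases h0 : x = 0
      · subst h0
        exact ⟨none, rfl⟩
      · have hx' := (hK x).mp hx
        have h1 : x ^ (2 ^ n - 1) = 1 := by
          have h2 : x ^ (2 ^ n - 1) * x = 1 * x := by
            rw [← pow_succ, Nat.sub_add_cancel hpos, hx', one_mul]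
          exact mul_right_cancel₀ h0 h2
        refine ⟨some ⟨Units.mk0 x h0, ?_⟩, rfl⟩
        rw [MonoidHom.mem_ker, powMonoidHom_apply]
        apply Units.ext
        simpa using h1
  rw [← Nat.card_congr (Equiv.ofBijective f hf), Finite.card_option, hker, Nat.sub_add_cancel hpos]

/-- A subfield of order `2^n` forces `n ∣ N`. -/
theorem dvd_of_subfield {N n : ℕ} (hF : Fintype.card F = 2 ^ N) (K : Subfield F)
    (hK : Nat.card K = 2 ^ n) : n ∣ N := by
  classical
  have : Fintype K := Fintype.ofFinite _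
  have h1 : Fintype.card F = Fintype.card K ^ Module.finrank K F := Module.card_eq_pow_finrank
  rw [← Nat.card_eq_fintype_card (α := K), hK, hF, ← pow_mul] at h1
  exact ⟨_, Nat.pow_right_injective (le_refl 2) h1⟩

end Cfsg.Agent.Lib.Suzuki.Subfield
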