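import Cfsg.Agent.Lib.Suzuki.SubEmb
import Cfsg.Agent.Lib.Suzuki.Subfield

/-! The classification of subgroups of the Suzuki group. -/

set_option autoImplicit false
set_option linter.unusedSectionVars false
set_option linter.deprecated false
set_option linter.unusedSimpArgs false

namespace Cfsg.Agent.Lib.Suzuki.Classify

open Cfsg.Agent.Lib.Suzuki.Basic Cfsg.Agent.Lib.Suzuki.Group Cfsg.Agent.Lib.Suzuki.Struct
  Cfsg.Agent.Lib.Suzuki.Order Cfsg.Agent.Lib.Suzuki.Zass Cfsg.Agent.Lib.Suzuki.Sub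
  Cfsg.Agent.Lib.Suzuki.Syl Cfsg.Agent.Lib.Suzuki.Gen Cfsg.Agent.Lib.Suzuki.Fix
  Cfsg.Agent.Lib.Suzuki.Cent Cfsg.Agent.Lib.Suzuki.Types Cfsg.Agent.Lib.Suzuki.Tori1
  Cfsg.Agent.Lib.Suzuki.Tori2 Cfsg.Agent.Lib.Suzuki.Tori3 Cfsg.Agent.Lib.Suzuki.Part
  Cfsg.Agent.Lib.Suzuki.SubAbs Cfsg.Agent.Lib.Suzuki.SubG Cfsg.Agent.Lib.Suzuki.SubOdd
  Cfsg.Agent.Lib.Suzuki.SubMain Cfsg.Agent.Lib.Suzuki.SubEmb
open scoped Pointwise BigOperators commutatorElement

variable {F : Type*} [Field F] [Fintype F] {m : ℕ} (h : Hyp F m)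
include h

/-- Trichotomy for all subgroups. -/
theorem classify3 (M : Subgroup (G F m)) :
    (∃ w : Om F m, ∀ g ∈ M, g • w = w) ∨
    (∃ X : Subgroup (G F m), IsCyclic X ∧ Nat.card X ∈ cards m ∧ M ≤ Subgroup.normalizer (X : Set (G F m))) ∨
    (∃ x : G F m, Pre h (M.map (MulAut.conj x).toMonoidHom)) := by
  have : Finite (G F m) := finite_G
  by_cases hinv : ∃ z ∈ M, IsInv z
  · obtain ⟨z, hzM, hz⟩ := hinv
    exact even_classify h hzM hz
  · by_cases hbot : M = ⊥
    · left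
      refine ⟨oI, fun g hg => ?_⟩
      rw [hbot, Subgroup.mem_bot] at hg
      rw [hg, one_smul]
    · right; left
      have hodd : Odd (Nat.card M) := by
        rw [← Nat.not_even_iff_odd, even_iff_two_dvd]
        intro h2
        have : Fact (Nat.Prime 2) := ⟨Nat.prime_two⟩
        obtain ⟨z, hz⟩ := exists_prime_orderOf_dvd_card' 2 h2
        apply hinv
        refine ⟨z.1, z.2, isInv_coe.mp ?_⟩
        refine ⟨?_, ?_⟩
        · intro hc
          rw [hc, orderOf_one] at hz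
          exact absurd hz (by norm_num)
        · rw [← pow_two, ← hz, pow_orderOf_eq_one]
      exact le_of_odd_normal h hbot hodd Subgroup.le_normalizer

/-- The order of a subfield. -/
theorem subfield_card (K₁ : Subfield F) : ∃ j, Nat.card K₁ = 2 ^ j ∧ j ∣ 2 * m + 1 := by
  have h1 : Nat.card K₁ ∣ Nat.card F :=
    AddSubgroup.card_addSubgroup_dvd_card (K₁.toSubring.toAddSubgroup)
  rw [Nat.card_eq_fintype_card (α := F), h.hF] at h1
  obtain ⟨j, -, hj⟩ := (Nat.dvd_prime_pow Nat.prime_two).mp h1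
  exact ⟨j, hj, Subfield.dvd_of_subfield h.hF K₁ hj⟩

/-- The elements of a subfield of order `2^j`. -/
theorem subfield_iff (K₁ : Subfield F) {j : ℕ} (hj : Nat.card K₁ = 2 ^ j) (hd : j ∣ 2 * m + 1) (x : F) :
    x ∈ K₁ ↔ x ^ (2 ^ j) = x := by
  have hc := h.charP
  obtain ⟨K₀, hcard, hK₀⟩ := Subfield.exists_subfield h.hF hd (by omega)
  have : Fintype K₁ := Fintype.ofFinite _
  have hpow : ∀ y ∈ K₁, y ^ (2 ^ j) = y := by
    intro y hy
    have h1 := FiniteField.pow_card (⟨y, hy⟩ : K₁)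
    rw [← Nat.card_eq_fintype_card, hj] at h1
    exact congrArg Subtype.val h1
  constructor
  · exact hpow x
  · intro hx
    let f : K₁ → K₀ := fun y => ⟨y.1, (hK₀ y.1).mpr (hpow y.1 y.2)⟩
    have hinj : Function.Injective f := by
      intro a b he
      have he' : (f a).1 = (f b).1 := congrArg Subtype.val he
      exact Subtype.ext he'
    have hsurj := (Function.Injective.bijective_of_nat_card_le hinj (by rw [hj, hcard])).2
    obtain ⟨y, hy⟩ := hsurj ⟨x, (hK₀ x).mpr hx⟩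
    have : y.1 = x := congrArg Subtype.val hy
    rw [← this]
    exact y.2

/-- The data of a subgroup in normal form. -/
theorem pre_data {M : Subgroup (G F m)} (P : Pre h M) :
    ∃ k, 1 ≤ k ∧ 2 * k + 1 ∣ 2 * m + 1 ∧ Nat.card (Kf h P) = 2 ^ (2 * k + 1) := by
  obtain ⟨j, hj, hd⟩ := subfield_card h (Kf h P)
  have hodd : Odd j := by
    have h1 : Odd (2 * m + 1) := ⟨m, rfl⟩
    exact h1.of_dvd_nat hd
  obtain ⟨k, rfl⟩ := hodd
  refine ⟨k, ?_, hd, hj⟩
  by_contra hk
  have hk0 : k = 0 := by omega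
  subst hk0
  have := card_Kf h P
  rw [hj] at this
  norm_num at this

/-- Embeddings onto a subfield. -/
theorem exists_iota {K' : Type*} [Field K'] [Fintype K'] {n : ℕ} (hK' : Fintype.card K' = 2 ^ n)
    (K₁ : Subfield F) (hK₁ : Nat.card K₁ = 2 ^ n) :
    ∃ ι : K' →+* F, ∀ x : F, x ∈ K₁ ↔ x ∈ Set.range ι := by
  have : Fintype K₁ := Fintype.ofFinite _
  have hc : Fintype.card K' = Fintype.card K₁ := by
    rw [hK', ← hK₁, Nat.card_eq_fintype_card]
  let e : K' ≃+* K₁ := FiniteField.ringEquivOfCardEq hc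
  refine ⟨K₁.subtype.comp e.toRingHom, fun x => ?_⟩
  constructor
  · intro hx
    refine ⟨e.symm ⟨x, hx⟩, ?_⟩
    simp
  · rintro ⟨a, rfl⟩
    exact (e a).2

/-- The commutator of elements of a conjugate of the Borel subgroup lies in the conjugate of `U`. -/
theorem stab_commutator {w : Om F m} {g₁ g₂ : G F m} (h1 : g₁ • w = w) (h2 : g₂ • w = w) :
    ⁅g₁, g₂⁆ ∈ Uw h w := by
  have hBU : ∀ g : G F m, g • w = w → ∃ (a b : F) (u : Fˣ), (mv h w)⁻¹ * g * mv h w = Lg h a b * Dg h u := by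
    intro g hg
    apply stab_oI h
    rw [mul_smul, mul_smul, mv_spec, hg, inv_smul_eq_iff, mv_spec]
  obtain ⟨a, b, u, he₁⟩ := hBU g₁ h1
  obtain ⟨c, d, v, he₂⟩ := hBU g₂ h2
  have hc : (mv h w)⁻¹ * ⁅g₁, g₂⁆ * mv h w ∈ Usub h := by
    have e : (mv h w)⁻¹ * ⁅g₁, g₂⁆ * mv h w =
        ((mv h w)⁻¹ * g₁ * mv h w) * ((mv h w)⁻¹ * g₂ * mv h w) *
          (((mv h w)⁻¹ * g₂ * mv h w) * ((mv h w)⁻¹ * g₁ * mv h w))⁻¹ := by
      rw [commutatorElement_def]
      group
    rw [e, he₁, he₂]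
    have e1 : Lg h a b * Dg h u * (Lg h c d * Dg h v) =
        Lg h a b * (Dg h u * Lg h c d) * Dg h v := by group
    have e2 : Lg h c d * Dg h v * (Lg h a b * Dg h u) =
        Lg h c d * (Dg h v * Lg h a b) * Dg h u := by group
    rw [e1, e2, Dg_mul_Lg h, Dg_mul_Lg h]
    have e3 : Lg h a b * (Lg h ((u : F) * c) ((u : F) ^ 2 ^ (m + 1) * (u : F) * d) * Dg h u) * Dg h v *
        (Lg h c d * (Lg h ((v : F) * a) ((v : F) ^ 2 ^ (m + 1) * (v : F) * b) * Dg h v) * Dg h u)⁻¹ =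
        Lg h a b * Lg h ((u : F) * c) ((u : F) ^ 2 ^ (m + 1) * (u : F) * d) * (Dg h u * Dg h v *
          (Dg h v * Dg h u)⁻¹) *
          (Lg h c d * Lg h ((v : F) * a) ((v : F) ^ 2 ^ (m + 1) * (v : F) * b))⁻¹ := by group
    rw [e3, Dg_mul h, Dg_mul h, mul_comm u v, mul_inv_cancel, mul_one]
    exact (Usub h).mul_mem ((Usub h).mul_mem ⟨_, _, rfl⟩ ⟨_, _, rfl⟩)
      ((Usub h).inv_mem ((Usub h).mul_mem ⟨_, _, rfl⟩ ⟨_, _, rfl⟩))
  exact ⟨_, hc, by
    change mv h w * ((mv h w)⁻¹ * ⁅g₁, g₂⁆ * mv h w) * (mv h w)⁻¹ = _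
    group⟩

omit h in
/-- The order of the group of `K`. -/
theorem card_G_eq {K : Type*} [Field K] [Fintype K] {k : ℕ} (hK : Hyp K k) :
    Nat.card (G K k) = (2 ^ (2 * k + 1)) ^ 2 * ((2 ^ (2 * k + 1)) ^ 2 + 1) * (2 ^ (2 * k + 1) - 1) := by
  rw [card_G hK, hK.hF]

/-- A perfect subgroup of a point stabiliser lies in a conjugate of `U`. -/
theorem perfect_stab_le {S : Subgroup (G F m)} (hperf : commutator S = ⊤) {w : Om F m}
    (hw : ∀ g ∈ S, g • w = w) : S ≤ Uw h w := by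
  have hle : commutator S ≤ (Uw h w).subgroupOf S := by
    rw [commutator_def, Subgroup.commutator_le]
    rintro ⟨s, hs⟩ - ⟨t, ht⟩ -
    rw [Subgroup.mem_subgroupOf]
    exact stab_commutator h (hw s hs) (hw t ht)
  intro s hs
  have h1 : (⟨s, hs⟩ : S) ∈ (Uw h w).subgroupOf S := by
    apply hle
    rw [hperf]
    exact Subgroup.mem_top _
  exact Subgroup.mem_subgroupOf.mp h1

theorem card_Uw (w : Om F m) : Nat.card (Uw h w) = (2 ^ (2 * m + 1)) ^ 2 := by
  rw [Uw, card_map_conj h, card_Usub h, h.hF]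

/-- A subgroup isomorphic to a Suzuki group is in normal form up to conjugacy. -/
theorem pre_of_iso {K : Type*} [Field K] [Fintype K] {k : ℕ} (hK : Hyp K k) {S : Subgroup (G F m)}
    (e : S ≃* G K k) : ∃ x : G F m, Pre h (S.map (MulAut.conj x).toMonoidHom) := by
  have : Finite (G F m) := finite_G
  have : Finite (G K k) := finite_G
  have hperf : commutator S = ⊤ := commutator_top_of_equiv e (commutator_eq_top hK)
  have hcS : Nat.card S = (2 ^ (2 * k + 1)) ^ 2 * ((2 ^ (2 * k + 1)) ^ 2 + 1) * (2 ^ (2 * k + 1) - 1) := by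
    rw [Nat.card_congr e.toEquiv, card_G_eq hK]
  have hs4 : 2 ≤ 2 ^ (2 * k + 1) := by
    calc 2 = 2 ^ 1 := rfl
      _ ≤ 2 ^ (2 * k + 1) := Nat.pow_le_pow_right (by norm_num) (by omega)
  rcases classify3 h S with ⟨w, hw⟩ | ⟨X, hXc, hXcard, hSX⟩ | hpre
  · exfalso
    have hle := perfect_stab_le h hperf hw
    have hd := Subgroup.card_dvd_of_le hle
    rw [card_Uw h, hcS] at hd
    have h1 : (2 ^ (2 * k + 1)) ^ 2 + 1 ∣ 2 ^ ((2 * m + 1) * 2) := by
      rw [pow_mul]
      exact ((Dvd.intro_left _ rfl).trans (Dvd.intro _ rfl)).trans hd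
    obtain ⟨i, -, hi⟩ := (Nat.dvd_prime_pow Nat.prime_two).mp h1
    have h2 : Odd ((2 ^ (2 * k + 1)) ^ 2 + 1) := Arith.odd_sq_add_one k
    rw [hi] at h2
    rcases i with _ | i
    · have h3 := hi
      rw [pow_zero] at h3
      have : 0 < (2 ^ (2 * k + 1)) ^ 2 := by positivity
      omega
    · rw [pow_succ] at h2
      exact (Nat.not_even_iff_odd.mpr h2) (even_two.mul_left _)
  · exfalso
    obtain ⟨hodd, h1⟩ := cards_odd h.hm hXcard
    have hnt : Nontrivial X := Finite.one_lt_card_iff_nontrivial.mp h1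
    obtain ⟨g, hg⟩ := exists_ne (1 : X)
    have hg1 : (g : G F m) ≠ 1 := fun hc => hg (Subtype.ext hc)
    have hcen := perfect_centralizes S X hXc hSX hperf
    have hog : Odd (orderOf (g : G F m)) := hodd.of_dvd_nat (Subgroup.orderOf_dvd_natCard X g.2)
    obtain ⟨hcyc, -⟩ := odd_cent h hg1 hog
    have hle : S ≤ cent (g : G F m) := fun s hs => mem_cent.mpr (hcen s hs g.1 g.2)
    have hcomm : ∀ s ∈ S, ∀ t ∈ S, s * t = t * s := by
      intro s hs t ht
      have := hcyc.commutative.is_comm.comm ⟨s, hle hs⟩ ⟨t, hle ht⟩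
      exact congrArg Subtype.val this
    have hbot : commutator S = ⊥ := by
      rw [commutator_def, Subgroup.commutator_eq_bot_iff_le_centralizer]
      intro s _
      rw [Subgroup.mem_centralizer_iff]
      intro t _
      exact Subtype.ext (hcomm t.1 t.2 s.1 s.2)
    rw [hperf] at hbot
    have h5 : Nat.card S = 1 := by
      rw [← Subgroup.card_top (G := S), hbot, Subgroup.card_bot]
    rw [hcS] at h5
    have h6 := Nat.eq_one_of_mul_eq_one_right h5
    have h7 := Nat.eq_one_of_mul_eq_one_left h6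
    have : 0 < (2 ^ (2 * k + 1)) ^ 2 := by positivity
    omega
  · exact hpre

/-- Subgroups isomorphic to a Suzuki group are conjugate to the subfield subgroup. -/
theorem conj_range_of_iso {K : Type*} [Field K] [Fintype K] {k : ℕ} (hK : Hyp K k) (hd : 2 * k + 1 ∣ 2 * m + 1)
    (ι : K →+* F) {S : Subgroup (G F m)} (e : S ≃* G K k) :
    ∃ x : G F m, S.map (MulAut.conj x).toMonoidHom = (emb hK h hd ι).range := by
  have : Finite (G F m) := finite_G
  obtain ⟨x, P⟩ := pre_of_iso h hK e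
  refine ⟨x, ?_⟩
  obtain ⟨k', hk', hd', hcard⟩ := pre_data h P
  have : Fintype (Kf h P) := Fintype.ofFinite _
  have hK' : Hyp (Kf h P) k' := ⟨hk', by rw [← Nat.card_eq_fintype_card, hcard]⟩
  have hr := range_eq hK' h hd' (Kf h P).subtype P (fun y =>
    ⟨fun hy => ⟨⟨y, hy⟩, rfl⟩, by rintro ⟨a, rfl⟩; exact a.2⟩)
  have hc1 : Nat.card (S.map (MulAut.conj x).toMonoidHom) = Nat.card (G K k) := by
    rw [card_map_conj h, Nat.card_congr e.toEquiv]
  have hc2 : Nat.card (S.map (MulAut.conj x).toMonoidHom) = Nat.card (G (Kf h P) k') :=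
    (congrArg (fun H : Subgroup (G F m) => Nat.card H) hr.symm).trans
      (Nat.card_congr (rangeEquiv hK' h hd' _).symm.toEquiv)
  have hkk : 2 * k' + 1 = 2 * k + 1 := by
    apply sz_order_inj (by omega) (by omega)
    rw [← card_G_eq hK', ← hc2, hc1, card_G_eq hK]
  have hkk' : k' = k := by omega
  subst hkk'
  apply (range_eq hK h hd ι P _).symm
  intro y
  rw [subfield_iff h (Kf h P) hcard hd']
  have hcR : Nat.card ι.fieldRange = 2 ^ (2 * k' + 1) := by
    have : Nat.card ι.fieldRange = Nat.card K :=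
      (Nat.card_congr (Equiv.ofInjective ι ι.injective)).symm.trans (by rfl)
    rw [this, Nat.card_eq_fintype_card, hK.hF]
  have := subfield_iff h ι.fieldRange hcR hd' y
  rw [← this, RingHom.mem_fieldRange]
  rfl

/-- Conjugation by the inverse undoes conjugation. -/
theorem map_conj_inv_map (H : Subgroup (G F m)) (x : G F m) :
    (H.map (MulAut.conj x).toMonoidHom).map (MulAut.conj x⁻¹).toMonoidHom = H := by
  rw [← map_conj_mul h]
  ext y
  simp [MulAut.conj_apply]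

/-- From normal form to a subfield subgroup containing the subgroup. -/
theorem pre_to_sub {M : Subgroup (G F m)} (hM : M ≠ ⊤) {x : G F m}
    (P : Pre h (M.map (MulAut.conj x).toMonoidHom)) :
    ∃ (K : Type) (_ : Field K) (_ : Fintype K) (k : ℕ), 1 ≤ k ∧ k < m ∧ Fintype.card K = 2 ^ (2 * k + 1) ∧
      2 * k + 1 ∣ 2 * m + 1 ∧ ∃ S : Subgroup (G F m), Nonempty (S ≃* G K k) ∧ M ≤ S := by
  have : Finite (G F m) := finite_G
  obtain ⟨k, hk, hd, hcard⟩ := pre_data h P
  have hne : 2 * k + 1 ≠ 0 := by omega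
  have : Fact (Nat.Prime 2) := ⟨Nat.prime_two⟩
  let K' := GaloisField 2 (2 * k + 1)
  have : Finite K' := by
    apply Nat.finite_of_card_ne_zero
    rw [GaloisField.card 2 (2 * k + 1) hne]
    positivity
  let _ : Fintype K' := Fintype.ofFinite _
  have hcK : Fintype.card K' = 2 ^ (2 * k + 1) := by
    rw [← Nat.card_eq_fintype_card]
    exact GaloisField.card 2 (2 * k + 1) hne
  have hK' : Hyp K' k := ⟨hk, hcK⟩
  obtain ⟨ι, hι⟩ := exists_iota h hcK (Kf h P) hcard
  have hr := range_eq hK' h hd ι P hι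
  refine ⟨K', inferInstance, inferInstance, k, hk, ?_, hcK, hd,
    (emb hK' h hd ι).range.map (MulAut.conj x⁻¹).toMonoidHom, ⟨?_⟩, ?_⟩
  · by_contra hlt
    have hle : 2 * k + 1 ≤ 2 * m + 1 := Nat.le_of_dvd (by omega) hd
    have hkm : k = m := by omega
    subst hkm
    have h1 : Nat.card (emb hK' h hd ι).range = Nat.card (G F k) := by
      rw [Nat.card_congr (rangeEquiv hK' h hd ι).symm.toEquiv, card_G_eq hK', card_G_eq h]
    have h2 := Subgroup.eq_top_of_card_eq _ h1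
    rw [hr] at h2
    apply hM
    have h3 := map_conj_inv_map h M x
    rw [h2, Subgroup.map_top_of_surjective _ (MulAut.conj x⁻¹).surjective] at h3
    exact h3.symm
  · exact ((MulAut.conj x⁻¹).subgroupMap _).symm.trans (rangeEquiv hK' h hd ι).symm
  · rw [hr, map_conj_inv_map h]

/-- The full classification. -/
theorem classify (M : Subgroup (G F m)) (hM : M ≠ ⊤) :
    (∃ P : Sylow 2 (G F m), M ≤ Subgroup.normalizer ((P : Subgroup (G F m)) : Set (G F m))) ∨
    (∃ U : Subgroup (G F m), IsCyclic U ∧ Nat.card U ∈ cards m ∧ M ≤ Subgroup.normalizer (U : Set (G F m))) ∨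
    (∃ (K : Type) (_ : Field K) (_ : Fintype K) (k : ℕ), 1 ≤ k ∧ k < m ∧ Fintype.card K = 2 ^ (2 * k + 1) ∧
      2 * k + 1 ∣ 2 * m + 1 ∧ ∃ S : Subgroup (G F m), Nonempty (S ≃* G K k) ∧ M ≤ S) := by
  rcases classify3 h M with ⟨w, hw⟩ | ⟨X, hc, hcard, hle⟩ | ⟨x, P⟩
  · left
    refine ⟨mv h w • Usyl h, ?_⟩
    have e : ((mv h w • Usyl h : Sylow 2 (G F m)) : Subgroup (G F m)) = Uw h w := rfl
    rw [e, normalizer_Uw h]
    intro g hg
    exact MulAction.mem_stabilizer_iff.mpr (hw g hg)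
  · exact Or.inr (Or.inl ⟨X, hc, hcard, hle⟩)
  · exact Or.inr (Or.inr (pre_to_sub h hM P))

end Cfsg.Agent.Lib.Suzuki.Classify
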