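import Cfsg.Agent.Lib.Suzuki.Tori3

/-! The partition of the Suzuki group. -/

set_option autoImplicit false
set_option linter.unusedSectionVars false
set_option linter.deprecated false
set_option linter.unusedSimpArgs false

namespace Cfsg.Agent.Lib.Suzuki.Part

open Cfsg.Agent.Lib.Suzuki.Basic Cfsg.Agent.Lib.Suzuki.Group Cfsg.Agent.Lib.Suzuki.Struct
  Cfsg.Agent.Lib.Suzuki.Order Cfsg.Agent.Lib.Suzuki.Zass Cfsg.Agent.Lib.Suzuki.Sub
  Cfsg.Agent.Lib.Suzuki.Syl Cfsg.Agent.Lib.Suzuki.Gen Cfsg.Agent.Lib.Suzuki.Fix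
  Cfsg.Agent.Lib.Suzuki.Cent Cfsg.Agent.Lib.Suzuki.Types Cfsg.Agent.Lib.Suzuki.Tori1
  Cfsg.Agent.Lib.Suzuki.Tori2 Cfsg.Agent.Lib.Suzuki.Tori3
open scoped Pointwise BigOperators

/-- Arithmetic of the three orders. -/
structure Nums (m c a b : ℕ) : Prop where
  c_eq : c = 2 ^ (2 * m + 1) - 1
  a_eq : a = 2 ^ (2 * m + 1) + 2 ^ (m + 1) + 1
  b_eq : b = 2 ^ (2 * m + 1) - 2 ^ (m + 1) + 1
  c1 : 1 < c
  a1 : 1 < a
  b1 : 1 < b
  codd : Odd c
  aodd : Odd a
  bodd : Odd b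
  prod : a * b = (2 ^ (2 * m + 1)) ^ 2 + 1
  cop_ca : Nat.Coprime c a
  cop_cb : Nat.Coprime c b
  cop_ab : Nat.Coprime a b

theorem nums {m : ℕ} (hm : 1 ≤ m) :
    Nums m (2 ^ (2 * m + 1) - 1) (2 ^ (2 * m + 1) + 2 ^ (m + 1) + 1) (2 ^ (2 * m + 1) - 2 ^ (m + 1) + 1) := by
  obtain ⟨q, hq⟩ : ∃ q, q = 2 ^ (2 * m + 1) := ⟨_, rfl⟩
  obtain ⟨s, hs⟩ : ∃ s, s = 2 ^ (m + 1) := ⟨_, rfl⟩
  have hs4 : 4 ≤ s := by
    rw [hs]
    calc 4 = 2 ^ 2 := rfl
      _ ≤ 2 ^ (m + 1) := Nat.pow_le_pow_right (by norm_num) (by omega)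
  have hss : s ^ 2 = 2 * q := by
    rw [hs, hq]
    ring
  have hsq : 2 * s ≤ q := by nlinarith
  have hq8 : 8 ≤ q := by omega
  have hqeven : Even q := by
    rw [hq]
    exact Even.pow_of_ne_zero even_two (by omega)
  have hseven : Even s := by
    rw [hs]
    exact Even.pow_of_ne_zero even_two (by omega)
  rw [← hq, ← hs]
  have codd : Odd (q - 1) := by
    obtain ⟨t, rfl⟩ := hqeven
    exact ⟨t - 1, by omega⟩
  have aodd : Odd (q + s + 1) := (hqeven.add hseven).add_one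
  have bodd : Odd (q - s + 1) := by
    apply Even.add_one
    exact (Nat.even_sub (by omega)).mpr (by tauto)
  have prod : (q + s + 1) * (q - s + 1) = q ^ 2 + 1 := by
    zify [show s ≤ q by omega]
    have : (s : ℤ) ^ 2 = 2 * q := by exact_mod_cast hss
    linear_combination (-1 : ℤ) * this
  have cD : Nat.Coprime (q - 1) (q ^ 2 + 1) := by
    have h8 : q ^ 2 + 1 = (q + 1) * (q - 1) + 2 := by
      obtain ⟨p, rfl⟩ : ∃ p, q = p + 1 := ⟨q - 1, by omega⟩
      simp only [Nat.add_sub_cancel]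
      ring
    have h10 : Nat.gcd (q - 1) (q ^ 2 + 1) ∣ 2 := by
      have h11 : Nat.gcd (q - 1) (q ^ 2 + 1) ∣ (q + 1) * (q - 1) + 2 := by
        rw [← h8]
        exact Nat.gcd_dvd_right _ _
      have h12 := Nat.gcd_dvd_left (q - 1) (q ^ 2 + 1)
      exact (Nat.dvd_add_right (Dvd.dvd.mul_left h12 _)).mp h11
    have h14 : Odd (Nat.gcd (q - 1) (q ^ 2 + 1)) := codd.of_dvd_nat (Nat.gcd_dvd_left _ _)
    rcases (Nat.dvd_prime Nat.prime_two).mp h10 with h16 | h16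
    · exact h16
    · rw [h16] at h14
      exact absurd h14 (by decide)
  refine ⟨by rw [hq], by rw [hq, hs], by rw [hq, hs], by omega, by omega, by omega, codd, aodd, bodd, by rw [← hq]; exact prod, ?_, ?_, ?_⟩
  · exact cD.coprime_dvd_right ⟨_, prod.symm⟩
  · exact cD.coprime_dvd_right ⟨_, by rw [← prod, mul_comm]⟩
  · apply Nat.coprime_of_dvd
    intro p hp h1 h2
    have h3 : q + s + 1 = (q - s + 1) + 2 * s := by omega
    rw [h3] at h1
    have h4 : p ∣ 2 * s := (Nat.dvd_add_right h2).mp h1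
    have h5 : p ∣ 2 ^ (m + 2) := by
      have : 2 ^ (m + 2) = 2 * s := by rw [hs]; ring
      rw [this]
      exact h4
    have h6 : p = 2 := (Nat.prime_dvd_prime_iff_eq hp Nat.prime_two).mp (hp.dvd_of_dvd_pow h5)
    rw [h6] at h2
    exact (Nat.not_even_iff_odd.mpr bodd) (even_iff_two_dvd.mpr h2)

/-- Cards allowed in the partition. -/
abbrev cards (m : ℕ) : Set ℕ :=
  ({2 ^ (2 * m + 1) - 1, 2 ^ (2 * m + 1) + 2 ^ (m + 1) + 1, 2 ^ (2 * m + 1) - 2 ^ (m + 1) + 1} : Set ℕ)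

theorem cards_odd {m n : ℕ} (hm : 1 ≤ m) (hn : n ∈ cards m) : Odd n ∧ 1 < n := by
  have H := nums hm
  rcases hn with rfl | rfl | hn
  · exact ⟨H.codd, H.c1⟩
  · exact ⟨H.aodd, H.a1⟩
  · rw [Set.mem_singleton_iff] at hn
    subst hn
    exact ⟨H.bodd, H.b1⟩

/-- A subgroup of the partition whose order divides `q - 1`. -/
theorem cards_eq_of_dvd_c {m n : ℕ} (hm : 1 ≤ m) (hn : n ∈ cards m) (hd : n ∣ 2 ^ (2 * m + 1) - 1) :
    n = 2 ^ (2 * m + 1) - 1 := by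
  have H := nums hm
  rcases hn with rfl | rfl | hn
  · rfl
  · exfalso
    exact H.a1.ne' (H.cop_ca.symm.eq_one_of_dvd hd)
  · exfalso
    rw [Set.mem_singleton_iff] at hn
    subst hn
    exact H.b1.ne' (H.cop_cb.symm.eq_one_of_dvd hd)

/-- A subgroup of the partition whose order divides `q + s + 1`. -/
theorem cards_eq_of_dvd_a {m n : ℕ} (hm : 1 ≤ m) (hn : n ∈ cards m)
    (hd : n ∣ 2 ^ (2 * m + 1) + 2 ^ (m + 1) + 1) :
    n = 2 ^ (2 * m + 1) + 2 ^ (m + 1) + 1 := by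
  have H := nums hm
  rcases hn with rfl | rfl | hn
  · exfalso
    exact H.c1.ne' (H.cop_ca.eq_one_of_dvd hd)
  · rfl
  · exfalso
    rw [Set.mem_singleton_iff] at hn
    subst hn
    exact H.b1.ne' (H.cop_ab.symm.eq_one_of_dvd hd)

/-- A subgroup of the partition whose order divides `q - s + 1`. -/
theorem cards_eq_of_dvd_b {m n : ℕ} (hm : 1 ≤ m) (hn : n ∈ cards m)
    (hd : n ∣ 2 ^ (2 * m + 1) - 2 ^ (m + 1) + 1) :
    n = 2 ^ (2 * m + 1) - 2 ^ (m + 1) + 1 := by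
  have H := nums hm
  rcases hn with rfl | rfl | hn
  · exfalso
    exact H.c1.ne' (H.cop_cb.eq_one_of_dvd hd)
  · exfalso
    exact H.a1.ne' (H.cop_ab.eq_one_of_dvd hd)
  · rw [Set.mem_singleton_iff] at hn
    exact hn

variable {F : Type*} [Field F] [Fintype F] {m : ℕ} (h : Hyp F m)
include h

/-- Trichotomy of non-identity elements. -/
theorem trichotomy {g : G F m} (hg : g ≠ 1) :
    (∃ (x : G F m) (a b : F), (a ≠ 0 ∨ b ≠ 0) ∧ g = x * Lg h a b * x⁻¹) ∨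
    (∃ (x : G F m) (k : Fˣ), k ≠ 1 ∧ g = x * Dg h k * x⁻¹) ∨ Fpf g := by
  by_cases hf : Fpf g
  · exact Or.inr (Or.inr hf)
  · unfold Fpf at hf
    push Not at hf
    obtain ⟨w, hw⟩ := hf
    rcases conj_cases h g hw with ⟨x, a, b, he⟩ | ⟨x, k, hk, he⟩
    · left
      refine ⟨x, a, b, ?_, he⟩
      by_contra hc
      push Not at hc
      obtain ⟨rfl, rfl⟩ := hc
      apply hg
      rw [he, Lg_zero h]
      group
    · exact Or.inr (Or.inl ⟨x, k, hk, he⟩)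

/-- Membership in the conjugate `x U x⁻¹`. -/
theorem mem_map_conj {H : Subgroup (G F m)} {x g : G F m} :
    g ∈ H.map (MulAut.conj x).toMonoidHom ↔ x⁻¹ * g * x ∈ H := by
  constructor
  · rintro ⟨y, hy, rfl⟩
    have : x⁻¹ * (MulAut.conj x).toMonoidHom y * x = y := by
      change x⁻¹ * (x * y * x⁻¹) * x = y
      group
    rwa [this]
  · intro hy
    refine ⟨_, hy, ?_⟩
    change x * (x⁻¹ * g * x) * x⁻¹ = g
    group

theorem conj_mem_map {H : Subgroup (G F m)} {x y : G F m} (hy : y ∈ H) :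
    x * y * x⁻¹ ∈ H.map (MulAut.conj x).toMonoidHom := ⟨y, hy, rfl⟩

theorem card_map_conj (H : Subgroup (G F m)) (x : G F m) :
    Nat.card (H.map (MulAut.conj x).toMonoidHom) = Nat.card H :=
  Nat.card_congr ((MulAut.conj x).subgroupMap H).symm.toEquiv

theorem cyclic_map_conj (H : Subgroup (G F m)) (x : G F m) [IsCyclic H] :
    IsCyclic (H.map (MulAut.conj x).toMonoidHom) :=
  isCyclic_of_surjective ((MulAut.conj x).subgroupMap H) ((MulAut.conj x).subgroupMap H).surjective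

/-- Elements of a cyclic subgroup commute. -/
theorem le_cent_of_cyclic {U : Subgroup (G F m)} (hU : IsCyclic U) {g : G F m} (hg : g ∈ U) :
    U ≤ cent g := by
  intro y hy
  rw [mem_cent]
  have := hU.commutative.is_comm.comm ⟨y, hy⟩ ⟨g, hg⟩
  exact congrArg Subtype.val this

/-- Centraliser of a conjugate of a non-trivial element of `U`. -/
theorem cent_conj_Lg_le {x : G F m} {a b : F} (hne : a ≠ 0 ∨ b ≠ 0) :
    cent (x * Lg h a b * x⁻¹) ≤ (Usub h).map (MulAut.conj x).toMonoidHom := by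
  intro y hy
  rw [mem_cent] at hy
  rw [mem_map_conj h]
  apply mem_U_of_comm h hne
  calc x⁻¹ * y * x * Lg h a b = x⁻¹ * (y * (x * Lg h a b * x⁻¹)) * x := by group
    _ = x⁻¹ * ((x * Lg h a b * x⁻¹) * y) * x := by rw [hy]
    _ = _ := by group

/-- Centraliser of a conjugate of a non-trivial element of `D`. -/
theorem cent_conj_Dg_le {x : G F m} {k : Fˣ} (hk : k ≠ 1) :
    cent (x * Dg h k * x⁻¹) ≤ (Dsub h).map (MulAut.conj x).toMonoidHom := by
  intro y hy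
  rw [mem_cent] at hy
  rw [mem_map_conj h]
  apply mem_D_of_comm h hk
  calc x⁻¹ * y * x * Dg h k = x⁻¹ * (y * (x * Dg h k * x⁻¹)) * x := by group
    _ = x⁻¹ * ((x * Dg h k * x⁻¹) * y) * x := by rw [hy]
    _ = _ := by group

/-- The tori have orders among `a`, `b`. -/
theorem card_tor (A : Tor F m) :
    Nat.card A.1 = 2 ^ (2 * m + 1) + 2 ^ (m + 1) + 1 ∨ Nat.card A.1 = 2 ^ (2 * m + 1) - 2 ^ (m + 1) + 1 := by
  obtain ⟨A₁, A₂, hall, -, -, h3, h4⟩ := tori_main h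
  rcases hall A with ⟨x, rfl⟩ | ⟨x, rfl⟩
  · left
    rw [card_smul, h3]
  · right
    rw [card_smul, h4]

/-- Uniqueness in a Sylow 2-subgroup. -/
theorem sylow_eq_of_mem {x : G F m} {a b : F} (hne : a ≠ 0 ∨ b ≠ 0) (P : Sylow 2 (G F m))
    (hg : x * Lg h a b * x⁻¹ ∈ (P : Subgroup (G F m))) :
    (P : Subgroup (G F m)) = (Usub h).map (MulAut.conj x).toMonoidHom := by
  obtain ⟨y, hy⟩ := exists_conj h P
  rw [hy] at hg ⊢
  rw [mem_map_conj h] at hg
  obtain ⟨c, d, hcd⟩ := hg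
  have hconj : (y⁻¹ * x) * Lg h a b * (y⁻¹ * x)⁻¹ = Lg h c d := by
    rw [← hcd]
    group
  have hB := mem_Bor_of_conj h hne hconj
  rw [← normalizer_U h, Subgroup.mem_normalizer_iff_map_conj_eq] at hB
  have hB' : (Usub h).map (MulAut.conj (y⁻¹ * x)).toMonoidHom = Usub h := hB
  have h2 : (Usub h).map (MulAut.conj x).toMonoidHom =
      ((Usub h).map (MulAut.conj (y⁻¹ * x)).toMonoidHom).map (MulAut.conj y).toMonoidHom := by
    rw [Subgroup.map_map]
    congr 1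
    ext z
    simp [MulAut.conj_apply, mul_assoc]
  rw [h2, hB']

/-- Non-trivial 2-elements are not in cyclic subgroups from the list. -/
theorem not_cyclic_of_Lg {x : G F m} {a b : F} (hne : a ≠ 0 ∨ b ≠ 0) {U : Subgroup (G F m)}
    (hU : IsCyclic U) (hcard : Nat.card U ∈ cards m) (hg : x * Lg h a b * x⁻¹ ∈ U) : False := by
  have : Finite (G F m) := finite_G
  have hle : U ≤ (Usub h).map (MulAut.conj x).toMonoidHom :=
    (le_cent_of_cyclic h hU hg).trans (cent_conj_Lg_le h hne)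
  have hd := Subgroup.card_dvd_of_le hle
  rw [card_map_conj h, card_Usub h, h.hF] at hd
  obtain ⟨hodd, h1⟩ := cards_odd h.hm hcard
  have h2 : Nat.card U ∣ 2 ^ ((2 * m + 1) * 2) := by rwa [pow_mul] at *
  obtain ⟨j, -, hj⟩ := (Nat.dvd_prime_pow Nat.prime_two).mp h2
  rw [hj] at hodd h1
  rcases j with _ | j
  · simp at h1
  · rw [pow_succ] at hodd
    exact (Nat.not_even_iff_odd.mpr hodd) (even_two.mul_left _)

/-- Fixed-point-free elements are not in Sylow 2-subgroups. -/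
theorem Fpf.not_mem_sylow {g : G F m} (hg : Fpf g) (P : Sylow 2 (G F m)) : g ∉ (P : Subgroup (G F m)) := by
  intro hm
  obtain ⟨x, a, b, rfl⟩ := exists_conj_of_mem_sylow h P hm
  apply hg (x • oI)
  rw [← mul_smul]
  simp only [mul_assoc, inv_mul_cancel, mul_one]
  rw [mul_smul, Lg_oI]

/-- Elements conjugate to `D` are not in Sylow 2-subgroups. -/
theorem Dg_not_mem_sylow {x : G F m} {k : Fˣ} (hk : k ≠ 1) (P : Sylow 2 (G F m)) :
    x * Dg h k * x⁻¹ ∉ (P : Subgroup (G F m)) := by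
  intro hm
  obtain ⟨y, a, b, hy⟩ := exists_conj_of_mem_sylow h P hm
  have h4 : (x * Dg h k * x⁻¹) ^ 4 = 1 := by
    rw [hy]
    exact conj_U_pow_four h ⟨a, b, rfl⟩
  have h5 : (Dg h k) ^ 4 = 1 := by
    rw [conj_pow] at h4
    have h6 : (Dg h k) ^ 4 = x⁻¹ * (x * (Dg h k) ^ 4 * x⁻¹) * x := by group
    rw [h6, h4]
    group
  have : Finite (G F m) := finite_G
  have h7 : orderOf (Dg h k) ∣ 4 := orderOf_dvd_of_pow_eq_one h5
  have h8 : orderOf (Dg h k) ∣ Nat.card (Dsub h) := Subgroup.orderOf_dvd_natCard _ ⟨k, rfl⟩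
  rw [card_Dsub h, h.hF] at h8
  have h9 : Nat.Coprime 4 (2 ^ (2 * m + 1) - 1) := by
    have h10 := (nums h.hm).codd
    have : (4 : ℕ) = 2 ^ 2 := rfl
    rw [this]
    exact Nat.Coprime.pow_left 2 (Nat.coprime_two_left.mpr h10)
  have h11 := Nat.eq_one_of_dvd_coprimes h9 h7 h8
  rw [orderOf_eq_one_iff] at h11
  apply hk
  apply Dg_inj h
  rw [h11, Dg_one h]

/-- Existence of a member of the partition. -/
theorem part_exists {g : G F m} (hg : g ≠ 1) :
    ∃ U : Subgroup (G F m), ((∃ P : Sylow 2 (G F m), U = (P : Subgroup (G F m))) ∨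
      (IsCyclic U ∧ Nat.card U ∈ cards m)) ∧ g ∈ U := by
  rcases trichotomy h hg with ⟨x, a, b, hne, rfl⟩ | ⟨x, k, hk, rfl⟩ | hf
  · refine ⟨(Usub h).map (MulAut.conj x).toMonoidHom, Or.inl ⟨x • Usyl h, rfl⟩, conj_mem_map h ⟨a, b, rfl⟩⟩
  · refine ⟨(Dsub h).map (MulAut.conj x).toMonoidHom, Or.inr ⟨cyclic_map_conj h _ x, ?_⟩,
      conj_mem_map h ⟨k, rfl⟩⟩
    rw [card_map_conj h, card_Dsub h, h.hF]
    exact Or.inl rfl
  · refine ⟨cent g, Or.inr ⟨Fpf.cent_cyclic h hf (Fpf.ne_one h hf), ?_⟩, mem_cent_self h g⟩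
    rcases card_tor h ⟨cent g, g, hf, rfl⟩ with h1 | h1
    · exact Or.inr (Or.inl h1)
    · exact Or.inr (Or.inr h1)

theorem uniq_L {x : G F m} {a b : F} (hne : a ≠ 0 ∨ b ≠ 0) (U : Subgroup (G F m))
    (hU : (∃ P : Sylow 2 (G F m), U = (P : Subgroup (G F m))) ∨ (IsCyclic U ∧ Nat.card U ∈ cards m))
    (hg : x * Lg h a b * x⁻¹ ∈ U) : U = (Usub h).map (MulAut.conj x).toMonoidHom := by
  rcases hU with ⟨P, rfl⟩ | ⟨hc, hcard⟩
  · exact sylow_eq_of_mem h hne P hg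
  · exact (not_cyclic_of_Lg h hne hc hcard hg).elim

theorem uniq_D {x : G F m} {k : Fˣ} (hk : k ≠ 1) (U : Subgroup (G F m))
    (hU : (∃ P : Sylow 2 (G F m), U = (P : Subgroup (G F m))) ∨ (IsCyclic U ∧ Nat.card U ∈ cards m))
    (hg : x * Dg h k * x⁻¹ ∈ U) : U = (Dsub h).map (MulAut.conj x).toMonoidHom := by
  have : Finite (G F m) := finite_G
  rcases hU with ⟨P, rfl⟩ | ⟨hc, hcard⟩
  · exact (Dg_not_mem_sylow h hk P hg).elim
  · have hle := (le_cent_of_cyclic h hc hg).trans (cent_conj_Dg_le h hk)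
    have hd := Subgroup.card_dvd_of_le hle
    rw [card_map_conj h, card_Dsub h, h.hF] at hd
    have he := cards_eq_of_dvd_c h.hm hcard hd
    apply Subgroup.eq_of_le_of_card_ge hle
    rw [card_map_conj h, card_Dsub h, h.hF, he]

theorem uniq_F {g : G F m} (hf : Fpf g) (U : Subgroup (G F m))
    (hU : (∃ P : Sylow 2 (G F m), U = (P : Subgroup (G F m))) ∨ (IsCyclic U ∧ Nat.card U ∈ cards m))
    (hg : g ∈ U) : U = cent g := by
  have : Finite (G F m) := finite_G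
  rcases hU with ⟨P, rfl⟩ | ⟨hc, hcard⟩
  · exact (Fpf.not_mem_sylow h hf P hg).elim
  · have hle := le_cent_of_cyclic h hc hg
    have hd := Subgroup.card_dvd_of_le hle
    apply Subgroup.eq_of_le_of_card_ge hle
    rcases card_tor h ⟨cent g, g, hf, rfl⟩ with h1 | h1
    · have h1' : Nat.card (cent g) = _ := h1
      rw [h1'] at hd ⊢
      rw [cards_eq_of_dvd_a h.hm hcard hd]
    · have h1' : Nat.card (cent g) = _ := h1
      rw [h1'] at hd ⊢
      rw [cards_eq_of_dvd_b h.hm hcard hd]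

/-- Uniqueness of the member of the partition. -/
theorem part_unique {g : G F m} (hg : g ≠ 1) (U V : Subgroup (G F m))
    (hU : (∃ P : Sylow 2 (G F m), U = (P : Subgroup (G F m))) ∨ (IsCyclic U ∧ Nat.card U ∈ cards m))
    (hV : (∃ P : Sylow 2 (G F m), V = (P : Subgroup (G F m))) ∨ (IsCyclic V ∧ Nat.card V ∈ cards m))
    (hgU : g ∈ U) (hgV : g ∈ V) : U = V := by
  rcases trichotomy h hg with ⟨x, a, b, hne, rfl⟩ | ⟨x, k, hk, rfl⟩ | hf
  · rw [uniq_L h hne U hU hgU, uniq_L h hne V hV hgV]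
  · rw [uniq_D h hk U hU hgU, uniq_D h hk V hV hgV]
  · rw [uniq_F h hf U hU hgU, uniq_F h hf V hV hgV]

end Cfsg.Agent.Lib.Suzuki.Part
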