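import Cfsg.Agent.Lib.Suzuki.Fixity

/-! Solubility of two-generated subgroups of the Suzuki group, prime degree case: the structure part. -/

set_option autoImplicit false
set_option linter.unusedSectionVars false
set_option linter.deprecated false
set_option linter.unusedSimpArgs false

namespace Cfsg.Agent.Lib.Suzuki.Solub

open Cfsg.Agent.Lib.Suzuki.Basic Cfsg.Agent.Lib.Suzuki.Group Cfsg.Agent.Lib.Suzuki.Struct
  Cfsg.Agent.Lib.Suzuki.Order Cfsg.Agent.Lib.Suzuki.Zass Cfsg.Agent.Lib.Suzuki.Sub
  Cfsg.Agent.Lib.Suzuki.Syl Cfsg.Agent.Lib.Suzuki.Gen Cfsg.Agent.Lib.Suzuki.Fix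
  Cfsg.Agent.Lib.Suzuki.Cent Cfsg.Agent.Lib.Suzuki.Types Cfsg.Agent.Lib.Suzuki.Tori1
  Cfsg.Agent.Lib.Suzuki.Tori2 Cfsg.Agent.Lib.Suzuki.Tori3 Cfsg.Agent.Lib.Suzuki.Part
  Cfsg.Agent.Lib.Suzuki.SubAbs Cfsg.Agent.Lib.Suzuki.SubG Cfsg.Agent.Lib.Suzuki.SubOdd
  Cfsg.Agent.Lib.Suzuki.SubMain Cfsg.Agent.Lib.Suzuki.SubEmb Cfsg.Agent.Lib.Suzuki.Classify
  Cfsg.Agent.Lib.Suzuki.Fixity
open scoped Pointwise BigOperators commutatorElement

/-- A group with a solvable normal subgroup and solvable quotient is solvable. -/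
theorem solvable_of_normal {A : Type*} [_root_.Group A] (B : Subgroup A) [B.Normal]
    (h1 : _root_.Group.IsSolvable B) (h2 : _root_.Group.IsSolvable (A ⧸ B)) : _root_.Group.IsSolvable A := by
  refine _root_.Group.isSolvable_of_ker_le_range B.subtype (QuotientGroup.mk' B) ?_
  rw [QuotientGroup.ker_mk', Subgroup.range_subtype]

/-- Subgroups of solvable subgroups are solvable. -/
theorem solvable_of_le {A : Type*} [_root_.Group A] {K L : Subgroup A} (hKL : K ≤ L) (hL : _root_.Group.IsSolvable L) :
    _root_.Group.IsSolvable K :=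
  _root_.Group.isSolvable_of_isSolvable_injective (f := Subgroup.inclusion hKL) (Subgroup.inclusion_injective hKL)

variable {F : Type*} [Field F] [Fintype F] {m : ℕ} (h : Hyp F m)
include h

/-- The Borel subgroup is solvable. -/
theorem Bor_solvable : _root_.Group.IsSolvable (Bor F m) := by
  have hle : Usub h ≤ Bor F m := by
    rintro _ ⟨a, b, rfl⟩
    exact MulAction.mem_stabilizer_iff.mpr (Lg_oI h a b)
  let U' : Subgroup (Bor F m) := (Usub h).subgroupOf (Bor F m)
  have hU' : U'.Normal := by
    constructor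
    intro u hu y
    rw [Subgroup.mem_subgroupOf] at hu ⊢
    exact Bor_conj_U h y.2 hu
  have hpg : IsPGroup 2 (Usub h) := by
    apply IsPGroup.of_card (n := 2 * (2 * m + 1))
    rw [card_Usub h, h.hF]
    ring
  have hnil : _root_.Group.IsNilpotent (Usub h) := hpg.isNilpotent
  have hsol : _root_.Group.IsSolvable (Usub h) := inferInstance
  have h1 : _root_.Group.IsSolvable U' :=
    _root_.Group.isSolvable_of_isSolvable_injective (f := (Subgroup.subgroupOfEquivOfLe hle).toMonoidHom)
      (Subgroup.subgroupOfEquivOfLe hle).injective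
  have hD : Dsub h ≤ Bor F m := by
    rintro _ ⟨k, rfl⟩
    exact MulAction.mem_stabilizer_iff.mpr (Dg_oI h k)
  have hDc : IsCyclic (Dsub h) := inferInstance
  have hDs : _root_.Group.IsSolvable (Dsub h) := _root_.Group.isSolvable_of_comm (fun a b => hDc.commutative.is_comm.comm a b)
  have hsurj : Function.Surjective ((QuotientGroup.mk' U').comp (Subgroup.inclusion hD)) := by
    intro y
    obtain ⟨g, rfl⟩ := QuotientGroup.mk'_surjective U' y
    obtain ⟨a, b, k, hk⟩ := stab_oI h g.1 (MulAction.mem_stabilizer_iff.mp g.2)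
    refine ⟨⟨Dg h k, k, rfl⟩, ?_⟩
    rw [MonoidHom.comp_apply, QuotientGroup.mk'_apply, QuotientGroup.mk'_apply, QuotientGroup.eq,
      Subgroup.mem_subgroupOf]
    have e : (((Subgroup.inclusion hD ⟨Dg h k, k, rfl⟩)⁻¹ * g : Bor F m) : G F m) =
        (Dg h k)⁻¹ * Lg h a b * Dg h k := by
      change (Dg h k)⁻¹ * g.1 = _
      rw [hk]
      group
    rw [e]
    have := Bor_conj_U h (x := (Dg h k)⁻¹) ((Bor F m).inv_mem (hD ⟨k, rfl⟩)) (⟨a, b, rfl⟩ : Lg h a b ∈ Usub h)
    simpa using this
  have h2 : _root_.Group.IsSolvable (Bor F m ⧸ U') := _root_.Group.isSolvable_of_surjective hsurj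
  exact solvable_of_normal U' h1 h2

omit h in
/-- Conjugate of a stabiliser. -/
theorem stab_smul (g : G F m) (w : Om F m) :
    MulAction.stabilizer (G F m) (g • w) = (MulAction.stabilizer (G F m) w).map (MulAut.conj g).toMonoidHom := by
  ext y
  constructor
  · intro hy
    refine ⟨g⁻¹ * y * g, ?_, ?_⟩
    · have hy' : y • (g • w) = g • w := hy
      change (g⁻¹ * y * g) • w = w
      rw [mul_smul, mul_smul, hy', inv_smul_smul]
    · change g * (g⁻¹ * y * g) * g⁻¹ = y
      group
  · rintro ⟨u, hu, rfl⟩
    have hu' : u • w = w := hu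
    change (g * u * g⁻¹) • (g • w) = g • w
    rw [mul_smul, mul_smul, inv_smul_smul, hu']

/-- The stabiliser of any point is solvable. -/
theorem stab_solvable (w : Om F m) : _root_.Group.IsSolvable (MulAction.stabilizer (G F m) w) := by
  have hx := mv_spec h w
  have h1 : MulAction.stabilizer (G F m) w = (Bor F m).map (MulAut.conj (mv h w)).toMonoidHom := by
    conv_lhs => rw [← hx]
    rw [stab_smul]
  rw [h1]
  have hB := Bor_solvable h
  exact _root_.Group.isSolvable_of_surjective (f := ((MulAut.conj (mv h w)).subgroupMap (Bor F m)).toMonoidHom) ((MulAut.conj (mv h w)).subgroupMap (Bor F m)).surjective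

/-- The cardinality of the stabiliser of any point. -/
theorem card_stab (w : Om F m) :
    Nat.card (MulAction.stabilizer (G F m) w) = Fintype.card F ^ 2 * (Fintype.card F - 1) := by
  have hx := mv_spec h w
  have h1 : MulAction.stabilizer (G F m) w = (Bor F m).map (MulAut.conj (mv h w)).toMonoidHom := by
    conv_lhs => rw [← hx]
    rw [stab_smul]
  rw [h1, card_map_conj h, card_Bor h]

/-- Members of the partition into cyclic subgroups. -/
def IsPart (X : Subgroup (G F m)) : Prop := IsCyclic X ∧ Nat.card X ∈ cards m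

/-- The index in the normaliser divides four. -/
theorem index_dvd_four {X : Subgroup (G F m)} (hX : IsPart X) :
    (X.subgroupOf (Subgroup.normalizer (X : Set (G F m)))).index ∣ 4 := by
  have : Finite (G F m) := finite_G
  obtain ⟨hc, hcard⟩ := hX
  have hN := card_normalizer_X h hc hcard
  set N := Subgroup.normalizer (X : Set (G F m)) with hNdef
  have hXN : X ≤ N := Subgroup.le_normalizer
  have h1 : (X.subgroupOf N).index * Nat.card (X.subgroupOf N) = Nat.card N := Subgroup.index_mul_card _
  have h2 : Nat.card (X.subgroupOf N) = Nat.card X := Nat.card_congr (Subgroup.subgroupOfEquivOfLe hXN).toEquiv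
  have hXpos : 0 < Nat.card X := Nat.card_pos
  have hNpos : 0 < Nat.card N := Nat.card_pos
  rw [h2] at h1
  have h3 : (X.subgroupOf N).index ≤ 4 := by
    have h4 : (X.subgroupOf N).index * Nat.card X ≤ 4 * Nat.card X := h1.le.trans hN
    exact Nat.le_of_mul_le_mul_right h4 hXpos
  have h4 : (X.subgroupOf N).index ≠ 3 := by
    intro he
    have h5 : 3 ∣ Nat.card N := ⟨Nat.card X, by rw [← h1, he]⟩
    have h6 : Nat.card N ∣ Nat.card (G F m) := Subgroup.card_subgroup_dvd_card N
    rw [card_G h, h.hF] at h6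
    exact Arith.three_not_dvd_card m (h5.trans h6)
  have h5 : (X.subgroupOf N).index ≠ 0 := by
    intro he
    rw [he, zero_mul] at h1
    omega
  have h7 : (X.subgroupOf N).index = 1 ∨ (X.subgroupOf N).index = 2 ∨ (X.subgroupOf N).index = 4 := by omega
  rcases h7 with h7 | h7 | h7 <;> rw [h7] <;> norm_num

/-- The normaliser of a member of the partition is solvable. -/
theorem normalizer_solvable {X : Subgroup (G F m)} (hX : IsPart X) :
    _root_.Group.IsSolvable (Subgroup.normalizer (X : Set (G F m))) := by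
  have : Finite (G F m) := finite_G
  have hd := index_dvd_four h hX
  obtain ⟨hc, hcard⟩ := hX
  set N := Subgroup.normalizer (X : Set (G F m)) with hNdef
  have hXN : X ≤ N := Subgroup.le_normalizer
  let X' : Subgroup N := X.subgroupOf N
  have hnorm : X'.Normal := Subgroup.normal_in_normalizer
  have hXs : _root_.Group.IsSolvable X := _root_.Group.isSolvable_of_comm (fun a b => hc.commutative.is_comm.comm a b)
  have h1 : _root_.Group.IsSolvable X' :=
    _root_.Group.isSolvable_of_isSolvable_injective (f := (Subgroup.subgroupOfEquivOfLe hXN).toMonoidHom)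
      (Subgroup.subgroupOfEquivOfLe hXN).injective
  have h2 : _root_.Group.IsSolvable (N ⧸ X') := by
    have hpg : IsPGroup 2 (N ⧸ X') := by
      have hd' : Nat.card (N ⧸ X') ∣ 2 ^ 2 := by
        rw [← Subgroup.index_eq_card]
        exact hd
      obtain ⟨j, -, hj⟩ := (Nat.dvd_prime_pow Nat.prime_two).mp hd'
      exact IsPGroup.of_card hj
    have hf : Fact (Nat.Prime 2) := ⟨Nat.prime_two⟩
    have hnil : _root_.Group.IsNilpotent (N ⧸ X') := hpg.isNilpotent
    infer_instance
  exact solvable_of_normal X' h1 h2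

/-- The group itself is not solvable. -/
theorem not_solvable_G : ¬ _root_.Group.IsSolvable (G F m) := by
  intro hs
  have hnt : Nontrivial (G F m) := ⟨⟨Lg h 1 0, 1, Lg_ne_one h (Or.inl one_ne_zero)⟩⟩
  exact (_root_.Group.IsSolvable.commutator_lt_top_of_nontrivial (G F m)).ne (commutator_eq_top h)

/-- Solubility of a two-generated subgroup, `2m + 1` prime. -/
theorem sol_iff (hp : (2 * m + 1).Prime) (x y : G F m) :
    _root_.Group.IsSolvable (Subgroup.closure ({x, y} : Set (G F m))) ↔
      (∃ w : Om F m, x • w = w ∧ y • w = w) ∨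
      (∃ X : Subgroup (G F m), IsPart X ∧ x ∈ Subgroup.normalizer (X : Set (G F m)) ∧
        y ∈ Subgroup.normalizer (X : Set (G F m))) := by
  have hxK : x ∈ Subgroup.closure ({x, y} : Set (G F m)) := Subgroup.subset_closure (by simp)
  have hyK : y ∈ Subgroup.closure ({x, y} : Set (G F m)) := Subgroup.subset_closure (by simp)
  constructor
  · intro hs
    set K := Subgroup.closure ({x, y} : Set (G F m)) with hK
    have hne : K ≠ ⊤ := by
      intro hc
      rw [hc] at hs
      exact not_solvable_G h
        (_root_.Group.isSolvable_of_surjective (f := (Subgroup.topEquiv : (⊤ : Subgroup (G F m)) ≃* G F m).toMonoidHom)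
          (Subgroup.topEquiv : (⊤ : Subgroup (G F m)) ≃* G F m).surjective)
    rcases classify h K hne with ⟨P, hP⟩ | ⟨X, hc, hcard, hX⟩ | ⟨K', _, _, k, hk, hkm, -, hd, -⟩
    · left
      obtain ⟨g, hg⟩ := exists_conj h P
      rw [hg, ← Uw_eq h (x := g) rfl, normalizer_Uw h] at hP
      exact ⟨g • oI, hP hxK, hP hyK⟩
    · right
      exact ⟨X, ⟨hc, hcard⟩, hX hxK, hX hyK⟩
    · exfalso
      rcases (Nat.dvd_prime hp).mp hd with h1 | h1 <;> omega
  · rintro (⟨w, hx, hy⟩ | ⟨X, hX, hx, hy⟩)
    · have hle : Subgroup.closure ({x, y} : Set (G F m)) ≤ MulAction.stabilizer (G F m) w := by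
        rw [Subgroup.closure_le]
        rintro t (rfl | rfl)
        · exact hx
        · exact hy
      exact solvable_of_le hle (stab_solvable h w)
    · have hle : Subgroup.closure ({x, y} : Set (G F m)) ≤ Subgroup.normalizer (X : Set (G F m)) := by
        rw [Subgroup.closure_le]
        rintro t (rfl | rfl)
        · exact hx
        · exact hy
      exact solvable_of_le hle (normalizer_solvable h hX)

end Cfsg.Agent.Lib.Suzuki.Solub
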