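import Cfsg.Agent.Lib.Suzuki.Solub

/-! Normalisers of the members of the partition and their intersections with point stabilisers. -/

set_option autoImplicit false
set_option linter.unusedSectionVars false
set_option linter.deprecated false
set_option linter.unusedSimpArgs false

namespace Cfsg.Agent.Lib.Suzuki.Solub2

open Cfsg.Agent.Lib.Suzuki.Basic Cfsg.Agent.Lib.Suzuki.Group Cfsg.Agent.Lib.Suzuki.Struct
  Cfsg.Agent.Lib.Suzuki.Order Cfsg.Agent.Lib.Suzuki.Zass Cfsg.Agent.Lib.Suzuki.Sub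
  Cfsg.Agent.Lib.Suzuki.Syl Cfsg.Agent.Lib.Suzuki.Gen Cfsg.Agent.Lib.Suzuki.Fix
  Cfsg.Agent.Lib.Suzuki.Cent Cfsg.Agent.Lib.Suzuki.Types Cfsg.Agent.Lib.Suzuki.Tori1
  Cfsg.Agent.Lib.Suzuki.Tori2 Cfsg.Agent.Lib.Suzuki.Tori3 Cfsg.Agent.Lib.Suzuki.Part
  Cfsg.Agent.Lib.Suzuki.SubAbs Cfsg.Agent.Lib.Suzuki.SubG Cfsg.Agent.Lib.Suzuki.SubOdd
  Cfsg.Agent.Lib.Suzuki.SubMain Cfsg.Agent.Lib.Suzuki.SubEmb Cfsg.Agent.Lib.Suzuki.Classify
  Cfsg.Agent.Lib.Suzuki.Fixity Cfsg.Agent.Lib.Suzuki.Solub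
open scoped Pointwise BigOperators commutatorElement

variable {F : Type*} [Field F] [Fintype F] {m : ℕ} (h : Hyp F m)
include h

/-- Elements of order dividing four of a member of the partition are trivial. -/
theorem eq_one_of_mem_part {X : Subgroup (G F m)} (hX : IsPart X) {y : G F m} (hy : y ∈ X) (h4 : y ^ 4 = 1) :
    y = 1 := by
  have : Finite (G F m) := finite_G
  have hodd := (cards_odd h.hm hX.2).1
  have hog : Odd (orderOf y) := hodd.of_dvd_nat (Subgroup.orderOf_dvd_natCard X hy)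
  have h6 := Nat.Coprime.eq_one_of_dvd (coprime_four_of_odd hog) (orderOf_dvd_of_pow_eq_one h4)
  exact orderOf_eq_one_iff.mp h6

/-- Elements of the normaliser of a member of the partition. -/
theorem mem_normalizer_cases {X : Subgroup (G F m)} (hX : IsPart X) {y : G F m}
    (hy : y ∈ Subgroup.normalizer (X : Set (G F m))) : y ∈ X ∨ y ^ 4 = 1 := by
  have : Finite (G F m) := finite_G
  have hd := index_dvd_four h hX
  have hnorm : (X.subgroupOf (Subgroup.normalizer (X : Set (G F m)))).Normal := Subgroup.normal_in_normalizer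
  have h1 := pow_four_mem_of_index_dvd _ hd (⟨y, hy⟩ : Subgroup.normalizer (X : Set (G F m)))
  have h2 : y ^ 4 ∈ X := Subgroup.mem_subgroupOf.mp h1
  by_cases h3 : y ^ 4 = 1
  · exact Or.inr h3
  · left
    rw [eq_cent h hX.1 hX.2 h2 h3]
    exact mem_cent.mpr ((Commute.refl y).pow_right 4).eq

/-- The fixed point of a 2-element is unique. -/
theorem fix_unique {x : G F m} (hx1 : x ≠ 1) (hx4 : x ^ 4 = 1) {w w' : Om F m} (hw : x • w = w) (hw' : x • w' = w') :
    w = w' := by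
  by_contra hne
  exact hx1 (Uw_semi h ((mem_Uw h).mpr ⟨hw, hx4⟩) hne hw')

/-- Subgroups of exponent dividing four are 2-groups. -/
theorem isPGroup_of_pow_four {K : Subgroup (G F m)} (hK : ∀ t ∈ K, t ^ 4 = 1) : IsPGroup 2 K := by
  intro t
  refine ⟨2, ?_⟩
  apply Subtype.ext
  exact hK t.1 t.2

/-- A 2-element has a fixed point. -/
theorem fix_exists {x : G F m} (hx4 : x ^ 4 = 1) : ∃ w : Om F m, x • w = w := by
  have hK : ∀ t ∈ Subgroup.zpowers x, t ^ 4 = 1 := by
    rintro _ ⟨i, rfl⟩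
    change (x ^ i) ^ 4 = 1
    rw [← zpow_natCast, ← zpow_mul, mul_comm, zpow_mul, zpow_natCast, hx4, one_zpow]
  obtain ⟨w, hw⟩ := two_sub_fix h (isPGroup_of_pow_four h hK)
  exact ⟨w, hw x (Subgroup.mem_zpowers x)⟩

/-- The members of the partition meet point stabilisers trivially when normalised by a 2-element
fixing the point. -/
theorem part_inf_stab {X : Subgroup (G F m)} (hX : IsPart X) {x : G F m}
    (hxN : x ∈ Subgroup.normalizer (X : Set (G F m))) (hx1 : x ≠ 1) (hx4 : x ^ 4 = 1) {w₀ : Om F m}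
    (hw₀ : x • w₀ = w₀) {y : G F m} (hy : y ∈ X) (hyw : y • w₀ = w₀) : y = 1 := by
  by_contra hy1
  have h1 : x * y * x⁻¹ ∈ X := (Subgroup.mem_normalizer_iff.mp hxN y).mp hy
  have h2 : x * y * x⁻¹ * y⁻¹ ∈ X := X.mul_mem h1 (X.inv_mem hy)
  have hxU : x ∈ Uw h w₀ := (mem_Uw h).mpr ⟨hw₀, hx4⟩
  have hyN : y ∈ Subgroup.normalizer ((Uw h w₀ : Subgroup (G F m)) : Set (G F m)) := by
    rw [normalizer_Uw h]
    exact hyw
  have h3 : y * x⁻¹ * y⁻¹ ∈ Uw h w₀ := (Subgroup.mem_normalizer_iff.mp hyN _).mp ((Uw h w₀).inv_mem hxU)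
  have h4 : x * y * x⁻¹ * y⁻¹ ∈ Uw h w₀ := by
    have e : x * y * x⁻¹ * y⁻¹ = x * (y * x⁻¹ * y⁻¹) := by group
    rw [e]
    exact (Uw h w₀).mul_mem hxU h3
  have h5 := eq_one_of_mem_part h hX h2 ((mem_Uw h).mp h4).2
  have h6 : x * y = y * x := by
    have e : x * y = (x * y * x⁻¹ * y⁻¹) * (y * x) := by group
    rw [e, h5, one_mul]
  have h7 : x ∈ X := by
    rw [eq_cent h hX.1 hX.2 hy hy1]
    exact mem_cent.mpr h6
  exact hx1 (eq_one_of_mem_part h hX h7 hx4)

/-- Generalisation of the bound on 2-subgroups of the normaliser. -/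
theorem card_le_of_pow_four {X T : Subgroup (G F m)} (hX : IsPart X) {c : ℕ}
    (hN : Nat.card (Subgroup.normalizer (X : Set (G F m))) ≤ c * Nat.card X)
    (hT4 : ∀ t ∈ T, t ^ 4 = 1) (hTN : T ≤ Subgroup.normalizer (X : Set (G F m))) : Nat.card T ≤ c := by
  have : Finite (G F m) := finite_G
  have hodd := (cards_odd h.hm hX.2).1
  have hXN : X ≤ Subgroup.normalizer (X : Set (G F m)) := Subgroup.le_normalizer
  let f : T × X → Subgroup.normalizer (X : Set (G F m)) :=
    fun p => ⟨p.1.1 * p.2.1, Subgroup.mul_mem _ (hTN p.1.2) (hXN p.2.2)⟩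
  have hinj : Function.Injective f := by
    rintro ⟨t, x⟩ ⟨t', x'⟩ he
    have he' : t.1 * x.1 = t'.1 * x'.1 := congrArg Subtype.val he
    have h1 : t'.1⁻¹ * t.1 = x'.1 * x.1⁻¹ := by
      calc t'.1⁻¹ * t.1 = t'.1⁻¹ * (t.1 * x.1) * x.1⁻¹ := by group
        _ = t'.1⁻¹ * (t'.1 * x'.1) * x.1⁻¹ := by rw [he']
        _ = _ := by group
    have h2 : (t'.1⁻¹ * t.1) ^ 4 = 1 := hT4 _ (T.mul_mem (T.inv_mem t'.2) t.2)
    have h3 : t'.1⁻¹ * t.1 ∈ X := by
      rw [h1]
      exact X.mul_mem x'.2 (X.inv_mem x.2)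
    have h5 := eq_one_of_mem_part h hX h3 h2
    have h6 : t.1 = t'.1 := by
      have : t.1 = t'.1 * (t'.1⁻¹ * t.1) := by group
      rw [this, h5, mul_one]
    have h7 : x.1 = x'.1 := by
      rw [h6] at he'
      exact mul_left_cancel he'
    exact Prod.ext (Subtype.ext h6) (Subtype.ext h7)
  have h1 := Nat.card_le_card_of_injective f hinj
  rw [Nat.card_prod] at h1
  have hpos : 0 < Nat.card X := Nat.card_pos
  have h2 : Nat.card T * Nat.card X ≤ c * Nat.card X := h1.trans hN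
  exact Nat.le_of_mul_le_mul_right h2 hpos

/-- The intersection of a normaliser with a point stabiliser. -/
theorem card_T {X : Subgroup (G F m)} (hX : IsPart X) {e : ℕ}
    (hN : Nat.card (Subgroup.normalizer (X : Set (G F m))) = 2 ^ e * Nat.card X) {x : G F m}
    (hxN : x ∈ Subgroup.normalizer (X : Set (G F m))) (hx1 : x ≠ 1) (hx4 : x ^ 4 = 1) {w₀ : Om F m}
    (hw₀ : x • w₀ = w₀) :
    Nat.card (Subgroup.normalizer (X : Set (G F m)) ⊓ MulAction.stabilizer (G F m) w₀ : Subgroup (G F m)) = 2 ^ e := by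
  have : Finite (G F m) := finite_G
  have : Fact (Nat.Prime 2) := ⟨Nat.prime_two⟩
  set N := Subgroup.normalizer (X : Set (G F m)) with hNdef
  apply le_antisymm
  · apply card_le_of_pow_four h hX hN.le _ inf_le_left
    rintro t ⟨ht1, ht2⟩
    rcases mem_normalizer_cases h hX ht1 with h1 | h1
    · rw [part_inf_stab h hX hxN hx1 hx4 hw₀ h1 ht2]
      simp
    · exact h1
  · -- the cyclic subgroup generated by `x`
    let x' : N := ⟨x, hxN⟩
    have hcard_x : Nat.card (Subgroup.zpowers x') = orderOf x := by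
      rw [Nat.card_zpowers, Subgroup.orderOf_mk]
    have hle : Nat.card (Subgroup.zpowers x) ≤ 2 ^ e := by
      apply card_le_of_pow_four h hX hN.le
      · rintro _ ⟨i, rfl⟩
        change (x ^ i) ^ 4 = 1
        rw [← zpow_natCast, ← zpow_mul, mul_comm, zpow_mul, zpow_natCast, hx4, one_zpow]
      · rw [Subgroup.zpowers_le]
        exact hxN
    rw [Nat.card_zpowers] at hle
    have hod : orderOf x ∣ 2 ^ 2 := orderOf_dvd_of_pow_eq_one hx4
    obtain ⟨i, -, hi⟩ := (Nat.dvd_prime_pow Nat.prime_two).mp hod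
    have hie : i ≤ e := by
      rw [hi] at hle
      exact (Nat.pow_le_pow_iff_right (by norm_num)).mp hle
    have hd : 2 ^ e ∣ Nat.card N := ⟨Nat.card X, hN⟩
    obtain ⟨K, hK, hHK⟩ := Sylow.exists_subgroup_card_pow_prime_le 2 hd (Subgroup.zpowers x')
      (hcard_x.trans hi) hie
    let K' : Subgroup (G F m) := K.map N.subtype
    have hK' : Nat.card K' = 2 ^ e := by
      rw [← hK]
      exact Nat.card_congr (K.equivMapOfInjective N.subtype N.subtype_injective).symm.toEquiv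
    have hxK' : x ∈ K' := ⟨x', hHK (Subgroup.mem_zpowers x'), rfl⟩
    have hpg : IsPGroup 2 K' := IsPGroup.of_card hK'
    obtain ⟨w₁, hw₁⟩ := two_sub_fix h hpg
    have hw₁₀ := fix_unique h hx1 hx4 (hw₁ x hxK') hw₀
    subst hw₁₀
    rw [← hK']
    apply Nat.card_mono (Set.toFinite _)
    intro t ht
    refine ⟨?_, hw₁ t ht⟩
    obtain ⟨t', -, rfl⟩ := ht
    exact t'.2

end Cfsg.Agent.Lib.Suzuki.Solub2
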