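import Cfsg.Agent.Lib.Suzuki.Solub2

/-! The general counting formula for the solubiliser of a 2-element. -/

set_option autoImplicit false
set_option linter.unusedSectionVars false
set_option linter.deprecated false
set_option linter.unusedSimpArgs false

namespace Cfsg.Agent.Lib.Suzuki.Solub3

open Cfsg.Agent.Lib.Suzuki.Basic Cfsg.Agent.Lib.Suzuki.Group Cfsg.Agent.Lib.Suzuki.Struct
  Cfsg.Agent.Lib.Suzuki.Order Cfsg.Agent.Lib.Suzuki.Zass Cfsg.Agent.Lib.Suzuki.Sub
  Cfsg.Agent.Lib.Suzuki.Syl Cfsg.Agent.Lib.Suzuki.Gen Cfsg.Agent.Lib.Suzuki.Fix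
  Cfsg.Agent.Lib.Suzuki.Cent Cfsg.Agent.Lib.Suzuki.Types Cfsg.Agent.Lib.Suzuki.Tori1
  Cfsg.Agent.Lib.Suzuki.Tori2 Cfsg.Agent.Lib.Suzuki.Tori3 Cfsg.Agent.Lib.Suzuki.Part
  Cfsg.Agent.Lib.Suzuki.SubAbs Cfsg.Agent.Lib.Suzuki.SubG Cfsg.Agent.Lib.Suzuki.SubOdd
  Cfsg.Agent.Lib.Suzuki.SubMain Cfsg.Agent.Lib.Suzuki.SubEmb Cfsg.Agent.Lib.Suzuki.Classify
  Cfsg.Agent.Lib.Suzuki.Fixity Cfsg.Agent.Lib.Suzuki.Solub Cfsg.Agent.Lib.Suzuki.Solub2
open scoped Pointwise BigOperators commutatorElement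

/-- Additivity of `ncard` over a finite disjoint union. -/
theorem ncard_biUnion {α ι : Type*} [Finite α] (s : Finset ι) (t : ι → Set α)
    (hd : ∀ i ∈ s, ∀ j ∈ s, i ≠ j → Disjoint (t i) (t j)) :
    (⋃ i ∈ s, t i).ncard = ∑ i ∈ s, (t i).ncard := by
  classical
  induction s using Finset.induction_on with
  | empty => simp
  | insert a s ha ih =>
    rw [Finset.set_biUnion_insert, Finset.sum_insert ha, Set.ncard_union_eq _ (Set.toFinite _) (Set.toFinite _),
      ih (fun i hi j hj hij => hd i (Finset.mem_insert_of_mem hi) j (Finset.mem_insert_of_mem hj) hij)]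
    rw [Set.disjoint_iUnion₂_right]
    intro j hj
    exact hd a (Finset.mem_insert_self a s) j (Finset.mem_insert_of_mem hj) (fun he => ha (he ▸ hj))

instance instFiniteG {F : Type*} [Field F] [Fintype F] {m : ℕ} : Finite (G F m) := finite_G

variable {F : Type*} [Field F] [Fintype F] {m : ℕ} (h : Hyp F m)

/-- `y` commutes with its conjugate by `x`. -/
def cm (x y : G F m) : Prop := x * y * x⁻¹ * y = y * (x * y * x⁻¹)

/-- The fixed-point-free elements with `x` in the normaliser of their centraliser. -/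
def Yt (x : G F m) : Set (G F m) := {y | Fpf y ∧ cm x y}

/-- The elements with fixed points, of odd order, with `x` in the normaliser of their centraliser. -/
def Yd (x : G F m) : Set (G F m) := {y | ¬ Fpf y ∧ y ^ 4 ≠ 1 ∧ cm x y}

/-- Torus type. -/
def IsTor (X : Subgroup (G F m)) : Prop := ∃ g : G F m, Fpf g ∧ X = cent g

/-- The members of the partition with `x` in the normaliser. -/
noncomputable def Xs (x : G F m) : Finset (Subgroup (G F m)) :=
  (Set.toFinite {X : Subgroup (G F m) | IsPart X ∧ x ∈ Subgroup.normalizer (X : Set (G F m))}).toFinset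

theorem mem_Xs {x : G F m} {X : Subgroup (G F m)} :
    X ∈ Xs x ↔ IsPart X ∧ x ∈ Subgroup.normalizer (X : Set (G F m)) := by
  simp [Xs]

include h

theorem isPart_D (g : G F m) : IsPart ((Dsub h).map (MulAut.conj g).toMonoidHom) := by
  refine ⟨cyclic_map_conj h _ g, ?_⟩
  rw [card_map_conj h, card_Dsub h, h.hF]
  exact Or.inl rfl

theorem isPart_tor {g : G F m} (hg : Fpf g) : IsPart (cent g) := by
  refine ⟨Fpf.cent_cyclic h hg (Fpf.ne_one h hg), ?_⟩
  rcases card_tor h ⟨cent g, g, hg, rfl⟩ with h1 | h1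
  · exact Or.inr (Or.inl h1)
  · exact Or.inr (Or.inr h1)

/-- Members of the partition are conjugates of `D` or tori. -/
theorem part_cases {X : Subgroup (G F m)} (hX : IsPart X) :
    (∃ g : G F m, X = (Dsub h).map (MulAut.conj g).toMonoidHom) ∨ IsTor X := by
  obtain ⟨hc, hcard⟩ := hX
  obtain ⟨hodd, h1⟩ := cards_odd h.hm hcard
  have hnt : Nontrivial X := Finite.one_lt_card_iff_nontrivial.mp h1
  obtain ⟨g, hg⟩ := exists_ne (1 : X)
  have hg1 : (g : G F m) ≠ 1 := fun hc => hg (Subtype.ext hc)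
  have hXc := eq_cent h hc hcard g.2 hg1
  rcases trichotomy h hg1 with ⟨x, a, b, hne, he⟩ | ⟨x, k, hk, he⟩ | hf
  · exfalso
    have h4 : ((g : G F m)) ^ 4 = 1 := by
      rw [he]
      exact conj_U_pow_four h ⟨a, b, rfl⟩
    exact hg1 (eq_one_of_mem_part h ⟨hc, hcard⟩ g.2 h4)
  · left
    have hle := cent_conj_Dg_le h (x := x) hk
    have hge : (Dsub h).map (MulAut.conj x).toMonoidHom ≤ cent (x * Dg h k * x⁻¹) :=
      le_cent_of_cyclic h (cyclic_map_conj h (Dsub h) x) (conj_mem_map h ⟨k, rfl⟩)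
    rw [← he] at hle hge
    exact ⟨x, hXc.trans (le_antisymm hle hge)⟩
  · right
    exact ⟨g, hf, hXc⟩

/-- The normaliser of a torus. -/
theorem card_norm_tor {X : Subgroup (G F m)} (hX : IsTor X) :
    Nat.card (Subgroup.normalizer (X : Set (G F m))) = 2 ^ 2 * Nat.card X := by
  obtain ⟨g, hg, rfl⟩ := hX
  exact tor_normalizer h ⟨cent g, g, hg, rfl⟩

theorem T_conj_mem {y : G F m} (hy : y ∈ Dsub h) : Tg h * y * (Tg h)⁻¹ ∈ Dsub h := by
  obtain ⟨k, rfl⟩ := hy
  rw [Tg_conj_Dg h]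
  exact (Dsub h).inv_mem ⟨k, rfl⟩

theorem conj_T_mem_norm (g : G F m) :
    g * Tg h * g⁻¹ ∈ Subgroup.normalizer (((Dsub h).map (MulAut.conj g).toMonoidHom : Subgroup (G F m)) : Set (G F m)) := by
  rw [Subgroup.mem_normalizer_iff]
  intro n
  rw [mem_map_conj h, mem_map_conj h]
  have e : g⁻¹ * (g * Tg h * g⁻¹ * n * (g * Tg h * g⁻¹)⁻¹) * g = Tg h * (g⁻¹ * n * g) * (Tg h)⁻¹ := by group
  rw [e]
  constructor
  · exact T_conj_mem h
  · intro hc
    have h1 := T_conj_mem h hc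
    have e2 : Tg h * (Tg h * (g⁻¹ * n * g) * (Tg h)⁻¹) * (Tg h)⁻¹ = g⁻¹ * n * g := by
      have h2 := Tg_sq h
      have h3 := Tg_inv h
      rw [h3]
      calc Tg h * (Tg h * (g⁻¹ * n * g) * Tg h) * Tg h = (Tg h * Tg h) * (g⁻¹ * n * g) * (Tg h * Tg h) := by group
        _ = _ := by rw [h2]; group
    rwa [e2] at h1

/-- The normaliser of a conjugate of `D`. -/
theorem card_norm_D (g : G F m) :
    Nat.card (Subgroup.normalizer (((Dsub h).map (MulAut.conj g).toMonoidHom : Subgroup (G F m)) : Set (G F m))) =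
      2 ^ 1 * Nat.card ((Dsub h).map (MulAut.conj g).toMonoidHom) := by
  set X := (Dsub h).map (MulAut.conj g).toMonoidHom with hX
  have h1 := card_normalizer_D h g
  rw [← hX] at h1
  have hXN : X ≤ Subgroup.normalizer (X : Set (G F m)) := Subgroup.le_normalizer
  obtain ⟨c, hc⟩ := Subgroup.card_dvd_of_le hXN
  have hXpos : 0 < Nat.card X := Nat.card_pos
  have hc2 : c ≤ 2 := by
    rw [hc, mul_comm] at h1
    exact Nat.le_of_mul_le_mul_right h1 hXpos
  have hNpos : 0 < Nat.card (Subgroup.normalizer (X : Set (G F m))) := Nat.card_pos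
  have hc0 : c ≠ 0 := by
    rintro rfl
    omega
  have hc1 : c ≠ 1 := by
    rintro rfl
    rw [mul_one] at hc
    have h2 : X = Subgroup.normalizer (X : Set (G F m)) := Subgroup.eq_of_le_of_card_ge hXN hc.le
    have h3 : g * Tg h * g⁻¹ ∈ X := by
      rw [h2]
      exact conj_T_mem_norm h g
    rw [hX, mem_map_conj h] at h3
    obtain ⟨k, hk⟩ := h3
    have e : g⁻¹ * (g * Tg h * g⁻¹) * g = Tg h := by group
    rw [e] at hk
    have h4 : Tg h • (oI : Om F m) = oI := by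
      rw [hk]
      exact Dg_oI h k
    rw [Tg_oI h] at h4
    exact oI_ne_zero h h4.symm
  have hc2' : c = 2 := by omega
  rw [hc, hc2', mul_comm]
  rfl

/-- Elements with `y⁴ ≠ 1` have odd order. -/
theorem odd_of_pow_four_ne {y : G F m} (h4 : y ^ 4 ≠ 1) : Odd (orderOf y) := by
  have hy1 : y ≠ 1 := by
    rintro rfl
    simp at h4
  rcases trichotomy h hy1 with ⟨x, a, b, hne, he⟩ | ⟨x, k, hk, he⟩ | hf
  · exfalso
    apply h4
    rw [he]
    exact conj_U_pow_four h ⟨a, b, rfl⟩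
  · have h1 : IsPart ((Dsub h).map (MulAut.conj x).toMonoidHom) := isPart_D h x
    have h2 : y ∈ (Dsub h).map (MulAut.conj x).toMonoidHom := by
      rw [he]
      exact conj_mem_map h ⟨k, rfl⟩
    exact (cards_odd h.hm h1.2).1.of_dvd_nat (Subgroup.orderOf_dvd_natCard _ h2)
  · have h1 := isPart_tor h hf
    exact (cards_odd h.hm h1.2).1.of_dvd_nat (Subgroup.orderOf_dvd_natCard _ (mem_cent_self h y))

theorem part_cent {y : G F m} (h4 : y ^ 4 ≠ 1) : IsPart (cent y) := by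
  have hy1 : y ≠ 1 := by
    rintro rfl
    simp at h4
  exact odd_cent h hy1 (odd_of_pow_four_ne h h4)

theorem pow_four_ne_of_mem {X : Subgroup (G F m)} (hX : IsPart X) {y : G F m} (hy : y ∈ X) (hy1 : y ≠ 1) :
    y ^ 4 ≠ 1 := fun hc => hy1 (eq_one_of_mem_part h hX hy hc)

/-- Normalising the centraliser. -/
theorem mem_norm_iff {x y : G F m} (h4 : y ^ 4 ≠ 1) :
    x ∈ Subgroup.normalizer ((cent y : Subgroup (G F m)) : Set (G F m)) ↔ cm x y := by
  have hy1 : y ≠ 1 := by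
    rintro rfl
    simp at h4
  constructor
  · intro hx
    have h1 : x * y * x⁻¹ ∈ cent y := (Subgroup.mem_normalizer_iff.mp hx y).mp (mem_cent_self h y)
    exact mem_cent.mp h1
  · intro hc
    have h1 : x * y * x⁻¹ ∈ cent y := mem_cent.mpr hc
    have hz1 : x * y * x⁻¹ ≠ 1 := by
      intro hz
      apply hy1
      have e : y = x⁻¹ * (x * y * x⁻¹) * x := by group
      rw [e, hz]
      group
    have hP := part_cent h h4
    have h2 := eq_cent h hP.1 hP.2 h1 hz1
    rw [Subgroup.mem_normalizer_iff_map_conj_eq]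
    have h3 : (cent y).map (MulAut.conj x).toMonoidHom = cent (x * y * x⁻¹) := cent_conj x y
    exact h3.trans h2.symm

/-- Two members of the partition normalised by a 2-element: their normalisers meet in the stabiliser of
the fixed point. -/
theorem norm_inter {X X' : Subgroup (G F m)} (hX : IsPart X) (hX' : IsPart X') (hne : X ≠ X') {x y : G F m}
    (hx1 : x ≠ 1) (hx4 : x ^ 4 = 1) {w₀ : Om F m} (hw₀ : x • w₀ = w₀)
    (hxN : x ∈ Subgroup.normalizer (X : Set (G F m))) (hxN' : x ∈ Subgroup.normalizer (X' : Set (G F m)))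
    (hyN : y ∈ Subgroup.normalizer (X : Set (G F m))) (hyN' : y ∈ Subgroup.normalizer (X' : Set (G F m))) :
    y • w₀ = w₀ := by
  set K := Subgroup.normalizer (X : Set (G F m)) ⊓ Subgroup.normalizer (X' : Set (G F m)) with hK
  have hK4 : ∀ t ∈ K, t ^ 4 = 1 := by
    rintro t ⟨h1, h2⟩
    by_contra hc
    rcases mem_normalizer_cases h hX h1 with h3 | h3
    · rcases mem_normalizer_cases h hX' h2 with h4 | h4
      · have ht1 : t ≠ 1 := by
          rintro rfl
          simp at hc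
        exact hne ((eq_cent h hX.1 hX.2 h3 ht1).trans (eq_cent h hX'.1 hX'.2 h4 ht1).symm)
      · exact hc h4
    · exact hc h3
  obtain ⟨w₁, hw₁⟩ := two_sub_fix h (isPGroup_of_pow_four h hK4)
  have h1 := fix_unique h hx1 hx4 (hw₁ x ⟨hxN, hxN'⟩) hw₀
  rw [← h1]
  exact hw₁ y ⟨hyN, hyN'⟩

/-- Elementary count for the difference of a normaliser and a stabiliser. -/
theorem ncard_diff {X : Subgroup (G F m)} (hX : IsPart X) {e : ℕ}
    (hN : Nat.card (Subgroup.normalizer (X : Set (G F m))) = 2 ^ e * Nat.card X) {x : G F m}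
    (hxN : x ∈ Subgroup.normalizer (X : Set (G F m))) (hx1 : x ≠ 1) (hx4 : x ^ 4 = 1) {w₀ : Om F m}
    (hw₀ : x • w₀ = w₀) :
    (((Subgroup.normalizer (X : Set (G F m)) : Subgroup (G F m)) : Set (G F m)) \
      (MulAction.stabilizer (G F m) w₀ : Set (G F m))).ncard = 2 ^ e * (Nat.card X - 1) := by
  have h1 := card_T h hX hN hxN hx1 hx4 hw₀
  set N := Subgroup.normalizer (X : Set (G F m)) with hNdef
  have h2 : ((N : Set (G F m)) \ (MulAction.stabilizer (G F m) w₀ : Set (G F m))) =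
      (N : Set (G F m)) \ (((N ⊓ MulAction.stabilizer (G F m) w₀ : Subgroup (G F m))) : Set (G F m)) := by
    ext t
    simp only [Set.mem_diff, SetLike.mem_coe, Subgroup.mem_inf, not_and]
    tauto
  rw [h2, Set.ncard_diff (fun t ht => ht.1) (Set.toFinite _)]
  rw [← Nat.card_coe_set_eq, ← Nat.card_coe_set_eq]
  change Nat.card N - Nat.card (N ⊓ MulAction.stabilizer (G F m) w₀ : Subgroup (G F m)) = _
  rw [h1, hN, Nat.mul_sub, mul_one]

/-- The set of non-identity elements of a subgroup. -/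
theorem ncard_sharp (X : Subgroup (G F m)) :
    ((X : Set (G F m)) \ {1}).ncard = Nat.card X - 1 := by
  rw [Set.ncard_diff (by simp) (Set.toFinite _), Set.ncard_singleton]
  rw [← Nat.card_coe_set_eq]
  rfl

theorem disjoint_sharp {X X' : Subgroup (G F m)} (hX : IsPart X) (hX' : IsPart X') (hne : X ≠ X') :
    Disjoint ((X : Set (G F m)) \ {1}) ((X' : Set (G F m)) \ {1}) := by
  rw [Set.disjoint_left]
  rintro y ⟨hy, hy1⟩ ⟨hy', -⟩
  exact hne ((eq_cent h hX.1 hX.2 hy hy1).trans (eq_cent h hX'.1 hX'.2 hy' hy1).symm)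

open scoped Classical in
/-- `Yt` as a union. -/
theorem Yt_eq (x : G F m) : Yt x = ⋃ X ∈ (Xs x).filter (fun X => IsTor X), ((X : Set (G F m)) \ {1}) := by
  ext y
  simp only [Set.mem_iUnion, exists_prop, Finset.mem_filter, mem_Xs]
  constructor
  · rintro ⟨hf, hc⟩
    have h4 : y ^ 4 ≠ 1 := pow_four_ne_of_mem h (isPart_tor h hf) (mem_cent_self h y) (Fpf.ne_one h hf)
    exact ⟨cent y, ⟨⟨part_cent h h4, (mem_norm_iff h h4).mpr hc⟩, ⟨y, hf, rfl⟩⟩, mem_cent_self h y, Fpf.ne_one h hf⟩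
  · rintro ⟨X, ⟨⟨hX, hxN⟩, ⟨g, hg, rfl⟩⟩, hy, hy1⟩
    have hfy : Fpf y := Fpf.of_mem_cent h hg hy hy1
    have h4 : y ^ 4 ≠ 1 := pow_four_ne_of_mem h hX hy hy1
    refine ⟨hfy, (mem_norm_iff h h4).mp ?_⟩
    rwa [← eq_cent h hX.1 hX.2 hy hy1]

open scoped Classical in
/-- `Yd` as a union. -/
theorem Yd_eq (x : G F m) : Yd x = ⋃ X ∈ (Xs x).filter (fun X => ¬ IsTor X), ((X : Set (G F m)) \ {1}) := by
  ext y
  simp only [Set.mem_iUnion, exists_prop, Finset.mem_filter, mem_Xs]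
  constructor
  · rintro ⟨hf, h4, hc⟩
    have hy1 : y ≠ 1 := by
      rintro rfl
      simp at h4
    refine ⟨cent y, ⟨⟨part_cent h h4, (mem_norm_iff h h4).mpr hc⟩, ?_⟩, mem_cent_self h y, hy1⟩
    rintro ⟨g, hg, he⟩
    exact hf (Fpf.of_mem_cent h hg (he ▸ mem_cent_self h y) hy1)
  · rintro ⟨X, ⟨⟨hX, hxN⟩, hT⟩, hy, hy1⟩
    have h4 : y ^ 4 ≠ 1 := pow_four_ne_of_mem h hX hy hy1
    have hXc := eq_cent h hX.1 hX.2 hy hy1
    refine ⟨fun hfy => hT ⟨y, hfy, hXc⟩, h4, (mem_norm_iff h h4).mp ?_⟩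
    rwa [← hXc]

open scoped Classical in
theorem ncard_Yt (x : G F m) :
    (Yt x).ncard = ∑ X ∈ (Xs x).filter (fun X => IsTor X), (Nat.card X - 1) := by
  rw [Yt_eq h, ncard_biUnion]
  · exact Finset.sum_congr rfl (fun X _ => ncard_sharp h X)
  · intro X hX X' hX' hne
    have h1 := (mem_Xs.mp (Finset.mem_filter.mp hX).1).1
    have h2 := (mem_Xs.mp (Finset.mem_filter.mp hX').1).1
    exact disjoint_sharp h h1 h2 hne

open scoped Classical in
theorem ncard_Yd (x : G F m) :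
    (Yd x).ncard = ∑ X ∈ (Xs x).filter (fun X => ¬ IsTor X), (Nat.card X - 1) := by
  rw [Yd_eq h, ncard_biUnion]
  · exact Finset.sum_congr rfl (fun X _ => ncard_sharp h X)
  · intro X hX X' hX' hne
    have h1 := (mem_Xs.mp (Finset.mem_filter.mp hX).1).1
    have h2 := (mem_Xs.mp (Finset.mem_filter.mp hX').1).1
    exact disjoint_sharp h h1 h2 hne

/-- The solubiliser. -/
def Sol (x : G F m) : Set (G F m) := {y | _root_.Group.IsSolvable (Subgroup.closure ({x, y} : Set (G F m)))}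

/-- The solubiliser of a 2-element as a union. -/
theorem sol_eq (hp : (2 * m + 1).Prime) {x : G F m} (hx1 : x ≠ 1) (hx4 : x ^ 4 = 1) {w₀ : Om F m}
    (hw₀ : x • w₀ = w₀) :
    Sol x = (MulAction.stabilizer (G F m) w₀ : Set (G F m)) ∪
      ⋃ X ∈ Xs x, (((Subgroup.normalizer (X : Set (G F m)) : Subgroup (G F m)) : Set (G F m)) \
        (MulAction.stabilizer (G F m) w₀ : Set (G F m))) := by
  ext y
  simp only [Sol, Set.mem_setOf_eq, Set.mem_union, Set.mem_iUnion, exists_prop, mem_Xs, Set.mem_diff,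
    SetLike.mem_coe, MulAction.mem_stabilizer_iff]
  rw [sol_iff h hp]
  constructor
  · rintro (⟨w, hw, hy⟩ | ⟨X, hX, hxN, hyN⟩)
    · left
      rw [← fix_unique h hx1 hx4 hw hw₀]
      exact hy
    · by_cases hy : y • w₀ = w₀
      · exact Or.inl hy
      · exact Or.inr ⟨X, ⟨hX, hxN⟩, hyN, hy⟩
  · rintro (hy | ⟨X, ⟨hX, hxN⟩, hyN, -⟩)
    · exact Or.inl ⟨w₀, hw₀, hy⟩
    · exact Or.inr ⟨X, hX, hxN, hyN⟩

/-- The general count. -/
theorem sol_card (hp : (2 * m + 1).Prime) {x : G F m} (hx1 : x ≠ 1) (hx4 : x ^ 4 = 1) {w₀ : Om F m}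
    (hw₀ : x • w₀ = w₀) :
    (Sol x).ncard = Fintype.card F ^ 2 * (Fintype.card F - 1) + 2 * (Yd x).ncard + 4 * (Yt x).ncard := by
  classical
  rw [sol_eq h hp hx1 hx4 hw₀, Set.ncard_union_eq _ (Set.toFinite _) (Set.toFinite _), ncard_biUnion]
  · have h1 : (MulAction.stabilizer (G F m) w₀ : Set (G F m)).ncard = Fintype.card F ^ 2 * (Fintype.card F - 1) := by
      rw [← card_stab h w₀, ← Nat.card_coe_set_eq]
      rfl
    rw [h1, ← Finset.sum_filter_add_sum_filter_not (Xs x) (fun X => IsTor X), ncard_Yt h, ncard_Yd h,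
      Finset.mul_sum, Finset.mul_sum, add_assoc]
    congr 1
    rw [add_comm]
    congr 1
    · apply Finset.sum_congr rfl
      intro X hX
      obtain ⟨hX1, hT⟩ := Finset.mem_filter.mp hX
      obtain ⟨hXp, hxN⟩ := mem_Xs.mp hX1
      rcases part_cases h hXp with ⟨g, rfl⟩ | hT'
      · exact ncard_diff h hXp (card_norm_D h g) hxN hx1 hx4 hw₀
      · exact absurd hT' hT
    · apply Finset.sum_congr rfl
      intro X hX
      obtain ⟨hX1, hT⟩ := Finset.mem_filter.mp hX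
      obtain ⟨hXp, hxN⟩ := mem_Xs.mp hX1
      exact ncard_diff h hXp (card_norm_tor h hT) hxN hx1 hx4 hw₀
  · intro X hX X' hX' hne
    obtain ⟨h1, h2⟩ := mem_Xs.mp hX
    obtain ⟨h3, h4⟩ := mem_Xs.mp hX'
    rw [Set.disjoint_left]
    rintro y ⟨hy, hy'⟩ ⟨hy2, -⟩
    exact hy' (norm_inter h h1 h3 hne hx1 hx4 hw₀ h2 h4 hy hy2)
  · rw [Set.disjoint_iUnion₂_right]
    intro X _
    rw [Set.disjoint_left]
    intro y hy hy'
    exact hy'.2 hy

end Cfsg.Agent.Lib.Suzuki.Solub3
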