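import Mathlib

/-! An abstract analysis of permutation groups in which involutions have a unique fixed point
(used for the classification of subgroups of Suzuki groups). -/

set_option autoImplicit false
set_option linter.unusedSectionVars false
set_option linter.deprecated false
set_option linter.unusedSimpArgs false

namespace Cfsg.Agent.Lib.Suzuki.SubAbs

open scoped commutatorElement

/-- Involutions. -/
def IsInv {M : Type*} [Monoid M] (z : M) : Prop := z ≠ 1 ∧ z * z = 1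

theorem IsInv.pow_four {M : Type*} [Monoid M] {z : M} (hz : IsInv z) : z ^ 4 = 1 := by
  have e : z ^ 4 = (z * z) * (z * z) := by
    rw [show (4 : ℕ) = 2 + 2 from rfl, pow_add, pow_two]
  rw [e, hz.2, one_mul]

theorem coprime_four_of_odd {n : ℕ} (h : Odd n) : Nat.Coprime n 4 := by
  have : (4 : ℕ) = 2 ^ 2 := rfl
  rw [this]
  exact Nat.Coprime.pow_right 2 (Nat.coprime_two_right.mpr h)

/-- In a finite group, two involutions whose product has odd order are conjugate by an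
involution. -/
theorem swap_of_odd {M : Type*} [Group M] {z z' : M} (hz : IsInv z) (hz' : IsInv z')
    {d : ℕ} (hd : (z * z') ^ (2 * d + 1) = 1) : ∃ j : M, IsInv j ∧ j * z * j⁻¹ = z' := by
  set x := z * z' with hx
  have hzi : z⁻¹ = z := inv_eq_of_mul_eq_one_left hz.2
  have hzi' : z'⁻¹ = z' := inv_eq_of_mul_eq_one_left hz'.2
  have hinv : z * x * z⁻¹ = x⁻¹ := by
    rw [hx, hzi, mul_inv_rev, hzi, hzi', mul_assoc, mul_assoc, ← mul_assoc]
    rw [hz.2, one_mul]
  have hinvp : ∀ n : ℕ, z * x ^ n * z = (x⁻¹) ^ n := by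
    intro n
    have := conj_pow (a := z) (b := x) (i := n)
    rw [hinv, hzi] at this
    exact this.symm
  have hjj : x ^ d * z * (x ^ d * z) = 1 := by
    calc x ^ d * z * (x ^ d * z) = x ^ d * (z * x ^ d * z) := by group
      _ = x ^ d * (x⁻¹) ^ d := by rw [hinvp]
      _ = 1 := by rw [inv_pow, mul_inv_cancel]
  refine ⟨x ^ d * z, ⟨?_, hjj⟩, ?_⟩
  · intro hc
    have h1 : z = (x ^ d)⁻¹ := eq_inv_of_mul_eq_one_right hc
    have h2 : z ^ (2 * d + 1) = 1 := by
      rw [h1, inv_pow, ← pow_mul, mul_comm d, pow_mul, hd, one_pow, inv_one]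
    have h3 : z ^ (2 * d + 1) = z := by
      rw [pow_succ, pow_mul, pow_two, hz.2, one_pow, one_mul]
    rw [h3] at h2
    exact hz.1 h2
  · have hj : (x ^ d * z)⁻¹ = x ^ d * z := inv_eq_of_mul_eq_one_left hjj
    have h4 : x ^ (2 * d) = x⁻¹ := by
      have : x ^ (2 * d) * x = 1 := by rw [← pow_succ, hd]
      exact eq_inv_of_mul_eq_one_left this
    rw [hj]
    calc x ^ d * z * z * (x ^ d * z) = x ^ d * (z * z) * x ^ d * z := by group
      _ = x ^ (2 * d) * z := by rw [hz.2, mul_one, ← pow_add, two_mul]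
      _ = z' := by
        rw [h4, hx, mul_inv_rev, hzi, hzi', mul_assoc, hz.2, mul_one]

section Setup

variable {M Δ : Type*} [Group M] [MulAction M Δ]

/-- The set-up. `T w` is the centraliser of any involution fixing `w`. -/
structure Setup (T : Δ → Subgroup M) : Prop where
  inv_exists : ∀ (z : M), IsInv z → ∃ w : Δ, z • w = w
  inv_unique : ∀ (z : M) (a b : Δ), IsInv z → z • a = a → z • b = b → a = b
  cent : ∀ (z : M) (w : Δ), IsInv z → z • w = w → Subgroup.centralizer ({z} : Set M) = T w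
  semi : ∀ (w w' : Δ) (v : M), v ∈ T w → w ≠ w' → v • w' = w' → v = 1
  two : ∀ (g : M), g ≠ 1 → ∀ a b c : Δ, g • a = a → g • b = b → g • c = c → a = b ∨ a = c ∨ b = c

variable {T : Δ → Subgroup M} (S : Setup T)
include S

/-- Involutions with different fixed points: their product has odd order. -/
theorem exists_swap [Finite M] {z z' : M} {w w' : Δ} (hz : IsInv z) (hz' : IsInv z') (hw : z • w = w)
    (hw' : z' • w' = w') (hne : w ≠ w') : ∃ j : M, IsInv j ∧ j * z * j⁻¹ = z' := by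
  have hzi : z⁻¹ = z := inv_eq_of_mul_eq_one_left hz.2
  have hzi' : z'⁻¹ = z' := inv_eq_of_mul_eq_one_left hz'.2
  set x := z * z' with hx
  have hpos : 0 < orderOf x := orderOf_pos x
  rcases Nat.even_or_odd' (orderOf x) with ⟨d, hd | hd⟩
  · exfalso
    have hdpos : 0 < d := by omega
    set u := x ^ d with hu
    have hu1 : u ≠ 1 := by
      intro hc
      have := orderOf_le_of_pow_eq_one hdpos hc
      omega
    have hu2 : u * u = 1 := by
      rw [hu, ← pow_add, ← two_mul, ← hd, pow_orderOf_eq_one]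
    have huinv : u⁻¹ = u := inv_eq_of_mul_eq_one_left hu2
    have hxi : x⁻¹ = z' * z := by rw [hx, mul_inv_rev, hzi, hzi']
    have hzu : z * u * z⁻¹ = u := by
      rw [hu, ← conj_pow]
      have : z * x * z⁻¹ = x⁻¹ := by
        rw [hxi, hx, hzi, mul_assoc, mul_assoc, ← mul_assoc]
        rw [hz.2, one_mul]
      rw [this, inv_pow, ← hu, huinv]
    have hzu' : z' * u * z'⁻¹ = u := by
      rw [hu, ← conj_pow]
      have : z' * x * z'⁻¹ = x⁻¹ := by
        rw [hxi, hx, hzi', mul_assoc, mul_assoc, hz'.2, mul_one]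
      rw [this, inv_pow, ← hu, huinv]
    -- a fixed point of `u`
    obtain ⟨w₀, hw₀⟩ := S.inv_exists u ⟨hu1, hu2⟩
    have key : ∀ y : M, y * u * y⁻¹ = u → u • (y • w₀) = y • w₀ := by
      intro y hy
      have h1 : u * y = y * u := by
        calc u * y = y * u * y⁻¹ * y := by rw [hy]
          _ = y * u := by group
      rw [← mul_smul, h1, mul_smul, hw₀]
    have h1 : z • w₀ = w₀ := S.inv_unique u _ _ ⟨hu1, hu2⟩ (key z hzu) hw₀
    have h2 : z' • w₀ = w₀ := S.inv_unique u _ _ ⟨hu1, hu2⟩ (key z' hzu') hw₀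
    have h3 : w₀ = w := S.inv_unique z _ _ hz h1 hw
    have h4 : w₀ = w' := S.inv_unique z' _ _ hz' h2 hw'
    exact hne (h3.symm.trans h4)
  · have h5 : (z * z') ^ (2 * d + 1) = 1 := by
      rw [← hx, ← hd, pow_orderOf_eq_one]
    exact swap_of_odd hz hz' h5

/-- The action of a conjugating involution on fixed points. -/
theorem swap_points {j z z' : M} {w w' : Δ} (hj : IsInv j) (hc : j * z * j⁻¹ = z')
    (hz' : IsInv z') (hw : z • w = w) (hw' : z' • w' = w') : j • w = w' ∧ j • w' = w := by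
  have h1 : z' • (j • w) = j • w := by
    rw [← hc, ← mul_smul]
    have : j * z * j⁻¹ * j = j * z := by group
    rw [this, mul_smul, hw]
  have h2 : j • w = w' := S.inv_unique z' _ _ hz' h1 hw'
  refine ⟨h2, ?_⟩
  rw [← h2, ← mul_smul, hj.2, one_smul]

/-- Two-point stabilisers. -/
def Stab2 (M : Type*) {Δ : Type*} [Group M] [MulAction M Δ] (w w' : Δ) : Subgroup M :=
  MulAction.stabilizer M w ⊓ MulAction.stabilizer M w'

omit S in
theorem mem_Stab2 {w w' : Δ} {g : M} : g ∈ Stab2 M w w' ↔ g • w = w ∧ g • w' = w' := by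
  simp [Stab2, Subgroup.mem_inf, MulAction.mem_stabilizer_iff]

/-- The two-point stabiliser is transitive on involutions fixing a point. -/
theorem trans_two [Finite M] {z z₁ z' : M} {w w' : Δ} (hz : IsInv z) (hz₁ : IsInv z₁) (hz' : IsInv z')
    (hw : z • w = w) (hw₁ : z₁ • w = w) (hw' : z' • w' = w') (hne : w ≠ w') :
    ∃ g ∈ Stab2 M w w', g * z * g⁻¹ = z₁ := by
  obtain ⟨j, hj, hjc⟩ := exists_swap S hz hz' hw hw' hne
  obtain ⟨j₁, hj₁, hjc₁⟩ := exists_swap S hz₁ hz' hw₁ hw' hne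
  obtain ⟨e1, e2⟩ := swap_points S hj hjc hz' hw hw'
  obtain ⟨e3, e4⟩ := swap_points S hj₁ hjc₁ hz' hw₁ hw'
  refine ⟨j₁⁻¹ * j, ?_, ?_⟩
  · rw [mem_Stab2]
    have hi : j₁⁻¹ = j₁ := inv_eq_of_mul_eq_one_left hj₁.2
    rw [hi, mul_smul, mul_smul, e1, e2, e3, e4]
    exact ⟨rfl, rfl⟩
  · have : j₁⁻¹ * j * z * (j₁⁻¹ * j)⁻¹ = j₁⁻¹ * (j * z * j⁻¹) * j₁ := by group
    rw [this, hjc, ← hjc₁]
    group

/-- Elements of `T w` fix `w`. -/
theorem T_fix {z y : M} {w : Δ} (hz : IsInv z) (hw : z • w = w) (hy : y ∈ T w) : y • w = w := by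
  rw [← S.cent z w hz hw, Subgroup.mem_centralizer_singleton_iff] at hy
  have h1 : z • (y • w) = y • w := by
    rw [← mul_smul, ← hy, mul_smul, hw]
  exact S.inv_unique z _ _ hz h1 hw

/-- The stabiliser of `w` normalises `T w`. -/
theorem T_normal {z m y : M} {w : Δ} (hz : IsInv z) (hw : z • w = w) (hm : m • w = w) (hy : y ∈ T w) :
    m * y * m⁻¹ ∈ T w := by
  have hz1 : IsInv (m * z * m⁻¹) := by
    refine ⟨?_, ?_⟩
    · intro hc
      apply hz.1
      have : z = m⁻¹ * (m * z * m⁻¹) * m := by group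
      rw [this, hc]
      group
    · have : m * z * m⁻¹ * (m * z * m⁻¹) = m * (z * z) * m⁻¹ := by group
      rw [this, hz.2]
      group
  have hw1 : (m * z * m⁻¹) • w = w := by
    have hmi : m⁻¹ • w = w := by
      rw [inv_smul_eq_iff, hm]
    rw [mul_smul, mul_smul, hmi, hw, hm]
  rw [← S.cent z w hz hw, Subgroup.mem_centralizer_singleton_iff] at hy
  rw [← S.cent _ w hz1 hw1, Subgroup.mem_centralizer_singleton_iff]
  calc m * y * m⁻¹ * (m * z * m⁻¹) = m * (y * z) * m⁻¹ := by group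
    _ = m * (z * y) * m⁻¹ := by rw [hy]
    _ = _ := by group

/-- The decomposition of a one-point stabiliser. -/
theorem decomp [Finite M] {z z' m : M} {w w' : Δ} (hz : IsInv z) (hz' : IsInv z')
    (hw : z • w = w) (hw' : z' • w' = w') (hne : w ≠ w') (hm : m • w = w) :
    ∃ v ∈ T w, ∃ g ∈ Stab2 M w w', m = v * g := by
  have hz1 : IsInv (m * z * m⁻¹) := by
    refine ⟨?_, ?_⟩
    · intro hc
      apply hz.1
      have : z = m⁻¹ * (m * z * m⁻¹) * m := by group
      rw [this, hc]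
      group
    · have : m * z * m⁻¹ * (m * z * m⁻¹) = m * (z * z) * m⁻¹ := by group
      rw [this, hz.2]
      group
  have hw1 : (m * z * m⁻¹) • w = w := by
    have hmi : m⁻¹ • w = w := by
      rw [inv_smul_eq_iff, hm]
    rw [mul_smul, mul_smul, hmi, hw, hm]
  obtain ⟨g, hg, hgc⟩ := trans_two S hz hz1 hz' hw hw1 hw' hne
  have hy : g⁻¹ * m ∈ T w := by
    rw [← S.cent z w hz hw, Subgroup.mem_centralizer_singleton_iff]
    have h1 : g * z = m * z * m⁻¹ * g := by
      rw [← hgc]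
      group
    calc g⁻¹ * m * z = g⁻¹ * (m * z * m⁻¹) * m := by group
      _ = g⁻¹ * (g * z * g⁻¹) * m := by rw [hgc]
      _ = z * (g⁻¹ * m) := by group
  have hgw : g • w = w := (mem_Stab2.mp hg).1
  refine ⟨g * (g⁻¹ * m) * g⁻¹, T_normal S hz hw hgw hy, g, hg, ?_⟩
  group

/-- An element of `T w` fixing another point is trivial. -/
theorem T_inf_Stab2 {v : M} {w w' : Δ} (hne : w ≠ w') (hv : v ∈ T w) (hv' : v ∈ Stab2 M w w') : v = 1 :=
  S.semi w w' v hv hne (mem_Stab2.mp hv').2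

/-- The map from the two-point stabiliser to the involutions fixing `w` is a bijection. -/
theorem card_Stab2 [Finite M] {z z' : M} {w w' : Δ} (hz : IsInv z) (hz' : IsInv z') (hw : z • w = w)
    (hw' : z' • w' = w') (hne : w ≠ w') :
    Nat.card (Stab2 M w w') = Nat.card {y : M // IsInv y ∧ y • w = w} := by
  apply Nat.card_congr
  refine Equiv.ofBijective (fun g => ⟨g.1 * z * g.1⁻¹, ?_, ?_⟩) ⟨?_, ?_⟩
  · refine ⟨?_, ?_⟩
    · intro hc
      apply hz.1
      have : z = g.1⁻¹ * (g.1 * z * g.1⁻¹) * g.1 := by group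
      rw [this, hc]
      group
    · have : g.1 * z * g.1⁻¹ * (g.1 * z * g.1⁻¹) = g.1 * (z * z) * g.1⁻¹ := by group
      rw [this, hz.2]
      group
  · have hgw : g.1 • w = w := (mem_Stab2.mp g.2).1
    have hmi : g.1⁻¹ • w = w := by
      rw [inv_smul_eq_iff, hgw]
    rw [mul_smul, mul_smul, hmi, hw, hgw]
  · rintro ⟨g, hg⟩ ⟨g', hg'⟩ he
    have he' : g * z * g⁻¹ = g' * z * g'⁻¹ := congrArg Subtype.val he
    have h1 : g'⁻¹ * g ∈ T w := by
      rw [← S.cent z w hz hw, Subgroup.mem_centralizer_singleton_iff]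
      have h2 : g * z = g' * z * g'⁻¹ * g := by
        rw [← he']
        group
      calc g'⁻¹ * g * z = g'⁻¹ * (g * z) := by group
        _ = g'⁻¹ * (g' * z * g'⁻¹ * g) := by rw [h2]
        _ = _ := by group
    have h3 : g'⁻¹ * g ∈ Stab2 M w w' := (Stab2 M w w').mul_mem ((Stab2 M w w').inv_mem hg') hg
    have h4 := T_inf_Stab2 S hne h1 h3
    apply Subtype.ext
    have h5 : g = g' * (g'⁻¹ * g) := by group
    change g = g'
    rw [h5, h4, mul_one]
  · rintro ⟨y, hy, hyw⟩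
    obtain ⟨g, hg, hgc⟩ := trans_two S hz hy hz' hw hyw hw' hne
    exact ⟨⟨g, hg⟩, Subtype.ext hgc⟩

/-- The transitivity of `T w` when there are at least two involutions. -/
theorem T_trans [Finite M] {z z₁ z' z'' : M} {w w' w'' : Δ} (hz : IsInv z) (hz₁ : IsInv z₁) (hzne : z ≠ z₁)
    (hz' : IsInv z') (hz'' : IsInv z'') (hw : z • w = w) (hw₁ : z₁ • w = w) (hw' : z' • w' = w')
    (hw'' : z'' • w'' = w'') (hne : w ≠ w') (hne' : w ≠ w'') :
    ∃ v ∈ T w, v • w'' = w' := by
  obtain ⟨g, hg, hgc⟩ := trans_two S hz hz₁ hz' hw hw₁ hw' hne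
  have hg1 : g ≠ 1 := by
    rintro rfl
    apply hzne
    rw [← hgc]
    group
  obtain ⟨hgw, hgw'⟩ := mem_Stab2.mp hg
  obtain ⟨v, hv, h, hh, hgvh⟩ := decomp S hz hz'' hw hw'' hne' hgw
  obtain ⟨hhw, hhw''⟩ := mem_Stab2.mp hh
  have hh1 : h ≠ 1 := by
    rintro rfl
    rw [mul_one] at hgvh
    rw [hgvh] at hgw' hg1
    exact hg1 (S.semi w w' v hv hne hgw')
  have hhi : h⁻¹ • w = w := by
    rw [inv_smul_eq_iff, hhw]
  -- commutator map
  have hmem : ∀ y : T w, y.1 * (h * y.1⁻¹ * h⁻¹) ∈ T w := by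
    intro y
    exact (T w).mul_mem y.2 (T_normal S hz hw hhw ((T w).inv_mem y.2))
  let f : T w → T w := fun y => ⟨y.1 * (h * y.1⁻¹ * h⁻¹), hmem y⟩
  have hfinj : Function.Injective f := by
    intro y y' he
    have he' : y.1 * (h * y.1⁻¹ * h⁻¹) = y'.1 * (h * y'.1⁻¹ * h⁻¹) := congrArg Subtype.val he
    set y₀ : M := y'.1⁻¹ * y.1 with hy₀
    have hy₀T : y₀ ∈ T w := (T w).mul_mem ((T w).inv_mem y'.2) y.2
    have hcomm : h * y₀ = y₀ * h := by
      have h1 : y'.1⁻¹ * (y.1 * (h * y.1⁻¹ * h⁻¹)) * (h * y.1) = y'.1⁻¹ * (y'.1 * (h * y'.1⁻¹ * h⁻¹)) * (h * y.1) := by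
        rw [he']
      have h2 : y'.1⁻¹ * (y.1 * (h * y.1⁻¹ * h⁻¹)) * (h * y.1) = y₀ * h := by
        rw [hy₀]
        group
      have h3 : y'.1⁻¹ * (y'.1 * (h * y'.1⁻¹ * h⁻¹)) * (h * y.1) = h * y₀ := by
        rw [hy₀]
        group
      rw [h2, h3] at h1
      exact h1.symm
    have hy₀w : y₀ • w = w := by
      obtain _ := hy₀T
      exact T_fix S hz hw hy₀T
    have hfix : h • (y₀ • w'') = y₀ • w'' := by
      rw [← mul_smul, hcomm, mul_smul, hhw'']
    have h1 : y₀ = 1 := by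
      rcases S.two h hh1 w w'' (y₀ • w'') hhw hhw'' hfix with h2 | h2 | h2
      · exact absurd h2 hne'
      · exfalso
        apply hne'
        have : y₀ • w = y₀ • w'' := by rw [hy₀w]; exact h2
        exact smul_left_cancel _ this
      · exact S.semi w w'' y₀ hy₀T hne' h2.symm
    apply Subtype.ext
    have h2 : y.1 = y'.1 * y₀ := by
      rw [hy₀]
      group
    rw [h2, h1, mul_one]
  have hfsurj : Function.Surjective f := by
    have : Finite (T w) := inferInstance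
    exact Finite.injective_iff_surjective.mp hfinj
  obtain ⟨y, hy⟩ := hfsurj ⟨v, hv⟩
  have hy' : y.1 * (h * y.1⁻¹ * h⁻¹) = v := congrArg Subtype.val hy
  have hg2 : g = y.1 * h * y.1⁻¹ := by
    rw [hgvh, ← hy']
    group
  have hyw : y.1 • w = w := T_fix S hz hw y.2
  refine ⟨y.1, y.2, ?_⟩
  have hfix : g • (y.1 • w'') = y.1 • w'' := by
    rw [hg2, ← mul_smul]
    have : y.1 * h * y.1⁻¹ * y.1 = y.1 * h := by group
    rw [this, mul_smul, hhw'']
  rcases S.two g hg1 w w' (y.1 • w'') hgw hgw' hfix with h2 | h2 | h2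
  · exact absurd h2 hne
  · exfalso
    apply hne'
    have : y.1 • w = y.1 • w'' := by rw [hyw]; exact h2
    exact smul_left_cancel _ this
  · exact h2.symm

end Setup

/-- A nontrivial solvable subgroup normalised by `M` contains a nontrivial abelian subgroup normalised
by `M`. -/
theorem exists_abelian_normalized {Γ : Type*} [Group Γ] [Finite Γ] (M H : Subgroup Γ) (hH : H ≠ ⊥)
    (hsol : Group.IsSolvable H) (hM : M ≤ Subgroup.normalizer (H : Set Γ)) :
    ∃ A : Subgroup Γ, A ≠ ⊥ ∧ A ≤ H ∧ (∀ x ∈ A, ∀ y ∈ A, x * y = y * x) ∧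
      M ≤ Subgroup.normalizer (A : Set Γ) := by
  induction H using WellFoundedLT.induction with | ind H ih
  by_cases hc : ⁅H, H⁆ = ⊥
  · refine ⟨H, hH, le_rfl, ?_, hM⟩
    intro x hx y hy
    have h1 := Subgroup.commutator_eq_bot_iff_le_centralizer.mp hc hx
    rw [Subgroup.mem_centralizer_iff] at h1
    exact (h1 y hy).symm
  · have hlt : ⁅H, H⁆ < H := by
      have : Nontrivial H := (H.nontrivial_iff_ne_bot).mpr hH
      have hs : Group.IsSolvable H := hsol
      have h1 := Group.IsSolvable.commutator_lt_top_of_nontrivial H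
      rw [← Subgroup.map_subtype_lt_map_subtype, H.map_subtype_commutator, ← MonoidHom.range_eq_map,
        H.range_subtype] at h1
      exact h1
    have hs : Group.IsSolvable H := hsol
    have hsol' : Group.IsSolvable (⁅H, H⁆ : Subgroup Γ) :=
      solvable_of_solvable_injective (Subgroup.inclusion_injective hlt.le)
    have hM' : M ≤ Subgroup.normalizer ((⁅H, H⁆ : Subgroup Γ) : Set Γ) := by
      intro y hy
      have h1 := hM hy
      rw [Subgroup.mem_normalizer_iff_map_conj_eq] at h1 ⊢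
      rw [Subgroup.map_commutator, h1]
    obtain ⟨A, hA, hAle, hAc, hAM⟩ := ih _ hlt hc hsol' hM'
    exact ⟨A, hA, hAle.trans hlt.le, hAc, hAM⟩

/-- Burnside's transfer theorem in the form needed. -/
theorem burnside_two {Γ : Type*} [Group Γ] [Finite Γ] (P : Sylow 2 Γ)
    (hPN : Subgroup.normalizer ((P : Subgroup Γ) : Set Γ) ≤ Subgroup.centralizer ((P : Subgroup Γ) : Set Γ)) :
    ∃ K : Subgroup Γ, K.Normal ∧ Odd (Nat.card K) ∧ (K = ⊥ → (P : Subgroup Γ) = ⊤) := by
  have : Fact (Nat.Prime 2) := ⟨Nat.prime_two⟩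
  have hK := MonoidHom.ker_transferSylow_isComplement' P hPN
  have hK2 := MonoidHom.not_dvd_card_ker_transferSylow P hPN
  refine ⟨(MonoidHom.transferSylow P hPN).ker, MonoidHom.normal_ker _, ?_, ?_⟩
  · rw [← Nat.not_even_iff_odd, even_iff_two_dvd]
    exact hK2
  · intro hc
    rw [hc, Subgroup.isComplement'_bot_left] at hK
    exact hK

/-- From a normal subgroup of a subgroup to a normalised subgroup of the ambient group. -/
theorem le_normalizer_map {Γ : Type*} [Group Γ] (M : Subgroup Γ) (K : Subgroup M) (hKn : K.Normal) :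
    M ≤ Subgroup.normalizer ((K.map M.subtype : Subgroup Γ) : Set Γ) := by
  intro y hy
  rw [Subgroup.mem_normalizer_iff]
  intro n
  constructor
  · rintro ⟨k, hk, rfl⟩
    exact ⟨⟨y, hy⟩ * k * ⟨y, hy⟩⁻¹, hKn.conj_mem k hk _, rfl⟩
  · rintro ⟨k, hk, hke⟩
    refine ⟨⟨y, hy⟩⁻¹ * k * ⟨y, hy⟩, ?_, ?_⟩
    · have := hKn.conj_mem k hk ⟨y, hy⟩⁻¹
      rwa [inv_inv] at this
    · have hke' : (k : Γ) = y * n * y⁻¹ := hke
      change y⁻¹ * (k : Γ) * y = n
      rw [hke']
      group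

/-- A perfect group normalising a cyclic group centralises it. -/
theorem perfect_centralizes {Γ : Type*} [Group Γ] (S X : Subgroup Γ) (hX : IsCyclic X)
    (hS : S ≤ Subgroup.normalizer (X : Set Γ)) (hperf : commutator S = ⊤) :
    ∀ s ∈ S, ∀ x ∈ X, s * x = x * s := by
  obtain ⟨c, hc⟩ := hX.exists_zpow_surjective
  have hact : ∀ s ∈ S, ∃ n : ℤ, ∀ x ∈ X, s * x * s⁻¹ = x ^ n := by
    intro s hs
    have h1 := (Subgroup.mem_normalizer_iff.mp (hS hs) c.1).mp c.2
    obtain ⟨n, hn⟩ := hc ⟨_, h1⟩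
    have hn' : c.1 ^ n = s * c.1 * s⁻¹ := congrArg Subtype.val hn
    refine ⟨n, fun x hx => ?_⟩
    obtain ⟨j, hj⟩ := hc ⟨x, hx⟩
    have hj' : c.1 ^ j = x := congrArg Subtype.val hj
    rw [← hj', ← conj_zpow, ← hn', ← zpow_mul, ← zpow_mul, mul_comm]
  have hcomm : ∀ s ∈ S, ∀ t ∈ S, ∀ x ∈ X, s * t * x * (s * t)⁻¹ = t * s * x * (t * s)⁻¹ := by
    intro s hs t ht x hx
    obtain ⟨n, hn⟩ := hact s hs
    obtain ⟨n', hn'⟩ := hact t ht
    have hxp : ∀ k : ℤ, x ^ k ∈ X := fun k => X.zpow_mem hx k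
    calc s * t * x * (s * t)⁻¹ = s * (t * x * t⁻¹) * s⁻¹ := by group
      _ = (x ^ n') ^ n := by rw [hn' x hx, hn _ (hxp _)]
      _ = x ^ (n' * n) := by rw [zpow_mul]
      _ = x ^ (n * n') := by rw [mul_comm]
      _ = (x ^ n) ^ n' := by rw [zpow_mul]
      _ = t * (s * x * s⁻¹) * t⁻¹ := by rw [hn x hx, hn' _ (hxp _)]
      _ = _ := by group
  have hle : commutator S ≤ (Subgroup.centralizer (X : Set Γ)).subgroupOf S := by
    rw [commutator_def, Subgroup.commutator_le]
    rintro ⟨s, hs⟩ - ⟨t, ht⟩ -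
    rw [Subgroup.mem_subgroupOf, Subgroup.mem_centralizer_iff]
    intro x hx
    have e : ((⁅(⟨s, hs⟩ : S), (⟨t, ht⟩ : S)⁆ : S) : Γ) = s * t * (t * s)⁻¹ := by
      simp [commutatorElement_def]
      group
    rw [e]
    have hv : t * s ∈ S := S.mul_mem ht hs
    have hx' : (t * s)⁻¹ * x * (t * s) ∈ X := by
      have := (Subgroup.mem_normalizer_iff.mp (hS (S.inv_mem hv)) x).mp hx
      rwa [inv_inv] at this
    have h1 := hcomm s hs t ht _ hx'
    have h2 : t * s * ((t * s)⁻¹ * x * (t * s)) * (t * s)⁻¹ = x := by group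
    rw [h2] at h1
    calc x * (s * t * (t * s)⁻¹)
        = (s * t * ((t * s)⁻¹ * x * (t * s)) * (s * t)⁻¹) * (s * t * (t * s)⁻¹) := by rw [h1]
      _ = _ := by group
  intro s hs x hx
  have h1 : (⟨s, hs⟩ : S) ∈ (Subgroup.centralizer (X : Set Γ)).subgroupOf S := by
    apply hle
    rw [hperf]
    exact Subgroup.mem_top _
  rw [Subgroup.mem_subgroupOf, Subgroup.mem_centralizer_iff] at h1
  exact (h1 x hx).symm

/-- Perfectness is transported by isomorphisms. -/
theorem commutator_top_of_equiv {A B : Type*} [Group A] [Group B] (e : A ≃* B) (h : commutator B = ⊤) :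
    commutator A = ⊤ := by
  have h1 : (commutator A).map e.toMonoidHom = commutator B := by
    rw [commutator_def, commutator_def, Subgroup.map_commutator,
      Subgroup.map_top_of_surjective _ e.surjective]
  apply Subgroup.map_injective (f := e.toMonoidHom) e.injective
  rw [h1, h, Subgroup.map_top_of_surjective _ e.surjective]

/-- Strict monotonicity of the order. -/
theorem sz_order_lt {s s' : ℕ} (hs : 2 ≤ s) (hlt : s < s') :
    s ^ 2 * (s ^ 2 + 1) * (s - 1) < s' ^ 2 * (s' ^ 2 + 1) * (s' - 1) := by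
  have h1 : s ^ 2 ≤ s' ^ 2 := Nat.pow_le_pow_left hlt.le 2
  have h2 : s ^ 2 + 1 ≤ s' ^ 2 + 1 := by omega
  have h3 : s - 1 < s' - 1 := by omega
  have hs0 : 0 < s' ^ 2 := Nat.pow_pos (by omega)
  exact Nat.mul_lt_mul_of_le_of_lt (Nat.mul_le_mul h1 h2) h3 (Nat.mul_pos hs0 (by omega))

theorem sz_order_inj {a b : ℕ} (ha : 1 ≤ a) (hb : 1 ≤ b)
    (he : (2 ^ a) ^ 2 * ((2 ^ a) ^ 2 + 1) * (2 ^ a - 1) = (2 ^ b) ^ 2 * ((2 ^ b) ^ 2 + 1) * (2 ^ b - 1)) :
    a = b := by
  have h2a : 2 ≤ 2 ^ a := by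
    calc 2 = 2 ^ 1 := rfl
      _ ≤ 2 ^ a := Nat.pow_le_pow_right (by norm_num) ha
  have h2b : 2 ≤ 2 ^ b := by
    calc 2 = 2 ^ 1 := rfl
      _ ≤ 2 ^ b := Nat.pow_le_pow_right (by norm_num) hb
  rcases Nat.lt_trichotomy a b with hlt | heq | hlt
  · have := sz_order_lt h2a (Nat.pow_lt_pow_right (by norm_num) hlt)
    omega
  · exact heq
  · have := sz_order_lt h2b (Nat.pow_lt_pow_right (by norm_num) hlt)
    omega

end Cfsg.Agent.Lib.Suzuki.SubAbs
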