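import Cfsg.Agent.Lib.Suzuki.SubMain

/-! Subfield subgroups: the embedding of `Sz(K)` in `Sz(F)`. -/

set_option autoImplicit false
set_option linter.unusedSectionVars false
set_option linter.deprecated false
set_option linter.unusedSimpArgs false

namespace Cfsg.Agent.Lib.Suzuki.SubEmb

open Cfsg.Agent.Lib.Suzuki.Basic Cfsg.Agent.Lib.Suzuki.Group Cfsg.Agent.Lib.Suzuki.Struct
  Cfsg.Agent.Lib.Suzuki.Order Cfsg.Agent.Lib.Suzuki.Zass Cfsg.Agent.Lib.Suzuki.Sub
  Cfsg.Agent.Lib.Suzuki.Syl Cfsg.Agent.Lib.Suzuki.Gen Cfsg.Agent.Lib.Suzuki.Fix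
  Cfsg.Agent.Lib.Suzuki.Cent Cfsg.Agent.Lib.Suzuki.Types Cfsg.Agent.Lib.Suzuki.Tori1
  Cfsg.Agent.Lib.Suzuki.Tori2 Cfsg.Agent.Lib.Suzuki.Tori3 Cfsg.Agent.Lib.Suzuki.Part
  Cfsg.Agent.Lib.Suzuki.SubAbs Cfsg.Agent.Lib.Suzuki.SubG Cfsg.Agent.Lib.Suzuki.SubOdd
  Cfsg.Agent.Lib.Suzuki.SubMain
open scoped Pointwise BigOperators

variable {K F : Type*} [Field K] [Fintype K] [Field F] [Fintype F] {k m : ℕ}
  (hK : Hyp K k) (hF : Hyp F m) (hd : 2 * k + 1 ∣ 2 * m + 1) (ι : K →+* F)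

include hK hd in
/-- In `K`, the twist exponent for `m` agrees with that for `k`. -/
theorem pow_r_eq (x : K) : x ^ (2 ^ m) = x ^ (2 ^ k) := by
  obtain ⟨t, ht⟩ := hd
  have htodd : Odd t := by
    have h1 : Odd (2 * m + 1) := ⟨m, rfl⟩
    rw [ht] at h1
    exact (Nat.odd_mul.mp h1).2
  obtain ⟨u, rfl⟩ := htodd
  have hm : m = k + (2 * k + 1) * u := by
    have : 2 * m + 1 = (2 * k + 1) * (2 * u + 1) := ht
    nlinarith
  have h2 : x ^ ((2 ^ (2 * k + 1)) ^ u) = x := by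
    rw [← hK.hF]
    exact FiniteField.pow_card_pow u x
  rw [hm, pow_add, mul_comm (2 ^ k), pow_mul, pow_mul (2) (2 * k + 1) u, h2]

include hK hd in
theorem pow_s_eq (x : K) : x ^ (2 ^ (m + 1)) = x ^ (2 ^ (k + 1)) := by
  rw [pow_succ 2 m, pow_mul, pow_r_eq hK hd, ← pow_mul, ← pow_succ]

include hK hd in
theorem map_pow_s (x : K) : (ι x) ^ (2 ^ (m + 1)) = ι (x ^ (2 ^ (k + 1))) := by
  rw [← map_pow, pow_s_eq hK hd]

include hK hd in
theorem map_pow_r (x : K) : (ι x) ^ (2 ^ m) = ι (x ^ (2 ^ k)) := by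
  rw [← map_pow, pow_r_eq hK hd]

include hK hd in
theorem map_fz (a b : K) : ι (fz k a b) = fz m (ι a) (ι b) := by
  rw [fz_def, fz_def, map_add, map_add, map_mul, map_mul, map_pow ι a 2, map_pow_s hK hd, map_pow_s hK hd]

include hK hd in
theorem map_Lm (a b : K) : (Lm k a b).map ι = Lm m (ι a) (ι b) := by
  ext i j
  fin_cases i <;> fin_cases j <;>
    simp [Lm, map_fz hK hd, map_pow_s hK hd]

include hK hd in
theorem map_Dm (a : K) : (Dm k a).map ι = Dm m (ι a) := by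
  ext i j
  fin_cases i <;> fin_cases j <;>
    simp [Dm, map_pow_r hK hd]

theorem map_Tm : (Tm K).map ι = Tm F := by
  ext i j
  fin_cases i <;> fin_cases j <;> simp [Tm]

include hK hF hd in
theorem map_Lg (a b : K) : Matrix.SpecialLinearGroup.map ι (Lg hK a b).1 = (Lg hF (ι a) (ι b)).1 := by
  apply Subtype.ext
  exact map_Lm hK hd ι a b

include hK hF hd in
theorem map_Dg (u : Kˣ) : Matrix.SpecialLinearGroup.map ι (Dg hK u).1 = (Dg hF (Units.map ι.toMonoidHom u)).1 := by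
  apply Subtype.ext
  exact map_Dm hK hd ι u

include hK hF in
theorem map_Tg : Matrix.SpecialLinearGroup.map ι (Tg hK).1 = (Tg hF).1 := by
  apply Subtype.ext
  exact map_Tm ι

include hK hF hd in
theorem map_mem (g : G K k) : Matrix.SpecialLinearGroup.map ι g.1 ∈ Cfsg.Sz F m := by
  rcases bruhat hK g with ⟨a, b, u, rfl⟩ | ⟨a, b, c, d, u, rfl⟩
  · change Matrix.SpecialLinearGroup.map ι ((Lg hK a b).1 * (Dg hK u).1) ∈ _
    rw [map_mul, map_Lg hK hF hd, map_Dg hK hF hd]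
    exact (Lg hF _ _ * Dg hF _).2
  · change Matrix.SpecialLinearGroup.map ι ((Lg hK a b).1 * (Tg hK).1 * ((Lg hK c d).1 * (Dg hK u).1)) ∈ _
    rw [map_mul, map_mul, map_mul, map_Lg hK hF hd, map_Dg hK hF hd, map_Lg hK hF hd, map_Tg hK hF]
    exact (Lg hF _ _ * Tg hF * (Lg hF _ _ * Dg hF _)).2

/-- The embedding of `Sz(K)` in `Sz(F)`. -/
noncomputable def emb : G K k →* G F m where
  toFun g := ⟨Matrix.SpecialLinearGroup.map ι g.1, map_mem hK hF hd ι g⟩
  map_one' := by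
    apply Subtype.ext
    change Matrix.SpecialLinearGroup.map ι 1 = 1
    exact map_one _
  map_mul' x y := by
    apply Subtype.ext
    change Matrix.SpecialLinearGroup.map ι (x.1 * y.1) = _
    rw [map_mul]
    rfl

theorem emb_Lg (a b : K) : emb hK hF hd ι (Lg hK a b) = Lg hF (ι a) (ι b) :=
  Subtype.ext (map_Lg hK hF hd ι a b)

theorem emb_Dg (u : Kˣ) : emb hK hF hd ι (Dg hK u) = Dg hF (Units.map ι.toMonoidHom u) :=
  Subtype.ext (map_Dg hK hF hd ι u)

theorem emb_Tg : emb hK hF hd ι (Tg hK) = Tg hF :=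
  Subtype.ext (map_Tg hK hF ι)

theorem emb_inj : Function.Injective (emb hK hF hd ι) := by
  intro x y he
  have h1 : Matrix.SpecialLinearGroup.map ι x.1 = Matrix.SpecialLinearGroup.map ι y.1 := congrArg Subtype.val he
  apply Subtype.ext
  apply Matrix.SpecialLinearGroup.ext
  intro i j
  apply ι.injective
  have h2 := congrArg (fun g : Matrix.SpecialLinearGroup (Fin 4) F => (g : Matrix (Fin 4) (Fin 4) F) i j) h1
  simpa using h2

/-- The range is a subgroup isomorphic to `Sz(K)`. -/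
noncomputable def rangeEquiv : G K k ≃* (emb hK hF hd ι).range :=
  MonoidHom.ofInjective (emb_inj hK hF hd ι)

/-- The range of `emb`, given a subgroup containing the generators. -/
theorem range_le {M : Subgroup (G F m)} (hL : ∀ a b : K, Lg hF (ι a) (ι b) ∈ M)
    (hD : ∀ u : Kˣ, Dg hF (Units.map ι.toMonoidHom u) ∈ M) (hT : Tg hF ∈ M) :
    (emb hK hF hd ι).range ≤ M := by
  rintro _ ⟨g, rfl⟩
  rcases bruhat hK g with ⟨a, b, u, rfl⟩ | ⟨a, b, c, d, u, rfl⟩
  · rw [map_mul, emb_Lg, emb_Dg]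
    exact M.mul_mem (hL _ _) (hD _)
  · rw [map_mul, map_mul, map_mul, emb_Lg, emb_Dg, emb_Lg, emb_Tg]
    exact M.mul_mem (M.mul_mem (hL _ _) hT) (M.mul_mem (hL _ _) (hD _))

/-- The range of `emb` for a subgroup in normal form. -/
theorem range_eq {M : Subgroup (G F m)} (P : Pre hF M) (hι : ∀ x : F, x ∈ Kf hF P ↔ x ∈ Set.range ι) :
    (emb hK hF hd ι).range = M := by
  have hlift : ∀ x ∈ Kf hF P, ∃ a : K, ι a = x := fun x hx => (hι x).mp hx
  have hin : ∀ a : K, ι a ∈ Kf hF P := fun a => (hι _).mpr ⟨a, rfl⟩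
  have hliftu : ∀ u : Fˣ, (u : F) ∈ Kf hF P → ∃ u' : Kˣ, Units.map ι.toMonoidHom u' = u := by
    intro u hu
    obtain ⟨a, ha⟩ := hlift _ hu
    have ha0 : a ≠ 0 := by
      rintro rfl
      rw [map_zero] at ha
      exact u.ne_zero ha.symm
    refine ⟨Units.mk0 a ha0, Units.ext ?_⟩
    simpa using ha
  apply le_antisymm
  · apply range_le hK hF hd ι
    · intro a b
      exact L_mem hF P (hin a) (hin b)
    · intro u
      apply (D_mem_iff hF P).mpr
      simpa using hin (u : K)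
    · exact T_mem hF P
  · intro g hg
    rcases form_all hF P hg with ⟨a, ha, b, hb, u, hu, rfl⟩ | ⟨a, ha, b, hb, c, hc, d, hd', u, hu, rfl⟩
    · obtain ⟨a', rfl⟩ := hlift a ha
      obtain ⟨b', rfl⟩ := hlift b hb
      obtain ⟨u', rfl⟩ := hliftu u hu
      exact ⟨Lg hK a' b' * Dg hK u', by rw [map_mul, emb_Lg, emb_Dg]⟩
    · obtain ⟨a', rfl⟩ := hlift a ha
      obtain ⟨b', rfl⟩ := hlift b hb
      obtain ⟨c', rfl⟩ := hlift c hc
      obtain ⟨d', rfl⟩ := hlift d hd'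
      obtain ⟨u', rfl⟩ := hliftu u hu
      exact ⟨Lg hK a' b' * Tg hK * (Lg hK c' d' * Dg hK u'), by
        rw [map_mul, map_mul, map_mul, emb_Lg, emb_Dg, emb_Lg, emb_Tg]⟩

end Cfsg.Agent.Lib.Suzuki.SubEmb
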