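import Cfsg.Agent.Lib.Suzuki.Part
import Cfsg.Agent.Lib.Suzuki.SubAbs

/-! Subgroups of even order of the Suzuki group: the action on fixed points of involutions. -/

set_option autoImplicit false
set_option linter.unusedSectionVars false
set_option linter.deprecated false
set_option linter.unusedSimpArgs false

namespace Cfsg.Agent.Lib.Suzuki.SubG

open Cfsg.Agent.Lib.Suzuki.Basic Cfsg.Agent.Lib.Suzuki.Group Cfsg.Agent.Lib.Suzuki.Struct
  Cfsg.Agent.Lib.Suzuki.Order Cfsg.Agent.Lib.Suzuki.Zass Cfsg.Agent.Lib.Suzuki.Sub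
  Cfsg.Agent.Lib.Suzuki.Syl Cfsg.Agent.Lib.Suzuki.Gen Cfsg.Agent.Lib.Suzuki.Fix
  Cfsg.Agent.Lib.Suzuki.Cent Cfsg.Agent.Lib.Suzuki.Types Cfsg.Agent.Lib.Suzuki.Tori1
  Cfsg.Agent.Lib.Suzuki.Tori2 Cfsg.Agent.Lib.Suzuki.Tori3 Cfsg.Agent.Lib.Suzuki.Part
  Cfsg.Agent.Lib.Suzuki.SubAbs
open scoped Pointwise BigOperators

variable {F : Type*} [Field F] [Fintype F] {m : ℕ} (h : Hyp F m)
include h

theorem exists_mv (w : Om F m) : ∃ x : G F m, x • (oI : Om F m) = w := by
  have := isPretransitive h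
  exact MulAction.exists_smul_eq _ _ _

/-- A chosen element moving `∞` to `w`. -/
noncomputable def mv (w : Om F m) : G F m := Classical.choose (exists_mv h w)

theorem mv_spec (w : Om F m) : mv h w • (oI : Om F m) = w := Classical.choose_spec (exists_mv h w)

/-- The conjugate of `U` attached to a point. -/
noncomputable def Uw (w : Om F m) : Subgroup (G F m) := (Usub h).map (MulAut.conj (mv h w)).toMonoidHom

theorem map_conj_mul (H : Subgroup (G F m)) (x y : G F m) :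
    H.map (MulAut.conj (x * y)).toMonoidHom =
      (H.map (MulAut.conj y).toMonoidHom).map (MulAut.conj x).toMonoidHom := by
  rw [Subgroup.map_map]
  congr 1
  ext z
  simp [MulAut.conj_apply, mul_assoc]

theorem Uw_eq {w : Om F m} {x : G F m} (hx : x • (oI : Om F m) = w) :
    Uw h w = (Usub h).map (MulAut.conj x).toMonoidHom := by
  have hB : x⁻¹ * mv h w ∈ Bor F m := by
    rw [MulAction.mem_stabilizer_iff, mul_smul, mv_spec, inv_smul_eq_iff, hx]
  rw [← normalizer_U h, Subgroup.mem_normalizer_iff_map_conj_eq] at hB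
  have hB' : (Usub h).map (MulAut.conj (x⁻¹ * mv h w)).toMonoidHom = Usub h := hB
  have h1 : mv h w = x * (x⁻¹ * mv h w) := by group
  rw [Uw, h1, map_conj_mul h, hB']

/-- The `D`-part of a power in the Borel subgroup. -/
theorem LD_pow (a b : F) (k : Fˣ) (n : ℕ) :
    ∃ a' b' : F, (Lg h a b * Dg h k) ^ n = Lg h a' b' * Dg h (k ^ n) := by
  induction n with
  | zero =>
    refine ⟨0, 0, ?_⟩
    rw [pow_zero, pow_zero, Lg_zero h, Dg_one h, mul_one]
  | succ n ih =>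
    obtain ⟨a', b', he⟩ := ih
    have : Lg h a' b' * Dg h (k ^ n) * (Lg h a b * Dg h k) =
        Lg h a' b' * (Dg h (k ^ n) * Lg h a b) * Dg h k := by group
    rw [pow_succ, he, pow_succ, this, Dg_mul_Lg h, ← mul_assoc, Lg_mul h, mul_assoc, Dg_mul h]
    exact ⟨_, _, rfl⟩

theorem unit_eq_one_of_pow_four {k : Fˣ} (hk : k ^ 4 = 1) : k = 1 := by
  have h7 : orderOf k ∣ 4 := orderOf_dvd_of_pow_eq_one hk
  have h8 : orderOf k ∣ Nat.card Fˣ := orderOf_dvd_natCard k
  rw [card_units h, h.hF] at h8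
  have h9 : Nat.Coprime 4 (2 ^ (2 * m + 1) - 1) := by
    have h10 := (nums h.hm).codd
    have : (4 : ℕ) = 2 ^ 2 := rfl
    rw [this]
    exact Nat.Coprime.pow_left 2 (Nat.coprime_two_left.mpr h10)
  have h11 := Nat.eq_one_of_dvd_coprimes h9 h7 h8
  exact orderOf_eq_one_iff.mp h11

/-- Characterisation of the conjugates of `U`. -/
theorem mem_Uw {w : Om F m} {g : G F m} : g ∈ Uw h w ↔ g • w = w ∧ g ^ 4 = 1 := by
  have hx := mv_spec h w
  constructor
  · intro hg
    obtain ⟨y, ⟨a, b, rfl⟩, rfl⟩ := hg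
    constructor
    · change (mv h w * Lg h a b * (mv h w)⁻¹) • w = w
      rw [mul_smul, mul_smul, inv_smul_eq_iff.mpr hx.symm, Lg_oI h, hx]
    · exact conj_U_pow_four h ⟨a, b, rfl⟩
  · rintro ⟨h1, h2⟩
    set x := mv h w with hxd
    have h3 : (x⁻¹ * g * x) • (oI : Om F m) = oI := by
      rw [mul_smul, mul_smul, hx, h1, inv_smul_eq_iff, hx]
    obtain ⟨a, b, k, he⟩ := stab_oI h _ h3
    have h4 : (x⁻¹ * g * x) ^ 4 = 1 := by
      have e := conj_pow (a := x⁻¹) (b := g) (i := 4)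
      rw [inv_inv] at e
      rw [e, h2]
      group
    rw [he] at h4
    obtain ⟨a', b', he'⟩ := LD_pow h a b k 4
    rw [he'] at h4
    have h5 : Lg h a' b' * Dg h (k ^ 4) = Lg h 0 0 * Dg h 1 := by
      rw [h4, Lg_zero h, Dg_one h, mul_one]
    obtain ⟨-, -, h6⟩ := Lg_Dg_inj h h5
    have h7 := unit_eq_one_of_pow_four h h6
    subst h7
    rw [Dg_one h, mul_one] at he
    refine ⟨Lg h a b, ⟨a, b, rfl⟩, ?_⟩
    change x * Lg h a b * x⁻¹ = g
    rw [← he]
    group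

/-- Involutions in the conjugates of `U`. -/
theorem inv_form {z : G F m} {w : Om F m} {x : G F m} (hz : IsInv z) (hw : z • w = w)
    (hx : x • (oI : Om F m) = w) : ∃ b : F, b ≠ 0 ∧ z = x * Lg h 0 b * x⁻¹ := by
  have hzU : z ∈ Uw h w := by
    rw [mem_Uw h]
    exact ⟨hw, hz.pow_four⟩
  rw [Uw_eq h hx] at hzU
  obtain ⟨y, ⟨a, b, rfl⟩, hy⟩ := hzU
  have hy' : x * Lg h a b * x⁻¹ = z := hy
  have h1 : x * (Lg h a b * Lg h a b) * x⁻¹ = 1 := by
    have : x * (Lg h a b * Lg h a b) * x⁻¹ = (x * Lg h a b * x⁻¹) * (x * Lg h a b * x⁻¹) := by group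
    rw [this, hy', hz.2]
  have h2 : Lg h a b * Lg h a b = 1 := by
    have : Lg h a b * Lg h a b = x⁻¹ * (x * (Lg h a b * Lg h a b) * x⁻¹) * x := by group
    rw [this, h1]
    group
  rw [Lg_sq h, ← Lg_zero h] at h2
  have h3 := (Lg_inj h h2).2
  have h4 : a = 0 := by
    rcases mul_eq_zero.mp h3 with h5 | h5
    · exact pow_eq_zero_iff (by positivity) |>.mp h5
    · exact h5
  subst h4
  refine ⟨b, ?_, hy'.symm⟩
  rintro rfl
  apply hz.1
  rw [← hy', Lg_zero h]
  group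

/-- The centraliser of an involution. -/
theorem cent_inv {z : G F m} {w : Om F m} (hz : IsInv z) (hw : z • w = w) : cent z = Uw h w := by
  obtain ⟨b, hb, rfl⟩ := inv_form h hz hw (mv_spec h w)
  apply le_antisymm
  · exact cent_conj_Lg_le h (Or.inr hb)
  · rintro _ ⟨y, ⟨c, d, rfl⟩, rfl⟩
    rw [mem_cent]
    change mv h w * Lg h c d * (mv h w)⁻¹ * (mv h w * Lg h 0 b * (mv h w)⁻¹) =
      mv h w * Lg h 0 b * (mv h w)⁻¹ * (mv h w * Lg h c d * (mv h w)⁻¹)
    have e1 : mv h w * Lg h c d * (mv h w)⁻¹ * (mv h w * Lg h 0 b * (mv h w)⁻¹) =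
        mv h w * (Lg h c d * Lg h 0 b) * (mv h w)⁻¹ := by group
    have e2 : mv h w * Lg h 0 b * (mv h w)⁻¹ * (mv h w * Lg h c d * (mv h w)⁻¹) =
        mv h w * (Lg h 0 b * Lg h c d) * (mv h w)⁻¹ := by group
    rw [e1, e2, Lg_zero_comm h]

/-- Elements of the conjugate of `U` fix only one point. -/
theorem Uw_semi {w w' : Om F m} {v : G F m} (hv : v ∈ Uw h w) (hne : w ≠ w') (hv' : v • w' = w') : v = 1 := by
  rw [Uw] at hv
  obtain ⟨y, ⟨a, b, rfl⟩, rfl⟩ := hv
  by_contra hc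
  have hne0 : a ≠ 0 ∨ b ≠ 0 := by
    by_contra hd
    push Not at hd
    obtain ⟨rfl, rfl⟩ := hd
    apply hc
    rw [Lg_zero h]
    simp
  have hv'' : (mv h w * Lg h a b * (mv h w)⁻¹) • w' = w' := hv'
  have h1 : Lg h a b • ((mv h w)⁻¹ • w') = (mv h w)⁻¹ • w' := by
    calc Lg h a b • ((mv h w)⁻¹ • w') = (mv h w)⁻¹ • ((mv h w * Lg h a b * (mv h w)⁻¹) • w') := by
          simp only [mul_smul, inv_smul_smul]
      _ = _ := by rw [hv'']
  have h2 := Lg_fix_eq h hne0 h1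
  apply hne
  rw [inv_smul_eq_iff, mv_spec] at h2
  exact h2.symm

/-- Involutions have fixed points. -/
theorem inv_exists {z : G F m} (hz : IsInv z) : ∃ w : Om F m, z • w = w := by
  by_contra hc
  push Not at hc
  have hf : Fpf z := hc
  have : Fact (Nat.Prime 2) := ⟨Nat.prime_two⟩
  have h2 : z ^ 2 = 1 := by rw [pow_two, hz.2]
  have h3 := Fpf.prime_dvd h hf h2
  rw [h.hF] at h3
  exact (Nat.not_even_iff_odd.mpr (Arith.odd_sq_add_one m)) (even_iff_two_dvd.mpr h3)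

/-- Involutions have unique fixed points. -/
theorem inv_unique {z : G F m} {a b : Om F m} (hz : IsInv z) (ha : z • a = a) (hb : z • b = b) : a = b := by
  by_contra hne
  have hzU : z ∈ Uw h a := by
    rw [mem_Uw h]
    exact ⟨ha, hz.pow_four⟩
  exact hz.1 (Uw_semi h hzU hne hb)

/-- A 2-subgroup of `G` has a fixed point. -/
theorem two_sub_fix {P : Subgroup (G F m)} (hP : IsPGroup 2 P) : ∃ w : Om F m, ∀ g ∈ P, g • w = w := by
  have : Fact (Nat.Prime 2) := ⟨Nat.prime_two⟩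
  have : Finite (Om F m) := Nat.finite_of_card_ne_zero (by rw [card_Om]; omega)
  have hnd : ¬ 2 ∣ Nat.card (Om F m) := by
    rw [card_Om, h.hF]
    intro h3
    exact (Nat.not_even_iff_odd.mpr (Arith.odd_sq_add_one m)) (even_iff_two_dvd.mpr h3)
  obtain ⟨w, hw⟩ := hP.nonempty_fixed_point_of_prime_not_dvd_card (Om F m) hnd
  refine ⟨w, fun g hg => ?_⟩
  exact hw ⟨g, hg⟩

/-- The normaliser of `Uw` is the stabiliser of the point. -/
theorem normalizer_Uw (w : Om F m) :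
    Subgroup.normalizer ((Uw h w : Subgroup (G F m)) : Set (G F m)) = MulAction.stabilizer (G F m) w := by
  ext y
  rw [MulAction.mem_stabilizer_iff]
  constructor
  · intro hy
    rw [Subgroup.mem_normalizer_iff] at hy
    -- an involution of `Uw`
    obtain ⟨t, ht⟩ := Zass.exists_ne_zero_one h
    have h0 : Lg h 0 1 ≠ 1 := by
      intro hc
      rw [← Lg_zero h] at hc
      exact one_ne_zero (Lg_inj h hc).2
    set z : G F m := mv h w * Lg h 0 1 * (mv h w)⁻¹ with hz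
    have hzU : z ∈ Uw h w := ⟨Lg h 0 1, ⟨0, 1, rfl⟩, rfl⟩
    have hz1 : z ≠ 1 := by
      intro hc
      apply h0
      have : Lg h 0 1 = (mv h w)⁻¹ * z * mv h w := by rw [hz]; group
      rw [this, hc]
      group
    have h1 := (hy z).mp hzU
    have h2 : (y * z * y⁻¹) • (y • w) = y • w := by
      have h3 := ((mem_Uw h).mp hzU).1
      rw [mul_smul, mul_smul, inv_smul_smul, h3]
    by_contra hne
    have hc := Uw_semi h h1 (Ne.symm hne) h2
    apply hz1
    have : z = y⁻¹ * (y * z * y⁻¹) * y := by group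
    rw [this, hc]
    group
  · intro hy
    rw [Subgroup.mem_normalizer_iff]
    intro n
    rw [mem_Uw h, mem_Uw h]
    constructor
    · rintro ⟨h1, h2⟩
      refine ⟨?_, ?_⟩
      · have hyi : y⁻¹ • w = w := by rw [inv_smul_eq_iff, hy]
        rw [mul_smul, mul_smul, hyi, h1, hy]
      · rw [conj_pow, h2]
        group
    · rintro ⟨h1, h2⟩
      have hyi : y⁻¹ • w = w := by rw [inv_smul_eq_iff, hy]
      rw [mul_smul, mul_smul, hyi] at h1
      refine ⟨?_, ?_⟩
      · have : n • w = y⁻¹ • (y • n • w) := by rw [inv_smul_smul]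
        rw [this, h1, hyi]
      · rw [conj_pow] at h2
        have : n ^ 4 = y⁻¹ * (y * n ^ 4 * y⁻¹) * y := by group
        rw [this, h2]
        group

/-- The points of the ovoid fixed by some involution of `M`. -/
def Dl (_ : Hyp F m) (M : Subgroup (G F m)) : Type _ :=
  {w : Om F m // ∃ z ∈ M, IsInv z ∧ z • w = w}

omit h in
theorem isInv_conj {z : G F m} (hz : IsInv z) (y : G F m) : IsInv (y * z * y⁻¹) := by
  refine ⟨?_, ?_⟩
  · intro hc
    apply hz.1
    have : z = y⁻¹ * (y * z * y⁻¹) * y := by group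
    rw [this, hc]
    group
  · have : y * z * y⁻¹ * (y * z * y⁻¹) = y * (z * z) * y⁻¹ := by group
    rw [this, hz.2]
    group

omit h in
theorem conj_fix {z y : G F m} {w : Om F m} (hw : z • w = w) : (y * z * y⁻¹) • (y • w) = y • w := by
  rw [mul_smul, mul_smul, inv_smul_smul, hw]

instance instDl (M : Subgroup (G F m)) : MulAction M (Dl h M) where
  smul y w := ⟨y.1 • w.1, by
    obtain ⟨z, hzM, hz, hw⟩ := w.2
    exact ⟨y.1 * z * y.1⁻¹, M.mul_mem (M.mul_mem y.2 hzM) (M.inv_mem y.2), isInv_conj hz y.1, conj_fix hw⟩⟩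
  one_smul w := Subtype.ext (one_smul _ w.1)
  mul_smul x y w := Subtype.ext (mul_smul x.1 y.1 w.1)

theorem Dl_smul_coe (M : Subgroup (G F m)) (y : M) (w : Dl h M) : (y • w).1 = y.1 • w.1 := rfl

/-- The family of subgroups. -/
noncomputable def Tw (M : Subgroup (G F m)) (w : Dl h M) : Subgroup M := (Uw h w.1).subgroupOf M

theorem mem_Tw {M : Subgroup (G F m)} {w : Dl h M} {y : M} : y ∈ Tw h M w ↔ y.1 ∈ Uw h w.1 :=
  Subgroup.mem_subgroupOf

omit h in
theorem isInv_coe {M : Subgroup (G F m)} {z : M} : IsInv z ↔ IsInv z.1 := by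
  constructor
  · rintro ⟨h1, h2⟩
    exact ⟨fun hc => h1 (Subtype.ext hc), congrArg Subtype.val h2⟩
  · rintro ⟨h1, h2⟩
    exact ⟨fun hc => h1 (congrArg Subtype.val hc), Subtype.ext h2⟩

/-- The set-up for the abstract analysis. -/
theorem setup (M : Subgroup (G F m)) : Setup (Tw h M) where
  inv_exists := by
    intro z hz
    obtain ⟨w, hw⟩ := inv_exists h (isInv_coe.mp hz)
    exact ⟨⟨w, z.1, z.2, isInv_coe.mp hz, hw⟩, Subtype.ext hw⟩
  inv_unique := by
    intro z a b hz ha hb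
    apply Subtype.ext
    exact inv_unique h (isInv_coe.mp hz) (congrArg Subtype.val ha) (congrArg Subtype.val hb)
  cent := by
    intro z w hz hw
    ext y
    rw [Subgroup.mem_centralizer_singleton_iff, mem_Tw, ← cent_inv h (isInv_coe.mp hz) (congrArg Subtype.val hw),
      mem_cent]
    constructor
    · intro he
      exact congrArg Subtype.val he
    · intro he
      exact Subtype.ext he
  semi := by
    intro w w' v hv hne hv'
    rw [mem_Tw] at hv
    apply Subtype.ext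
    exact Uw_semi h hv (fun hc => hne (Subtype.ext hc)) (congrArg Subtype.val hv')
  two := by
    intro g hg a b c ha hb hc
    by_contra hcon
    push Not at hcon
    obtain ⟨h1, h2, h3⟩ := hcon
    apply hg
    apply Subtype.ext
    exact eq_one_of_fix_three h g.1 (fun he => h1 (Subtype.ext he)) (fun he => h3 (Subtype.ext he))
      (fun he => h2 (Subtype.ext he)) (congrArg Subtype.val ha) (congrArg Subtype.val hb)
      (congrArg Subtype.val hc)

/-- `M` acts transitively on the fixed points of its involutions. -/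
theorem Dl_trans (M : Subgroup (G F m)) (w w' : Dl h M) : ∃ y : M, y • w = w' := by
  have : Fact (Nat.Prime 2) := ⟨Nat.prime_two⟩
  have : Finite (G F m) := finite_G
  obtain ⟨z, hzM, hz, hzw⟩ := w.2
  obtain ⟨z', hzM', hz', hzw'⟩ := w'.2
  let zz : M := ⟨z, hzM⟩
  let zz' : M := ⟨z', hzM'⟩
  have key : ∀ (y : M), IsInv y → IsPGroup 2 (Subgroup.zpowers y) := by
    intro y hy
    apply IsPGroup.of_card (n := 1)
    rw [Nat.card_zpowers, pow_one]
    apply orderOf_eq_prime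
    · rw [pow_two, hy.2]
    · exact hy.1
  obtain ⟨S, hS⟩ := (key zz (isInv_coe.mpr hz)).exists_le_sylow
  obtain ⟨S', hS'⟩ := (key zz' (isInv_coe.mpr hz')).exists_le_sylow
  have hzS : zz ∈ (S : Subgroup M) := hS (Subgroup.mem_zpowers _)
  have hzS' : zz' ∈ (S' : Subgroup M) := hS' (Subgroup.mem_zpowers _)
  have hfix : ∀ (R : Sylow 2 M) (u : G F m) (a : Om F m) (hu : u ∈ M), IsInv u → u • a = a →
      (⟨u, hu⟩ : M) ∈ (R : Subgroup M) → ∀ y ∈ (R : Subgroup M), y.1 • a = a := by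
    intro R u a hu hinv hua huR
    have hP : IsPGroup 2 ((R : Subgroup M).map M.subtype) := by
      exact R.isPGroup'.map M.subtype
    obtain ⟨w₀, hw₀⟩ := two_sub_fix h hP
    have h1 : u • w₀ = w₀ := hw₀ u ⟨⟨u, hu⟩, huR, rfl⟩
    have h2 : w₀ = a := inv_unique h hinv h1 hua
    intro y hy
    rw [← h2]
    exact hw₀ y.1 ⟨y, hy, rfl⟩
  obtain ⟨y, hy⟩ := MulAction.exists_smul_eq M S S'
  refine ⟨y, Subtype.ext ?_⟩
  have hmem : y * zz * y⁻¹ ∈ (S' : Subgroup M) := by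
    rw [← hy, Sylow.coe_subgroup_smul]
    have : MulAut.conj y • zz ∈ MulAut.conj y • (S : Subgroup M) :=
      Subgroup.smul_mem_pointwise_smul _ _ _ hzS
    simpa [MulAut.smul_def, MulAut.conj_apply] using this
  have h3 := hfix S' z' w'.1 hzM' hz' hzw' hzS' _ hmem
  have h4 : (y.1 * z * y.1⁻¹) • w'.1 = w'.1 := h3
  have h5 : (y.1 * z * y.1⁻¹) • (y.1 • w.1) = y.1 • w.1 := conj_fix hzw
  exact inv_unique h (isInv_conj hz y.1) h5 h4

/-! ### The abstract results in terms of `G` -/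

theorem exists_swap_G {M : Subgroup (G F m)} {z z' : G F m} {w w' : Om F m} (hzM : z ∈ M) (hzM' : z' ∈ M)
    (hz : IsInv z) (hz' : IsInv z') (hw : z • w = w) (hw' : z' • w' = w') (hne : w ≠ w') :
    ∃ j ∈ M, IsInv j ∧ j * z * j⁻¹ = z' := by
  have : Finite (G F m) := finite_G
  have S := setup h M
  let W : Dl h M := ⟨w, z, hzM, hz, hw⟩
  let W' : Dl h M := ⟨w', z', hzM', hz', hw'⟩
  obtain ⟨j, hj, hc⟩ := exists_swap S (z := ⟨z, hzM⟩) (z' := ⟨z', hzM'⟩) (w := W) (w' := W') (isInv_coe.mpr hz) (isInv_coe.mpr hz')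
    (Subtype.ext hw) (Subtype.ext hw') (fun he => hne (congrArg Subtype.val he))
  exact ⟨j.1, j.2, isInv_coe.mp hj, congrArg Subtype.val hc⟩

theorem swap_points_G {j z z' : G F m} {w w' : Om F m} (hj : IsInv j) (hc : j * z * j⁻¹ = z')
    (hz' : IsInv z') (hw : z • w = w) (hw' : z' • w' = w') : j • w = w' ∧ j • w' = w := by
  have h2 : j • w = w' := by
    have h1 : z' • (j • w) = j • w := by
      rw [← hc]
      exact conj_fix hw
    exact inv_unique h hz' h1 hw'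
  refine ⟨h2, ?_⟩
  rw [← h2, ← mul_smul, hj.2, one_smul]

theorem trans_two_G {M : Subgroup (G F m)} {z z₁ z' : G F m} {w w' : Om F m} (hzM : z ∈ M) (hzM₁ : z₁ ∈ M)
    (hzM' : z' ∈ M) (hz : IsInv z) (hz₁ : IsInv z₁) (hz' : IsInv z') (hw : z • w = w) (hw₁ : z₁ • w = w)
    (hw' : z' • w' = w') (hne : w ≠ w') :
    ∃ g ∈ M, g • w = w ∧ g • w' = w' ∧ g * z * g⁻¹ = z₁ := by
  have : Finite (G F m) := finite_G
  have S := setup h M
  let W : Dl h M := ⟨w, z, hzM, hz, hw⟩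
  let W' : Dl h M := ⟨w', z', hzM', hz', hw'⟩
  obtain ⟨g, hg, hc⟩ := trans_two S (z := ⟨z, hzM⟩) (z₁ := ⟨z₁, hzM₁⟩) (z' := ⟨z', hzM'⟩) (w := W) (w' := W')
    (isInv_coe.mpr hz) (isInv_coe.mpr hz₁) (isInv_coe.mpr hz') (Subtype.ext hw) (Subtype.ext hw₁) (Subtype.ext hw')
    (fun he => hne (congrArg Subtype.val he))
  obtain ⟨h1, h2⟩ := mem_Stab2.mp hg
  exact ⟨g.1, g.2, congrArg Subtype.val h1, congrArg Subtype.val h2, congrArg Subtype.val hc⟩

theorem decomp_G {M : Subgroup (G F m)} {z z' g : G F m} {w w' : Om F m} (hzM : z ∈ M)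
    (hzM' : z' ∈ M) (hz : IsInv z) (hz' : IsInv z') (hw : z • w = w)
    (hw' : z' • w' = w') (hne : w ≠ w') (hgM : g ∈ M) (hg : g • w = w) :
    ∃ v ∈ M, v ∈ Uw h w ∧ ∃ y ∈ M, y • w = w ∧ y • w' = w' ∧ g = v * y := by
  have : Finite (G F m) := finite_G
  have S := setup h M
  let W : Dl h M := ⟨w, z, hzM, hz, hw⟩
  let W' : Dl h M := ⟨w', z', hzM', hz', hw'⟩
  obtain ⟨v, hv, y, hy, he⟩ := decomp S (z := ⟨z, hzM⟩) (z' := ⟨z', hzM'⟩) (w := W) (w' := W') (m := ⟨g, hgM⟩)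
    (isInv_coe.mpr hz) (isInv_coe.mpr hz') (Subtype.ext hw) (Subtype.ext hw')
    (fun he => hne (congrArg Subtype.val he)) (Subtype.ext hg)
  obtain ⟨h1, h2⟩ := mem_Stab2.mp hy
  have hv' := (mem_Tw h).mp hv
  exact ⟨v.1, v.2, hv', y.1, y.2, congrArg Subtype.val h1, congrArg Subtype.val h2,
    congrArg Subtype.val he⟩

theorem T_trans_G {M : Subgroup (G F m)} {z z₁ z' z'' : G F m} {w w' w'' : Om F m} (hzM : z ∈ M)
    (hzM₁ : z₁ ∈ M) (hzM' : z' ∈ M) (hzM'' : z'' ∈ M) (hz : IsInv z) (hz₁ : IsInv z₁) (hzne : z ≠ z₁)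
    (hz' : IsInv z') (hz'' : IsInv z'') (hw : z • w = w) (hw₁ : z₁ • w = w) (hw' : z' • w' = w')
    (hw'' : z'' • w'' = w'') (hne : w ≠ w') (hne' : w ≠ w'') :
    ∃ v ∈ M, v ∈ Uw h w ∧ v • w'' = w' := by
  have : Finite (G F m) := finite_G
  have S := setup h M
  let W : Dl h M := ⟨w, z, hzM, hz, hw⟩
  let W' : Dl h M := ⟨w', z', hzM', hz', hw'⟩
  let W'' : Dl h M := ⟨w'', z'', hzM'', hz'', hw''⟩
  obtain ⟨v, hv, he⟩ := T_trans S (z := ⟨z, hzM⟩) (z₁ := ⟨z₁, hzM₁⟩) (z' := ⟨z', hzM'⟩) (z'' := ⟨z'', hzM''⟩)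
    (w := W) (w' := W') (w'' := W'')
    (isInv_coe.mpr hz) (isInv_coe.mpr hz₁) (fun he => hzne (congrArg Subtype.val he)) (isInv_coe.mpr hz')
    (isInv_coe.mpr hz'') (Subtype.ext hw) (Subtype.ext hw₁) (Subtype.ext hw') (Subtype.ext hw'')
    (fun he => hne (congrArg Subtype.val he)) (fun he => hne' (congrArg Subtype.val he))
  have hv' := (mem_Tw h).mp hv
  exact ⟨v.1, v.2, hv', congrArg Subtype.val he⟩

/-- `Uw` at infinity is `U`. -/
theorem Uw_oI : Uw h (oI : Om F m) = Usub h := by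
  rw [Uw_eq h (x := 1) (one_smul _ _)]
  ext y
  simp [MulAut.conj_apply]

end Cfsg.Agent.Lib.Suzuki.SubG
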