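import Cfsg.Agent.Lib.Suzuki.SubOdd

/-! Coordinates: a subgroup of the Suzuki group of even order without fixed points and with more than one
involution through a point is a subfield subgroup. -/

set_option autoImplicit false
set_option linter.unusedSectionVars false
set_option linter.deprecated false
set_option linter.unusedSimpArgs false

namespace Cfsg.Agent.Lib.Suzuki.SubMain

open Cfsg.Agent.Lib.Suzuki.Basic Cfsg.Agent.Lib.Suzuki.Group Cfsg.Agent.Lib.Suzuki.Struct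
  Cfsg.Agent.Lib.Suzuki.Order Cfsg.Agent.Lib.Suzuki.Zass Cfsg.Agent.Lib.Suzuki.Sub
  Cfsg.Agent.Lib.Suzuki.Syl Cfsg.Agent.Lib.Suzuki.Gen Cfsg.Agent.Lib.Suzuki.Fix
  Cfsg.Agent.Lib.Suzuki.Cent Cfsg.Agent.Lib.Suzuki.Types Cfsg.Agent.Lib.Suzuki.Tori1
  Cfsg.Agent.Lib.Suzuki.Tori2 Cfsg.Agent.Lib.Suzuki.Tori3 Cfsg.Agent.Lib.Suzuki.Part
  Cfsg.Agent.Lib.Suzuki.SubAbs Cfsg.Agent.Lib.Suzuki.SubG Cfsg.Agent.Lib.Suzuki.SubOdd
open scoped Pointwise BigOperators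

variable {F : Type*} [Field F] [Fintype F] {m : ℕ} (h : Hyp F m)
include h

/-- Involutions of `U`. -/
theorem isInv_Lg_zero {b : F} (hb : b ≠ 0) : IsInv (Lg h 0 b) := by
  have := isInv_conj_zero h (x := 1) hb
  simpa using this

/-- `L(0,b)` fixes `∞`. -/
theorem Lg_zero_oI (b : F) : Lg h 0 b • (oI : Om F m) = oI := Lg_oI h 0 b

/-- The standing assumptions for the coordinate analysis. -/
structure Pre (h : Hyp F m) (M : Subgroup (G F m)) : Prop where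
  one_mem : Lg h 0 1 ∈ M
  two_mem : ∃ b : F, b ≠ 0 ∧ b ≠ 1 ∧ Lg h 0 b ∈ M
  zero_mem : ∃ z ∈ M, IsInv z ∧ z • (oA 0 0 : Om F m) = oA 0 0

theorem oI_ne_zero : (oI : Om F m) ≠ oA 0 0 := (oA_ne_oI 0 0).symm

theorem Lg_zero_zero_oA (a b : F) : Lg h a b • (oA 0 0 : Om F m) = oA a b := by
  rw [Lg_oA h]
  simp

variable {M : Subgroup (G F m)} (P : Pre h M)
include P

/-- Elements of `M` fixing `∞` and `0` are in `D`. -/
theorem exists_D {y : G F m} (h1 : y • (oI : Om F m) = oI) (h2 : y • (oA 0 0 : Om F m) = oA 0 0) :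
    ∃ k : Fˣ, y = Dg h k := eq_Dg_of_fix h y h1 h2

/-- Transitivity of the torus on involutions fixing `∞`. -/
theorem D_trans {b₁ b₂ : F} (hb₁ : b₁ ≠ 0) (hb₂ : b₂ ≠ 0) (hm₁ : Lg h 0 b₁ ∈ M) (hm₂ : Lg h 0 b₂ ∈ M) :
    ∃ k : Fˣ, Dg h k ∈ M ∧ (k : F) ^ (2 ^ (m + 1)) * k * b₁ = b₂ := by
  obtain ⟨z, hzM, hz, hzw⟩ := P.zero_mem
  obtain ⟨g, hgM, hg1, hg2, hc⟩ := trans_two_G h hm₁ hm₂ hzM (isInv_Lg_zero h hb₁) (isInv_Lg_zero h hb₂) hz
    (Lg_oI h 0 b₁) (Lg_oI h 0 b₂) hzw (oI_ne_zero h)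
  obtain ⟨k, rfl⟩ := exists_D h P hg1 hg2
  refine ⟨k, hgM, ?_⟩
  rw [Dg_conj_Lg h, mul_zero] at hc
  exact (Lg_inj h hc).2

/-- The subfield. -/
def Kf : Subfield F where
  carrier := {b | Lg h 0 b ∈ M}
  mul_mem' := by
    intro a b ha hb
    by_cases ha0 : a = 0
    · subst ha0
      simp only [zero_mul, Set.mem_setOf_eq, Lg_zero h]
      exact M.one_mem
    by_cases hb0 : b = 0
    · subst hb0
      simp only [mul_zero, Set.mem_setOf_eq, Lg_zero h]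
      exact M.one_mem
    obtain ⟨k, hkM, hk⟩ := D_trans h P one_ne_zero ha0 P.one_mem ha
    have h1 := M.mul_mem (M.mul_mem hkM hb) (M.inv_mem hkM)
    rw [Dg_conj_Lg h, mul_zero] at h1
    have h2 : (k : F) ^ (2 ^ (m + 1)) * k * b = a * b := by
      rw [← hk]
      ring
    rw [h2] at h1
    exact h1
  one_mem' := P.one_mem
  add_mem' := by
    intro a b ha hb
    have h1 := M.mul_mem ha hb
    rw [Lg_mul h, zero_pow_sg h, zero_mul, add_zero, add_zero] at h1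
    exact h1
  zero_mem' := by
    change Lg h 0 0 ∈ M
    rw [Lg_zero h]
    exact M.one_mem
  neg_mem' := by
    intro a ha
    change Lg h 0 (-a) ∈ M
    rw [h.neg_eq]
    exact ha
  inv_mem' := by
    intro a ha
    by_cases ha0 : a = 0
    · subst ha0
      change Lg h 0 (0⁻¹) ∈ M
      rw [inv_zero, Lg_zero h]
      exact M.one_mem
    obtain ⟨k, hkM, hk⟩ := D_trans h P ha0 one_ne_zero ha P.one_mem
    have h1 := M.mul_mem (M.mul_mem hkM P.one_mem) (M.inv_mem hkM)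
    rw [Dg_conj_Lg h, mul_zero, mul_one] at h1
    have h2 : (k : F) ^ (2 ^ (m + 1)) * k = a⁻¹ := eq_inv_of_mul_eq_one_left hk
    rw [h2] at h1
    exact h1

theorem mem_Kf {b : F} : b ∈ Kf h P ↔ Lg h 0 b ∈ M := Iff.rfl

/-- The power map on `K` is surjective. -/
theorem Kf_pow {x : F} (hx : x ^ (2 ^ (m + 1)) * x ∈ Kf h P) : x ∈ Kf h P := by
  let f : Kf h P → Kf h P := fun y => ⟨y.1 ^ (2 ^ (m + 1)) * y.1, (Kf h P).mul_mem ((Kf h P).pow_mem y.2 _) y.2⟩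
  have hinj : Function.Injective f := by
    intro y y' he
    have he' : y.1 ^ (2 ^ (m + 1)) * y.1 = y'.1 ^ (2 ^ (m + 1)) * y'.1 := congrArg Subtype.val he
    exact Subtype.ext (pow_sg_mul_self_inj h he')
  obtain ⟨y, hy⟩ := (Finite.injective_iff_surjective.mp hinj) ⟨_, hx⟩
  have hy' : y.1 ^ (2 ^ (m + 1)) * y.1 = x ^ (2 ^ (m + 1)) * x := congrArg Subtype.val hy
  rw [← pow_sg_mul_self_inj h hy']
  exact y.2

/-- `D(k) ∈ M` iff `k ∈ K`. -/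
theorem D_mem_iff {k : Fˣ} : Dg h k ∈ M ↔ (k : F) ∈ Kf h P := by
  constructor
  · intro hk
    apply Kf_pow h P
    have h1 := M.mul_mem (M.mul_mem hk P.one_mem) (M.inv_mem hk)
    rw [Dg_conj_Lg h, mul_zero, mul_one] at h1
    exact h1
  · intro hk
    have h1 : (k : F) ^ (2 ^ (m + 1)) * k ∈ Kf h P := (Kf h P).mul_mem ((Kf h P).pow_mem hk _) hk
    have h0 : (k : F) ^ (2 ^ (m + 1)) * k ≠ 0 := mul_ne_zero (pow_ne_zero _ k.ne_zero) k.ne_zero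
    obtain ⟨k', hk'M, hk'⟩ := D_trans h P one_ne_zero h0 P.one_mem h1
    rw [mul_one] at hk'
    have h2 : (k' : F) = k := pow_sg_mul_self_inj h hk'
    have h3 : k' = k := Units.ext h2
    rwa [← h3]

/-- Elements of `M ⊓ U`. -/
theorem L_sq_mem {a b : F} (hL : Lg h a b ∈ M) : a ∈ Kf h P := by
  apply Kf_pow h P
  have h1 := M.mul_mem hL hL
  rw [Lg_sq h] at h1
  exact h1

/-- The swap. -/
theorem exists_swap_D : ∃ k : Fˣ, Dg h k * Tg h ∈ M := by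
  obtain ⟨z, hzM, hz, hzw⟩ := P.zero_mem
  obtain ⟨j, hjM, hj, hc⟩ := exists_swap_G h P.one_mem hzM (isInv_Lg_zero h one_ne_zero) hz (Lg_oI h 0 1) hzw (oI_ne_zero h)
  obtain ⟨h1, h2⟩ := swap_points_G h hj hc hz (Lg_oI h 0 1) hzw
  have h3 : (j * (Tg h)⁻¹) • (oI : Om F m) = oI := by
    rw [Tg_inv h, mul_smul, Tg_oI h, h2]
  have h4 : (j * (Tg h)⁻¹) • (oA 0 0 : Om F m) = oA 0 0 := by
    rw [Tg_inv h, mul_smul, Tg_oA_zero h, h1]
  obtain ⟨k, hk⟩ := eq_Dg_of_fix h _ h3 h4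
  refine ⟨k, ?_⟩
  have h5 : j = Dg h k * Tg h := by
    rw [← hk]
    group
  rw [← h5]
  exact hjM

/-- Points fixed by an involution of `M` other than `∞` are of the form `oA a b` with `L(a,b) ∈ M`. -/
theorem exists_L_of_point {w : Om F m} {z : G F m} (hzM : z ∈ M) (hz : IsInv z) (hw : z • w = w)
    (hne : w ≠ oI) : ∃ a b : F, Lg h a b ∈ M ∧ w = oA a b := by
  obtain ⟨z₀, hzM₀, hz₀, hzw₀⟩ := P.zero_mem
  obtain ⟨b, hb, hb1, hbM⟩ := P.two_mem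
  have hne1 : Lg h 0 1 ≠ Lg h 0 b := by
    intro hc
    exact hb1 (Lg_inj h hc).2.symm
  obtain ⟨v, hvM, hvU, hvw⟩ := T_trans_G h P.one_mem hbM hzM hzM₀ (isInv_Lg_zero h one_ne_zero) (isInv_Lg_zero h hb)
    hne1 hz hz₀ (Lg_oI h 0 1) (Lg_oI h 0 b) hw hzw₀ hne.symm (oI_ne_zero h)
  rw [Uw_oI h] at hvU
  obtain ⟨a, b', rfl⟩ := hvU
  exact ⟨a, b', hvM, by rw [← hvw, Lg_zero_zero_oA h]⟩

/-- Points in the orbit of `0`. -/
theorem exists_L_of_smul_zero {y : G F m} (hy : y ∈ M) (hne : y • (oA 0 0 : Om F m) ≠ oI) :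
    ∃ a b : F, Lg h a b ∈ M ∧ y • (oA 0 0 : Om F m) = oA a b := by
  obtain ⟨z₀, hzM₀, hz₀, hzw₀⟩ := P.zero_mem
  exact exists_L_of_point h P (M.mul_mem (M.mul_mem hy hzM₀) (M.inv_mem hy)) (isInv_conj hz₀ y)
    (conj_fix hzw₀) hne

/-- Points in the orbit of `∞`. -/
theorem exists_L_of_smul_oI {y : G F m} (hy : y ∈ M) (hne : y • (oI : Om F m) ≠ oI) :
    ∃ a b : F, Lg h a b ∈ M ∧ y • (oI : Om F m) = oA a b := by
  exact exists_L_of_point h P (M.mul_mem (M.mul_mem hy P.one_mem) (M.inv_mem hy))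
    (isInv_conj (isInv_Lg_zero h one_ne_zero) y) (conj_fix (Lg_oI h 0 1)) hne

/-- `T` in `M`, and a nontrivial element `L(k,0)`. -/
theorem exists_Lk : ∃ k : Fˣ, Dg h k * Tg h ∈ M ∧ Lg h k 0 ∈ M := by
  obtain ⟨k, hk⟩ := exists_swap_D h P
  refine ⟨k, hk, ?_⟩
  have hyM := M.mul_mem hk P.one_mem
  have hf : fz m (0 : F) 1 = 1 := by simp [fz]
  have he : (Dg h k * Tg h * Lg h 0 1) • (oA 0 0 : Om F m) = oA (k : F) 0 := by
    rw [mul_smul, mul_smul, Lg_zero_zero_oA h, Tg_oA h 0 1 (by rw [hf]; exact one_ne_zero), hf, Dg_oA h]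
    simp
  obtain ⟨a, b, hL, hab⟩ := exists_L_of_smul_zero h P hyM (by rw [he]; exact oA_ne_oI _ _)
  rw [he] at hab
  obtain ⟨rfl, rfl⟩ := oA_inj hab
  exact hL

theorem T_mem : Tg h ∈ M := by
  obtain ⟨k, hk, hL⟩ := exists_Lk h P
  have h1 : Dg h k ∈ M := (D_mem_iff h P).mpr (L_sq_mem h P hL)
  have h2 := M.mul_mem (M.inv_mem h1) hk
  rwa [inv_mul_cancel_left] at h2

theorem L_mem {a b : F} (ha : a ∈ Kf h P) (hb : b ∈ Kf h P) : Lg h a b ∈ M := by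
  have h0 : Lg h a 0 ∈ M := by
    by_cases ha0 : a = 0
    · subst ha0
      rw [Lg_zero h]
      exact M.one_mem
    obtain ⟨k, -, hL⟩ := exists_Lk h P
    have hk : (k : F) ∈ Kf h P := L_sq_mem h P hL
    let u : Fˣ := Units.mk0 a ha0 * k⁻¹
    have hu : (u : F) = a * (k : F)⁻¹ := by simp [u]
    have huK : (u : F) ∈ Kf h P := by
      rw [hu]
      exact (Kf h P).mul_mem ha ((Kf h P).inv_mem hk)
    have huM := (D_mem_iff h P).mpr huK
    have h1 := M.mul_mem (M.mul_mem huM hL) (M.inv_mem huM)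
    rw [Dg_conj_Lg h, mul_zero] at h1
    have h2 : (u : F) * k = a := by
      rw [hu, mul_assoc, inv_mul_cancel₀ k.ne_zero, mul_one]
    rwa [h2] at h1
  have h3 := M.mul_mem h0 ((mem_Kf h P).mp hb)
  rw [Lg_mul h, add_zero, mul_zero, add_zero, zero_add] at h3
  exact h3

theorem L_mem_iff {a b : F} : Lg h a b ∈ M ↔ a ∈ Kf h P ∧ b ∈ Kf h P := by
  constructor
  · intro hL
    have ha := L_sq_mem h P hL
    refine ⟨ha, ?_⟩
    have h0 : Lg h a 0 ∈ M := L_mem h P ha (Kf h P).zero_mem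
    have h1 := M.mul_mem (M.inv_mem h0) hL
    rw [Lg_inv h, Lg_mul h, h.add_self, zero_add] at h1
    have h2 : a ^ 2 ^ (m + 1) * a + b + a ^ 2 ^ (m + 1) * a = b := by
      have := h.add_self (a ^ 2 ^ (m + 1) * a)
      grind
    rw [h2] at h1
    exact h1
  · rintro ⟨ha, hb⟩
    exact L_mem h P ha hb

/-- Elements of `M` fixing `∞`. -/
theorem form_stab {g : G F m} (hg : g ∈ M) (hfix : g • (oI : Om F m) = oI) :
    ∃ a ∈ Kf h P, ∃ b ∈ Kf h P, ∃ u : Fˣ, (u : F) ∈ Kf h P ∧ g = Lg h a b * Dg h u := by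
  obtain ⟨z₀, hzM₀, hz₀, hzw₀⟩ := P.zero_mem
  obtain ⟨v, hvM, hvU, y, hyM, hy1, hy2, he⟩ := decomp_G h P.one_mem hzM₀ (isInv_Lg_zero h one_ne_zero) hz₀
    (Lg_oI h 0 1) hzw₀ (oI_ne_zero h) hg hfix
  rw [Uw_oI h] at hvU
  obtain ⟨a, b, rfl⟩ := hvU
  obtain ⟨u, rfl⟩ := exists_D h P hy1 hy2
  obtain ⟨ha, hb⟩ := (L_mem_iff h P).mp hvM
  exact ⟨a, ha, b, hb, u, (D_mem_iff h P).mp hyM, he⟩

/-- The Bruhat form of elements of `M`. -/
theorem form_all {g : G F m} (hg : g ∈ M) :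
    (∃ a ∈ Kf h P, ∃ b ∈ Kf h P, ∃ u : Fˣ, (u : F) ∈ Kf h P ∧ g = Lg h a b * Dg h u) ∨
    (∃ a ∈ Kf h P, ∃ b ∈ Kf h P, ∃ c ∈ Kf h P, ∃ d ∈ Kf h P, ∃ u : Fˣ, (u : F) ∈ Kf h P ∧
      g = Lg h a b * Tg h * (Lg h c d * Dg h u)) := by
  by_cases hfix : g • (oI : Om F m) = oI
  · exact Or.inl (form_stab h P hg hfix)
  · right
    obtain ⟨a, b, hL, hab⟩ := exists_L_of_smul_oI h P hg hfix
    obtain ⟨ha, hb⟩ := (L_mem_iff h P).mp hL
    have hg' : Tg h * (Lg h a b)⁻¹ * g ∈ M :=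
      M.mul_mem (M.mul_mem (T_mem h P) (M.inv_mem hL)) hg
    have hfix' : (Tg h * (Lg h a b)⁻¹ * g) • (oI : Om F m) = oI := by
      rw [mul_smul, mul_smul, hab, inv_smul_eq_iff.mpr (Lg_zero_zero_oA h a b).symm, Tg_oA_zero h]
    obtain ⟨c, hc, d, hd, u, hu, he⟩ := form_stab h P hg' hfix'
    refine ⟨a, ha, b, hb, c, hc, d, hd, u, hu, ?_⟩
    rw [← he]
    have h1 : Tg h * (Tg h * (Lg h a b)⁻¹ * g) = (Lg h a b)⁻¹ * g := by
      rw [← mul_assoc, ← mul_assoc, Tg_sq h, one_mul]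
    rw [mul_assoc, h1]
    group

theorem card_Kf : 3 ≤ Nat.card (Kf h P) := by
  classical
  obtain ⟨b, hb, hb1, hbM⟩ := P.two_mem
  have h1 : ({0, 1, b} : Finset F).card = 3 := by
    rw [Finset.card_insert_of_notMem, Finset.card_insert_of_notMem, Finset.card_singleton]
    · simpa using hb1.symm
    · simp only [Finset.mem_insert, Finset.mem_singleton, not_or]
      exact ⟨zero_ne_one, hb.symm⟩
  have h2 : ({0, 1, b} : Finset F) ⊆ ((Kf h P : Subfield F) : Set F).toFinset := by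
    intro x hx
    simp only [Finset.mem_insert, Finset.mem_singleton] at hx
    simp only [Set.mem_toFinset, SetLike.mem_coe]
    rcases hx with rfl | rfl | rfl
    · exact (Kf h P).zero_mem
    · exact (Kf h P).one_mem
    · exact hbM
  have h3 := Finset.card_le_card h2
  rw [h1, Set.toFinset_card] at h3
  rw [Nat.card_eq_fintype_card]
  convert h3
  exact SetLike.mem_coe.symm

omit P

/-- Conjugating into standard position. -/
theorem exists_pre {M : Subgroup (G F m)} {w w' : Om F m} {z₁ z₂ z' : G F m} (hm₁ : z₁ ∈ M) (hm₂ : z₂ ∈ M) (hm' : z' ∈ M)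
    (hz₁ : IsInv z₁) (hz₂ : IsInv z₂) (hz' : IsInv z') (hne12 : z₁ ≠ z₂) (hw₁ : z₁ • w = w) (hw₂ : z₂ • w = w)
    (hw' : z' • w' = w') (hne : w ≠ w') : ∃ x : G F m, Pre h (M.map (MulAut.conj x).toMonoidHom) := by
  obtain ⟨y, hy1, hy2⟩ := exists_move_std h hne
  have key : ∀ z : G F m, IsInv z → z • w = w → ∃ b : F, b ≠ 0 ∧ y * z * y⁻¹ = Lg h 0 b := by
    intro z hz hzw
    have h1 : (y * z * y⁻¹) • (oI : Om F m) = oI := by
      have := conj_fix (y := y) hzw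
      rwa [hy1] at this
    obtain ⟨b, hb, he⟩ := inv_form h (isInv_conj hz y) h1 (x := 1) (one_smul _ _)
    refine ⟨b, hb, ?_⟩
    rw [he]
    group
  obtain ⟨b₁, hb₁, he₁⟩ := key z₁ hz₁ hw₁
  obtain ⟨b₂, hb₂, he₂⟩ := key z₂ hz₂ hw₂
  have hb12 : b₁ ≠ b₂ := by
    rintro rfl
    apply hne12
    have : y * z₁ * y⁻¹ = y * z₂ * y⁻¹ := by rw [he₁, he₂]
    exact mul_left_cancel (mul_right_cancel this)
  obtain ⟨k₀, hk₀⟩ := (pow_sg_mul_self_bij h).2 (b₁⁻¹)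
  have hk₀' : k₀ ^ (2 ^ (m + 1)) * k₀ = b₁⁻¹ := hk₀
  have hk₀ne : k₀ ≠ 0 := by
    rintro rfl
    rw [zero_pow_sg h, zero_mul] at hk₀'
    exact inv_ne_zero hb₁ hk₀'.symm
  let k : Fˣ := Units.mk0 k₀ hk₀ne
  have hkc : ((k : F)) = k₀ := rfl
  have hX : ∀ z : G F m, (Dg h k * y) * z * (Dg h k * y)⁻¹ = Dg h k * (y * z * y⁻¹) * (Dg h k)⁻¹ := by
    intro z
    group
  refine ⟨Dg h k * y, ⟨?_, ?_, ?_⟩⟩
  · have h1 : Lg h 0 1 = (Dg h k * y) * z₁ * (Dg h k * y)⁻¹ := by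
      rw [hX, he₁, Dg_conj_Lg h, mul_zero, hkc, hk₀', inv_mul_cancel₀ hb₁]
    rw [h1]
    exact conj_mem_map h hm₁
  · refine ⟨b₁⁻¹ * b₂, mul_ne_zero (inv_ne_zero hb₁) hb₂, ?_, ?_⟩
    · intro hc
      apply hb12
      have := mul_left_cancel₀ (inv_ne_zero hb₁) (hc.trans (inv_mul_cancel₀ hb₁).symm)
      exact this.symm
    · have h1 : Lg h 0 (b₁⁻¹ * b₂) = (Dg h k * y) * z₂ * (Dg h k * y)⁻¹ := by
        rw [hX, he₂, Dg_conj_Lg h, mul_zero, hkc, hk₀']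
      rw [h1]
      exact conj_mem_map h hm₂
  · refine ⟨(Dg h k * y) * z' * (Dg h k * y)⁻¹, conj_mem_map h hm', isInv_conj hz' _, ?_⟩
    have h1 := conj_fix (y := Dg h k * y) hw'
    have h2 : (Dg h k * y) • w' = oA 0 0 := by
      rw [mul_smul, hy2, Dg_oA h]
      simp
    rwa [h2] at h1

/-- The trichotomy for subgroups of even order. -/
theorem even_classify {M : Subgroup (G F m)} {z : G F m} (hzM : z ∈ M) (hz : IsInv z) :
    (∃ w : Om F m, ∀ g ∈ M, g • w = w) ∨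
    (∃ X : Subgroup (G F m), IsCyclic X ∧ Nat.card X ∈ cards m ∧ M ≤ Subgroup.normalizer (X : Set (G F m))) ∨
    (∃ x : G F m, Pre h (M.map (MulAut.conj x).toMonoidHom)) := by
  obtain ⟨w₀, hw₀⟩ := inv_exists h hz
  by_cases hf : ∀ g ∈ M, g • w₀ = w₀
  · exact Or.inl ⟨w₀, hf⟩
  push Not at hf
  obtain ⟨g, hgM, hg⟩ := hf
  have hzM₁ : g * z * g⁻¹ ∈ M := M.mul_mem (M.mul_mem hgM hzM) (M.inv_mem hgM)
  have hz₁ := isInv_conj hz g
  have hw₁ : (g * z * g⁻¹) • (g • w₀) = g • w₀ := conj_fix hw₀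
  by_cases hun : ∀ z' ∈ M, IsInv z' → z' • w₀ = w₀ → z' = z
  · right; left
    let W : Dl h M := ⟨w₀, z, hzM, hz, hw₀⟩
    let W' : Dl h M := ⟨g • w₀, _, hzM₁, hz₁, hw₁⟩
    refine one_inv h (w := W) (w' := W') (fun he => hg (congrArg Subtype.val he).symm)
      (z := ⟨z, hzM⟩) (z' := ⟨_, hzM₁⟩) (isInv_coe.mpr hz) (isInv_coe.mpr hz₁) (Subtype.ext hw₀) (Subtype.ext hw₁) ?_
    intro z' hz' hz'w
    apply Subtype.ext
    exact hun z'.1 z'.2 (isInv_coe.mp hz') (congrArg Subtype.val hz'w)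
  · right; right
    push Not at hun
    obtain ⟨z', hz'M, hz', hz'w, hne⟩ := hun
    exact exists_pre h hzM hz'M hzM₁ hz hz' hz₁ (Ne.symm hne) hw₀ hz'w hw₁ (Ne.symm hg)

end Cfsg.Agent.Lib.Suzuki.SubMain
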