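import Cfsg.Agent.Lib.Suzuki.SubG

/-! Subgroups of the Suzuki group with a normal subgroup of odd order, and the case of one involution. -/

set_option autoImplicit false
set_option linter.unusedSectionVars false
set_option linter.deprecated false
set_option linter.unusedSimpArgs false

namespace Cfsg.Agent.Lib.Suzuki.SubOdd

open Cfsg.Agent.Lib.Suzuki.Basic Cfsg.Agent.Lib.Suzuki.Group Cfsg.Agent.Lib.Suzuki.Struct
  Cfsg.Agent.Lib.Suzuki.Order Cfsg.Agent.Lib.Suzuki.Zass Cfsg.Agent.Lib.Suzuki.Sub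
  Cfsg.Agent.Lib.Suzuki.Syl Cfsg.Agent.Lib.Suzuki.Gen Cfsg.Agent.Lib.Suzuki.Fix
  Cfsg.Agent.Lib.Suzuki.Cent Cfsg.Agent.Lib.Suzuki.Types Cfsg.Agent.Lib.Suzuki.Tori1
  Cfsg.Agent.Lib.Suzuki.Tori2 Cfsg.Agent.Lib.Suzuki.Tori3 Cfsg.Agent.Lib.Suzuki.Part
  Cfsg.Agent.Lib.Suzuki.SubAbs Cfsg.Agent.Lib.Suzuki.SubG
open scoped Pointwise BigOperators

variable {F : Type*} [Field F] [Fintype F] {m : ℕ} (h : Hyp F m)
include h

/-- Non-identity elements of odd order have cyclic centralisers from the partition. -/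
theorem odd_cent {g : G F m} (hg1 : g ≠ 1) (hodd : Odd (orderOf g)) :
    IsCyclic (cent g) ∧ Nat.card (cent g) ∈ cards m := by
  have : Finite (G F m) := finite_G
  rcases trichotomy h hg1 with ⟨x, a, b, hne, rfl⟩ | ⟨x, k, hk, rfl⟩ | hf
  · exfalso
    have h4 : (x * Lg h a b * x⁻¹) ^ 4 = 1 := conj_U_pow_four h ⟨a, b, rfl⟩
    have h5 := orderOf_dvd_of_pow_eq_one h4
    have h6 : Nat.Coprime (orderOf (x * Lg h a b * x⁻¹)) 4 := coprime_four_of_odd hodd
    have h7 := Nat.Coprime.eq_one_of_dvd h6 h5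
    rw [orderOf_eq_one_iff] at h7
    exact hg1 h7
  · have hle := cent_conj_Dg_le h (x := x) hk
    have hge : (Dsub h).map (MulAut.conj x).toMonoidHom ≤ cent (x * Dg h k * x⁻¹) := by
      have := cyclic_map_conj h (Dsub h) x
      exact le_cent_of_cyclic h this (conj_mem_map h ⟨k, rfl⟩)
    have he : cent (x * Dg h k * x⁻¹) = (Dsub h).map (MulAut.conj x).toMonoidHom := le_antisymm hle hge
    rw [he]
    refine ⟨cyclic_map_conj h _ x, ?_⟩
    rw [card_map_conj h, card_Dsub h, h.hF]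
    exact Or.inl rfl
  · refine ⟨Fpf.cent_cyclic h hf (Fpf.ne_one h hf), ?_⟩
    rcases card_tor h ⟨cent g, g, hf, rfl⟩ with h1 | h1
    · exact Or.inr (Or.inl h1)
    · exact Or.inr (Or.inr h1)

/-- A subgroup normalising an abelian subgroup of odd order normalises a member of the partition. -/
theorem le_of_normal_abelian {M A : Subgroup (G F m)} (hA : A ≠ ⊥) (hodd : Odd (Nat.card A))
    (hc : ∀ x ∈ A, ∀ y ∈ A, x * y = y * x) (hM : M ≤ Subgroup.normalizer (A : Set (G F m))) :
    ∃ X : Subgroup (G F m), IsCyclic X ∧ Nat.card X ∈ cards m ∧ M ≤ Subgroup.normalizer (X : Set (G F m)) := by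
  have : Finite (G F m) := finite_G
  rcases A.bot_or_exists_ne_one with hb | ⟨g, hgA, hg1⟩
  · exact absurd hb hA
  have hog : Odd (orderOf g) := hodd.of_dvd_nat (Subgroup.orderOf_dvd_natCard A hgA)
  obtain ⟨hcyc, hcard⟩ := odd_cent h hg1 hog
  refine ⟨cent g, hcyc, hcard, ?_⟩
  intro y hy
  have hyN := hM hy
  rw [Subgroup.mem_normalizer_iff] at hyN
  have hg' : y * g * y⁻¹ ∈ A := (hyN g).mp hgA
  have hg'1 : y * g * y⁻¹ ≠ 1 := by
    intro he
    apply hg1
    have : g = y⁻¹ * (y * g * y⁻¹) * y := by group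
    rw [this, he]
    group
  rw [Subgroup.mem_normalizer_iff_map_conj_eq]
  refine part_unique h hg'1 _ _ (Or.inr ⟨cyclic_map_conj h _ y, ?_⟩) (Or.inr ⟨hcyc, hcard⟩)
    (conj_mem_map h (mem_cent_self h g)) (mem_cent.mpr (hc _ hg' g hgA))
  exact (card_map_conj h (cent g) y).symm ▸ hcard

/-- Subgroups of odd order are Z-groups. -/
theorem odd_isZGroup {O : Subgroup (G F m)} (hodd : Odd (Nat.card O)) : IsZGroup O := by
  have : Finite (G F m) := finite_G
  constructor
  intro p hp P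
  have : Fact p.Prime := ⟨hp⟩
  by_cases hp2 : p = 2
  · subst hp2
    obtain ⟨k, hk⟩ := P.2.exists_card_eq
    have h1 : 2 ^ k ∣ Nat.card O := by
      rw [← hk]
      exact Subgroup.card_subgroup_dvd_card _
    have hk0 : k = 0 := by
      by_contra hc
      have h2 : 2 ∣ Nat.card O := (dvd_pow_self 2 hc).trans h1
      exact (Nat.not_even_iff_odd.mpr hodd) (even_iff_two_dvd.mpr h2)
    rw [hk0, pow_zero] at hk
    have := (Nat.card_eq_one_iff_unique.mp hk).1
    exact isCyclic_of_subsingleton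
  · have hQ : IsPGroup p ((P : Subgroup O).map O.subtype) := P.2.map O.subtype
    obtain ⟨R, hR⟩ := hQ.exists_le_sylow
    have hRc := sylow_cyclic h hp2 R
    have h1 : IsCyclic ((P : Subgroup O).map O.subtype) := Subgroup.isCyclic_of_le hR
    exact isCyclic_of_surjective _ (Subgroup.equivMapOfInjective (P : Subgroup O) O.subtype O.subtype_injective).symm.surjective

/-- A subgroup normalising a nontrivial subgroup of odd order normalises a member of the partition. -/
theorem le_of_odd_normal {M O : Subgroup (G F m)} (hO : O ≠ ⊥) (hodd : Odd (Nat.card O))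
    (hM : M ≤ Subgroup.normalizer (O : Set (G F m))) :
    ∃ X : Subgroup (G F m), IsCyclic X ∧ Nat.card X ∈ cards m ∧ M ≤ Subgroup.normalizer (X : Set (G F m)) := by
  have : Finite (G F m) := finite_G
  have hZ := odd_isZGroup h hodd
  obtain ⟨A, hA, hAle, hAc, hAM⟩ := exists_abelian_normalized M O hO inferInstance hM
  have hAodd : Odd (Nat.card A) := hodd.of_dvd_nat (Subgroup.card_dvd_of_le hAle)
  exact le_of_normal_abelian h hA hAodd hAc hAM

/-- Square of a conjugate of an element of `U` with nonzero first coordinate. -/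
theorem isInv_conj_zero {x : G F m} {b : F} (hb : b ≠ 0) : IsInv (x * Lg h 0 b * x⁻¹) := by
  apply isInv_conj
  refine ⟨?_, ?_⟩
  · rw [← Lg_zero h]
    intro hc
    exact hb (Lg_inj h hc).2
  · rw [Lg_mul h, h.add_self, zero_pow_sg h, h.add_self, zero_mul, add_zero, Lg_zero h]

/-- With a unique involution the group `T` is abelian. -/
theorem T_comm {M : Subgroup (G F m)} {w : Dl h M} {z : M} (hz : IsInv z) (hzw : z • w = w)
    (huniq : ∀ z' : M, IsInv z' → z' • w = w → z' = z) :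
    ∀ u ∈ Tw h M w, ∀ v ∈ Tw h M w, u * v = v * u := by
  have S := setup h M
  have hz₀ : IsInv z.1 := isInv_coe.mp hz
  have hzw₀ : z.1 • w.1 = w.1 := congrArg Subtype.val hzw
  have hform : ∀ u ∈ Tw h M w, ∃ a b : F, u.1 = mv h w.1 * Lg h a b * (mv h w.1)⁻¹ := by
    intro u hu
    obtain ⟨y, ⟨a, b, rfl⟩, hy⟩ := (mem_Tw h).mp hu
    exact ⟨a, b, hy.symm⟩
  obtain ⟨b₀, hb₀, hzb⟩ := inv_form h hz₀ hzw₀ (mv_spec h w.1)
  have hsq : ∀ u ∈ Tw h M w, ∀ a b : F, u.1 = mv h w.1 * Lg h a b * (mv h w.1)⁻¹ → a ≠ 0 →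
      a ^ (2 ^ (m + 1)) * a = b₀ := by
    intro u hu a b hab ha
    have hu2 : u * u ∈ Tw h M w := (Tw h M w).mul_mem hu hu
    have hu2' : (u * u).1 = mv h w.1 * Lg h 0 (a ^ (2 ^ (m + 1)) * a) * (mv h w.1)⁻¹ := by
      rw [← Lg_sq h a b]
      change u.1 * u.1 = _
      rw [hab]
      group
    have hne0 : a ^ (2 ^ (m + 1)) * a ≠ 0 := mul_ne_zero (pow_ne_zero _ ha) ha
    have hI : IsInv (u * u) := by
      rw [isInv_coe, hu2']
      exact isInv_conj_zero h hne0
    have hfix : (u * u) • w = w := T_fix S hz hzw hu2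
    have h7 := huniq _ hI hfix
    have h8 : (u * u).1 = z.1 := congrArg Subtype.val h7
    rw [hu2', hzb] at h8
    have h9 : Lg h 0 (a ^ (2 ^ (m + 1)) * a) = Lg h 0 b₀ := mul_left_cancel (mul_right_cancel h8)
    exact (Lg_inj h h9).2
  intro u hu v hv
  obtain ⟨a, b, hab⟩ := hform u hu
  obtain ⟨c, d, hcd⟩ := hform v hv
  have hcomm' : Lg h a b * Lg h c d = Lg h c d * Lg h a b := by
    rw [Lg_comm_iff h]
    by_cases ha : a = 0
    · subst ha
      rw [zero_pow_sg h]
      simp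
    by_cases hc : c = 0
    · subst hc
      rw [zero_pow_sg h]
      simp
    have h1 := hsq u hu a b hab ha
    have h2 := hsq v hv c d hcd hc
    have h3 : a = c := pow_sg_mul_self_inj h (h1.trans h2.symm)
    rw [h3]
  apply Subtype.ext
  change u.1 * v.1 = v.1 * u.1
  rw [hab, hcd]
  have e1 : mv h w.1 * Lg h a b * (mv h w.1)⁻¹ * (mv h w.1 * Lg h c d * (mv h w.1)⁻¹) =
      mv h w.1 * (Lg h a b * Lg h c d) * (mv h w.1)⁻¹ := by group
  have e2 : mv h w.1 * Lg h c d * (mv h w.1)⁻¹ * (mv h w.1 * Lg h a b * (mv h w.1)⁻¹) =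
      mv h w.1 * (Lg h c d * Lg h a b) * (mv h w.1)⁻¹ := by group
  rw [e1, e2, hcomm']

/-- The stabiliser equals `T` when there is a unique involution. -/
theorem stab_eq_T {M : Subgroup (G F m)} {w w' : Dl h M} (hne : w ≠ w') {z z' : M} (hz : IsInv z) (hz' : IsInv z')
    (hzw : z • w = w) (hzw' : z' • w' = w')
    (huniq : ∀ z' : M, IsInv z' → z' • w = w → z' = z) (y : M) (hy : y • w = w) : y ∈ Tw h M w := by
  have S := setup h M
  have hS2 : ∀ g ∈ Stab2 M w w', g = 1 := by
    intro g hg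
    obtain ⟨h1, h2⟩ := mem_Stab2.mp hg
    have h3 : IsInv (g * z * g⁻¹) := by
      rw [isInv_coe]
      exact isInv_conj (isInv_coe.mp hz) g.1
    have h4 : (g * z * g⁻¹) • w = w := by
      have hgi : g⁻¹ • w = w := by rw [inv_smul_eq_iff, h1]
      rw [mul_smul, mul_smul, hgi, hzw, h1]
    have h5 := huniq _ h3 h4
    have h6 : g ∈ Tw h M w := by
      rw [← S.cent z w hz hzw, Subgroup.mem_centralizer_singleton_iff]
      calc g * z = g * z * g⁻¹ * g := by group
        _ = z * g := by rw [h5]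
    exact T_inf_Stab2 S hne h6 hg
  obtain ⟨v, hv, g, hg, rfl⟩ := decomp S hz hz' hzw hzw' hne hy
  rw [hS2 g hg, mul_one]
  exact hv

/-- The Sylow subgroup in the case of a unique involution. -/
theorem exists_sylow_eq_T {M : Subgroup (G F m)} {w : Dl h M} {z : M} (hz : IsInv z) (hzw : z • w = w)
    (hstab : ∀ y : M, y • w = w → y ∈ Tw h M w) :
    ∃ P : Sylow 2 M, (P : Subgroup M) = Tw h M w := by
  have : Finite (G F m) := finite_G
  have : Fact (Nat.Prime 2) := ⟨Nat.prime_two⟩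
  have S := setup h M
  have hTP : IsPGroup 2 (Tw h M w) := by
    rintro ⟨y, hy⟩
    refine ⟨2, ?_⟩
    have h1 := ((mem_Uw h).mp (mem_Tw h |>.mp hy)).2
    apply Subtype.ext
    apply Subtype.ext
    exact h1
  obtain ⟨P, hP⟩ := hTP.exists_le_sylow
  refine ⟨P, ?_⟩
  apply le_antisymm _ hP
  have hP' : IsPGroup 2 ((P : Subgroup M).map M.subtype) := P.isPGroup'.map M.subtype
  obtain ⟨w₀, hw₀⟩ := two_sub_fix h hP'
  have hzT : z ∈ Tw h M w := by
    rw [← S.cent z w hz hzw]
    exact Subgroup.mem_centralizer_singleton_iff.mpr rfl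
  have h1 : z.1 • w₀ = w₀ := hw₀ z.1 ⟨z, hP hzT, rfl⟩
  have h2 : w₀ = w.1 := inv_unique h (isInv_coe.mp hz) h1 (congrArg Subtype.val hzw)
  intro y hy
  apply hstab
  apply Subtype.ext
  have h3 := hw₀ y.1 ⟨y, hy, rfl⟩
  rw [h2] at h3
  exact h3

/-- The case of a unique involution through each point. -/
theorem one_inv {M : Subgroup (G F m)} {w w' : Dl h M} (hne : w ≠ w') {z z' : M} (hz : IsInv z) (hz' : IsInv z')
    (hzw : z • w = w) (hzw' : z' • w' = w')
    (huniq : ∀ z' : M, IsInv z' → z' • w = w → z' = z) :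
    ∃ X : Subgroup (G F m), IsCyclic X ∧ Nat.card X ∈ cards m ∧ M ≤ Subgroup.normalizer (X : Set (G F m)) := by
  have : Finite (G F m) := finite_G
  have : Fact (Nat.Prime 2) := ⟨Nat.prime_two⟩
  have S := setup h M
  have hstab := stab_eq_T h hne hz hz' hzw hzw' huniq
  have hcomm := T_comm h hz hzw huniq
  obtain ⟨P, hPeq⟩ := exists_sylow_eq_T h hz hzw hstab
  have hPN : Subgroup.normalizer ((P : Subgroup M) : Set M) ≤ Subgroup.centralizer ((P : Subgroup M) : Set M) := by
    intro n hn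
    have hzT : z ∈ (P : Subgroup M) := by
      rw [hPeq, ← S.cent z w hz hzw]
      exact Subgroup.mem_centralizer_singleton_iff.mpr rfl
    have h1 := (Subgroup.mem_normalizer_iff.mp hn z).mp hzT
    rw [hPeq] at h1
    have h2 : (n * z * n⁻¹) • w = w := T_fix S hz hzw h1
    have h3 : IsInv (n * z * n⁻¹) := by
      rw [isInv_coe]
      exact isInv_conj (isInv_coe.mp hz) n.1
    have h4 : (n * z * n⁻¹) • (n • w) = n • w := by
      rw [mul_smul, mul_smul, inv_smul_smul, hzw]
    have h5 : n • w = w := S.inv_unique _ _ _ h3 h4 h2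
    have h6 := hstab n h5
    rw [Subgroup.mem_centralizer_iff]
    intro p hp
    rw [hPeq] at hp
    exact hcomm p hp n h6
  obtain ⟨K, hKn, hKodd, hKb⟩ := burnside_two P hPN
  have hK'card : Nat.card (K.map M.subtype) = Nat.card K :=
    Nat.card_congr (Subgroup.equivMapOfInjective K M.subtype M.subtype_injective).symm.toEquiv
  have hKbot : K.map M.subtype ≠ ⊥ := by
    intro hc
    have hK0 : K = ⊥ := (Subgroup.map_eq_bot_iff_of_injective _ M.subtype_injective).mp hc
    have hP := hKb hK0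
    have hzT : z' ∈ Tw h M w := by
      rw [← hPeq, hP]
      exact Subgroup.mem_top _
    have h1 : z' • w = w := T_fix S hz hzw hzT
    exact hne (S.inv_unique z' _ _ hz' h1 hzw')
  exact le_of_odd_normal h hKbot (hK'card ▸ hKodd) (le_normalizer_map M K hKn)

end Cfsg.Agent.Lib.Suzuki.SubOdd
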