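import Cfsg.Agent.Lib.Suzuki.Types

/-! Tori of the Suzuki group: centralisers of fixed-point-free elements. -/

set_option autoImplicit false
set_option linter.unusedSectionVars false
set_option linter.deprecated false
set_option linter.unusedSimpArgs false

namespace Cfsg.Agent.Lib.Suzuki.Tori1

open Cfsg.Agent.Lib.Suzuki.Basic Cfsg.Agent.Lib.Suzuki.Group Cfsg.Agent.Lib.Suzuki.Struct
  Cfsg.Agent.Lib.Suzuki.Order Cfsg.Agent.Lib.Suzuki.Zass Cfsg.Agent.Lib.Suzuki.Sub
  Cfsg.Agent.Lib.Suzuki.Syl Cfsg.Agent.Lib.Suzuki.Gen Cfsg.Agent.Lib.Suzuki.Fix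
  Cfsg.Agent.Lib.Suzuki.Cent Cfsg.Agent.Lib.Suzuki.Types
open scoped Pointwise

theorem card_algEquiv_aux {F K : Type*} [Field F] [Field K] [Algebra F K] [FiniteDimensional F K] :
    Nat.card (K ≃ₐ[F] K) ≤ Module.finrank F K := by
  rw [Nat.card_eq_fintype_card]
  exact AlgEquiv.card_le

theorem card_algEquiv_le {F K : Type*} [Field F] [Ring K] [Algebra F K] [Finite K] (hK : IsField K) :
    Nat.card (K ≃ₐ[F] K) ≤ Module.finrank F K := by
  have hfd : Module.Finite F K := Module.Finite.of_finite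
  exact @card_algEquiv_aux F K _ hK.toField ‹Algebra F K› hfd

section abstractConj

variable {F V N : Type*} [Field F] [AddCommGroup V] [Module F V] [Group N]
  (K : Subalgebra F (Module.End F V)) (ρ : N →* Module.End F V)
  (hρ : ∀ (x : N) (B : K), ρ x * B.1 * ρ x⁻¹ ∈ K)

/-- Conjugation by a group element as an algebra homomorphism of a stable subalgebra. -/
def conjAlg (x : N) : K →ₐ[F] K where
  toFun B := ⟨ρ x * B.1 * ρ x⁻¹, hρ x B⟩
  map_one' := by
    apply Subtype.ext
    change ρ x * 1 * ρ x⁻¹ = 1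
    rw [mul_one, ← map_mul, mul_inv_cancel, map_one]
  map_mul' B C := by
    apply Subtype.ext
    change ρ x * (B.1 * C.1) * ρ x⁻¹ = (ρ x * B.1 * ρ x⁻¹) * (ρ x * C.1 * ρ x⁻¹)
    have e2 : ρ x⁻¹ * ρ x = 1 := by
      rw [← map_mul, inv_mul_cancel, map_one]
    calc ρ x * (B.1 * C.1) * ρ x⁻¹ = ρ x * B.1 * (1 * C.1) * ρ x⁻¹ := by
          simp only [one_mul, mul_assoc]
      _ = _ := by rw [← e2]; simp only [mul_assoc]
  map_zero' := by
    apply Subtype.ext
    change ρ x * 0 * ρ x⁻¹ = 0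
    simp
  map_add' B C := by
    apply Subtype.ext
    change ρ x * (B.1 + C.1) * ρ x⁻¹ = (ρ x * B.1 * ρ x⁻¹) + (ρ x * C.1 * ρ x⁻¹)
    rw [mul_add, add_mul]
  commutes' r := by
    apply Subtype.ext
    change ρ x * (algebraMap F _ r) * ρ x⁻¹ = algebraMap F _ r
    rw [← Algebra.commutes, mul_assoc, ← map_mul, mul_inv_cancel, map_one, mul_one]

theorem conjAlg_mul (x y : N) (B : K) :
    conjAlg K ρ hρ (x * y) B = conjAlg K ρ hρ x (conjAlg K ρ hρ y B) := by
  apply Subtype.ext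
  change ρ (x * y) * B.1 * ρ (x * y)⁻¹ = ρ x * (ρ y * B.1 * ρ y⁻¹) * ρ x⁻¹
  rw [map_mul, _root_.mul_inv_rev, map_mul]
  simp only [mul_assoc]

theorem conjAlg_one (B : K) : conjAlg K ρ hρ 1 B = B := by
  apply Subtype.ext
  change ρ 1 * B.1 * ρ 1⁻¹ = B.1
  simp

/-- Conjugation as a homomorphism to the group of algebra automorphisms. -/
def conjHom : N →* (K ≃ₐ[F] K) where
  toFun x := AlgEquiv.ofAlgHom (conjAlg K ρ hρ x) (conjAlg K ρ hρ x⁻¹)
    (by
      apply AlgHom.ext
      intro B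
      change conjAlg K ρ hρ x (conjAlg K ρ hρ x⁻¹ B) = B
      rw [← conjAlg_mul, mul_inv_cancel, conjAlg_one])
    (by
      apply AlgHom.ext
      intro B
      change conjAlg K ρ hρ x⁻¹ (conjAlg K ρ hρ x B) = B
      rw [← conjAlg_mul, inv_mul_cancel, conjAlg_one])
  map_one' := by
    apply AlgEquiv.ext
    intro B
    exact conjAlg_one K ρ hρ B
  map_mul' x y := by
    apply AlgEquiv.ext
    intro B
    exact conjAlg_mul K ρ hρ x y B

omit hρ in
/-- A subalgebra of nonzero injective maps embeds in the space. -/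
theorem finrank_le_of_inj [FiniteDimensional F V]
    (hne : ∀ B ∈ K, B ≠ 0 → Function.Injective B) {v : V} (hv : v ≠ 0) :
    Module.finrank F K ≤ Module.finrank F V := by
  have hinj : Function.Injective ((LinearMap.applyₗ v).comp K.val.toLinearMap) := by
    intro B C he
    have h1 : (B.1 - C.1) v = 0 := by
      have : B.1 v = C.1 v := he
      simp [this]
    by_contra hnn
    have hne' : B.1 - C.1 ≠ 0 := by
      intro hc
      exact hnn (Subtype.ext (sub_eq_zero.mp hc))
    have hm : B.1 - C.1 ∈ K := K.sub_mem B.2 C.2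
    have := hne _ hm hne'
    exact hv (this (by simpa using h1))
  exact LinearMap.finrank_le_finrank_of_injective hinj

end abstractConj

/-- Commutation after conjugation (abstract form). -/
theorem conj_comm {Γ R : Type*} [Group Γ] [Monoid R] (ρ : Γ →* R) (x z : Γ) (B : R)
    (h4 : ρ (x⁻¹ * z * x) * B = B * ρ (x⁻¹ * z * x)) :
    ρ z * (ρ x * B * ρ x⁻¹) = (ρ x * B * ρ x⁻¹) * ρ z := by
  have e1 : ρ z = ρ x * ρ (x⁻¹ * z * x) * ρ x⁻¹ := by
    rw [← map_mul, ← map_mul]
    congr 1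
    group
  have e2 : ρ x⁻¹ * ρ x = 1 := by
    rw [← map_mul, inv_mul_cancel, map_one]
  calc ρ z * (ρ x * B * ρ x⁻¹)
      = ρ x * (ρ (x⁻¹ * z * x) * (ρ x⁻¹ * ρ x) * B) * ρ x⁻¹ := by
        rw [e1]; simp only [mul_assoc]
    _ = ρ x * (ρ (x⁻¹ * z * x) * B) * ρ x⁻¹ := by rw [e2, mul_one]
    _ = ρ x * (B * ρ (x⁻¹ * z * x)) * ρ x⁻¹ := by rw [h4]
    _ = (ρ x * B * (ρ x⁻¹ * ρ x)) * ρ (x⁻¹ * z * x) * ρ x⁻¹ := by
        rw [e2, mul_one]; simp only [mul_assoc]
    _ = (ρ x * B * ρ x⁻¹) * (ρ x * ρ (x⁻¹ * z * x) * ρ x⁻¹) := by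
        simp only [mul_assoc]
    _ = _ := by rw [← e1]

variable {F : Type*} [Field F] [Fintype F] {m : ℕ} (h : Hyp F m)

/-- The centraliser of an element. -/
abbrev cent (g : G F m) : Subgroup (G F m) := Subgroup.centralizer ({g} : Set (G F m))

theorem mem_cent {g y : G F m} : y ∈ cent g ↔ y * g = g * y :=
  Subgroup.mem_centralizer_singleton_iff

include h

theorem Fpf.ne_one {g : G F m} (hg : Fpf g) : g ≠ 1 := by
  rintro rfl
  exact hg oI (one_smul _ _)

theorem mem_cent_self (g : G F m) : g ∈ cent g := mem_cent.mpr rfl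

/-- Non-identity elements of the centraliser of a fixed-point-free element are fixed-point-free. -/
theorem Fpf.of_mem_cent {g y : G F m} (hg : Fpf g) (hy : y ∈ cent g) (hy1 : y ≠ 1) : Fpf y :=
  Fpf.of_comm h hg hy1 (mem_cent.mp hy).symm

/-- Centralisers of non-identity elements of a torus coincide. -/
theorem Fpf.cent_eq {g y : G F m} (hg : Fpf g) (hy : y ∈ cent g) (hy1 : y ≠ 1) : cent y = cent g := by
  have hy' : Fpf y := Fpf.of_mem_cent h hg hy hy1
  apply le_antisymm
  · intro x hx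
    -- `x, g ∈ C(y)` commute
    have hg' : g ∈ cent y := mem_cent.mpr (mem_cent.mp hy).symm
    exact mem_cent.mpr (Fpf.cent_comm h hy' (Fpf.ne_one h hy') hx hg')
  · intro x hx
    exact mem_cent.mpr (Fpf.cent_comm h hg (Fpf.ne_one h hg) hx hy)

/-- The order of a torus divides `q² + 1`. -/
theorem card_cent_dvd {g : G F m} (hg : Fpf g) : Nat.card (cent g) ∣ Fintype.card F ^ 2 + 1 := by
  have hfree : ∀ w : Om F m, MulAction.stabilizer (cent g) w = ⊥ := by
    intro w
    rw [eq_bot_iff]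
    intro a ha
    rw [Subgroup.mem_bot]
    by_contra hne
    have ha1 : (a : G F m) ≠ 1 := fun hc => hne (Subtype.ext hc)
    have := Fpf.of_mem_cent h hg a.2 ha1
    exact this w (MulAction.mem_stabilizer_iff.mp ha)
  have e := Nat.card_congr (MulAction.selfEquivOrbitsQuotientProd hfree)
  rw [Nat.card_prod, card_Om] at e
  exact ⟨_, e.trans (mul_comm _ _)⟩

/-- The commutant contains the centraliser. -/
theorem rho_mem_Kz {z y : G F m} (hy : y ∈ cent z) : rho y ∈ Kz z := by
  rw [mem_Kz, ← map_mul, ← map_mul, (mem_cent.mp hy)]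

/-- The bound on the normaliser of a torus. -/
theorem card_normalizer_le {g : G F m} (hg : Fpf g) :
    Nat.card (Subgroup.normalizer ((cent g : Subgroup (G F m)) : Set (G F m))) ≤ 4 * Nat.card (cent g) := by
  obtain ⟨p, n, hp, hp2, hd, hz1, hzp, hzF⟩ := Fpf.exists_prime h hg (Fpf.ne_one h hg)
  have : Fact p.Prime := ⟨hp⟩
  set z := g ^ n with hz
  have hzmem : z ∈ cent g := mem_cent.mpr ((Commute.refl g).pow_left n)
  have hA : cent z = cent g := Fpf.cent_eq h hg hzmem hz1
  have hK := Kz_isField hp2 hd z hzp hz1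
  set N := Subgroup.normalizer ((cent g : Subgroup (G F m)) : Set (G F m)) with hN
  let ρ : N →* Module.End F (Fin 4 → F) := rho.comp N.subtype
  have hρ : ∀ (x : N), ρ x = rho x.1 := fun x => rfl
  -- the conjugate `x⁻¹ z x`
  have hmem : ∀ (x : N) (B : Kz z), ρ x * B.1 * ρ x⁻¹ ∈ Kz z := by
    intro x B
    have hx : x.1⁻¹ * z * x.1 ∈ cent z := by
      rw [hA]
      have h1 := (Subgroup.mem_normalizer_iff.mp (N.inv_mem x.2) z).mp hzmem
      simpa using h1
    have h2 : rho (x.1⁻¹ * z * x.1) ∈ Kz z := rho_mem_Kz h hx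
    have h3 := hK.mul_comm ⟨rho (x.1⁻¹ * z * x.1), h2⟩ B
    have h4 : rho (x.1⁻¹ * z * x.1) * B.1 = B.1 * rho (x.1⁻¹ * z * x.1) := congrArg Subtype.val h3
    rw [mem_Kz]
    exact conj_comm rho x.1 z B.1 h4
  let Θ := conjHom (Kz z) ρ hmem
  have hΘ : ∀ (x : N) (B : Kz z), ((Θ x B : Kz z) : Module.End F (Fin 4 → F)) = ρ x * B.1 * ρ x⁻¹ :=
    fun x B => rfl
  -- the kernel is in the torus
  have hker : ∀ x : N, x ∈ Θ.ker → x.1 ∈ cent g := by
    intro x hx
    rw [MonoidHom.mem_ker] at hx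
    have h1 := hΘ x ⟨rho z, rho_mem_Kz h (mem_cent_self h z)⟩
    rw [hx] at h1
    have h2 : rho z = rho x.1 * rho z * rho x.1⁻¹ := h1
    rw [← map_mul, ← map_mul] at h2
    have h3 : z = x.1 * z * x.1⁻¹ := rho_inj h2
    rw [← hA]
    apply mem_cent.mpr
    calc x.1 * z = (x.1 * z * x.1⁻¹) * x.1 := by group
      _ = z * x.1 := by rw [← h3]
  have hcardker : Nat.card Θ.ker ≤ Nat.card (cent g) := by
    apply Nat.card_le_card_of_injective (fun x : Θ.ker => (⟨x.1.1, hker x.1 x.2⟩ : cent g))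
    intro x y hxy
    apply Subtype.ext
    apply Subtype.ext
    exact congrArg (fun t : cent g => t.1) hxy
  -- the automorphism group is small
  have hrank : Module.finrank F (Kz z) ≤ 4 := by
    have hne : ∀ B ∈ Kz z, B ≠ 0 → Function.Injective B := fun B hB hB0 =>
      Kz_inj hp2 hd z hzp hz1 hB hB0
    have := finrank_le_of_inj (Kz z) hne (v := fun _ => 1) (fun hc => by
      simpa using congrFun hc 0)
    simpa using this
  have hgal : Nat.card (Kz z ≃ₐ[F] Kz z) ≤ 4 :=
    le_trans (@card_algEquiv_le F (Kz z) _ (Kz z).toRing (Kz z).algebra _ hK) hrank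
  have hrange : Nat.card Θ.range ≤ 4 := by
    refine le_trans ?_ hgal
    have : Finite (Kz z ≃ₐ[F] Kz z) :=
      Finite.of_injective (fun e => (e : Kz z → Kz z)) DFunLike.coe_injective
    exact Nat.card_le_card_of_injective (fun x : Θ.range => x.1) Subtype.val_injective
  have hNcard : Nat.card N = Nat.card Θ.ker * Nat.card Θ.range := by
    rw [← Subgroup.index_ker, Subgroup.card_mul_index]
  rw [hNcard]
  calc Nat.card Θ.ker * Nat.card Θ.range ≤ Nat.card (cent g) * 4 := Nat.mul_le_mul hcardker hrange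
    _ = _ := mul_comm _ _

end Cfsg.Agent.Lib.Suzuki.Tori1
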