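import Cfsg.Agent.Lib.Suzuki.Tori1

/-! Counting fixed-point-free elements and the conjugation action on tori. -/

set_option autoImplicit false
set_option linter.unusedSectionVars false
set_option linter.deprecated false
set_option linter.unusedSimpArgs false

namespace Cfsg.Agent.Lib.Suzuki.Tori2

open Cfsg.Agent.Lib.Suzuki.Basic Cfsg.Agent.Lib.Suzuki.Group Cfsg.Agent.Lib.Suzuki.Struct
  Cfsg.Agent.Lib.Suzuki.Order Cfsg.Agent.Lib.Suzuki.Zass Cfsg.Agent.Lib.Suzuki.Sub
  Cfsg.Agent.Lib.Suzuki.Syl Cfsg.Agent.Lib.Suzuki.Gen Cfsg.Agent.Lib.Suzuki.Fix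
  Cfsg.Agent.Lib.Suzuki.Cent Cfsg.Agent.Lib.Suzuki.Types Cfsg.Agent.Lib.Suzuki.Tori1
open scoped Pointwise BigOperators

variable {F : Type*} [Field F] [Fintype F] {m : ℕ}

/-- Conjugates of fixed-point-free elements. -/
theorem fpf_conj {g : G F m} (hg : Fpf g) (x : G F m) : Fpf (x * g * x⁻¹) := by
  intro w hw
  apply hg (x⁻¹ • w)
  rw [← mul_smul]
  have e : g * x⁻¹ = x⁻¹ * (x * g * x⁻¹) := by group
  rw [e, mul_smul, hw]

/-- Conjugation of a centraliser. -/
theorem cent_conj (x g : G F m) :
    (cent g).map (MulAut.conj x).toMonoidHom = cent (x * g * x⁻¹) := by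
  ext y
  constructor
  · rintro ⟨u, hu, rfl⟩
    have hu' := mem_cent.mp hu
    apply mem_cent.mpr
    change x * u * x⁻¹ * (x * g * x⁻¹) = x * g * x⁻¹ * (x * u * x⁻¹)
    have : x * u * x⁻¹ * (x * g * x⁻¹) = x * (u * g) * x⁻¹ := by group
    rw [this, hu']
    group
  · intro hy
    have hy' := mem_cent.mp hy
    refine ⟨x⁻¹ * y * x, ?_, ?_⟩
    · apply mem_cent.mpr
      have : x⁻¹ * y * x * g = x⁻¹ * (y * (x * g * x⁻¹)) * x := by group
      rw [this, hy']
      group
    · change x * (x⁻¹ * y * x) * x⁻¹ = y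
      group

/-- The predicate "torus". -/
def IsTorus (A : Subgroup (G F m)) : Prop := ∃ g, Fpf g ∧ A = cent g

/-- The type of tori. -/
abbrev Tor (F : Type*) [Field F] [Fintype F] (m : ℕ) := {A : Subgroup (G F m) // IsTorus A}

instance : MulAction (G F m) (Tor F m) where
  smul x A := ⟨A.1.map (MulAut.conj x).toMonoidHom, by
    obtain ⟨g, hg, hA⟩ := A.2
    refine ⟨x * g * x⁻¹, fpf_conj hg x, ?_⟩
    rw [hA, cent_conj]⟩
  one_smul A := by
    apply Subtype.ext
    change A.1.map (MulAut.conj (1 : G F m)).toMonoidHom = A.1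
    ext y
    simp
  mul_smul x y A := by
    apply Subtype.ext
    change A.1.map (MulAut.conj (x * y)).toMonoidHom =
      (A.1.map (MulAut.conj y).toMonoidHom).map (MulAut.conj x).toMonoidHom
    rw [Subgroup.map_map]
    congr 1
    ext z
    simp [MulAut.conj_apply]

theorem coe_smul (x : G F m) (A : Tor F m) :
    ((x • A : Tor F m) : Subgroup (G F m)) = A.1.map (MulAut.conj x).toMonoidHom := rfl

theorem mem_stabilizer_iff_normalizer (x : G F m) (A : Tor F m) :
    x ∈ MulAction.stabilizer (G F m) A ↔ x ∈ Subgroup.normalizer ((A.1 : Subgroup (G F m)) : Set (G F m)) := by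
  rw [MulAction.mem_stabilizer_iff, Subgroup.mem_normalizer_iff_map_conj_eq]
  constructor
  · intro hx
    exact congrArg Subtype.val hx
  · intro hx
    exact Subtype.ext hx

theorem card_smul (x : G F m) (A : Tor F m) : Nat.card (x • A : Tor F m).1 = Nat.card A.1 := by
  rw [coe_smul]
  exact Nat.card_congr ((MulAut.conj x).subgroupMap A.1).symm.toEquiv

theorem stabilizer_eq (A : Tor F m) : MulAction.stabilizer (G F m) A =
    Subgroup.normalizer ((A.1 : Subgroup (G F m)) : Set (G F m)) := by
  ext x
  exact mem_stabilizer_iff_normalizer x A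

instance : Finite (Tor F m) := inferInstance

/-! ### General counting lemmas -/

theorem sum_orbits {Γ X R : Type*} [Group Γ] [MulAction Γ X] [Fintype X]
    [Fintype (MulAction.orbitRel.Quotient Γ X)] [AddCommMonoid R] (f : X → R)
    (hf : ∀ (x : Γ) (a : X), f (x • a) = f a) :
    (∑ a, f a) = ∑ ω : MulAction.orbitRel.Quotient Γ X,
      (Nat.card (MulAction.orbit Γ (Quotient.out ω))) • f (Quotient.out ω) := by
  classical
  have hmem : ∀ (ω : MulAction.orbitRel.Quotient Γ X) (a : X),
      a ∈ Finset.univ.filter (fun a : X => (Quotient.mk _ a : MulAction.orbitRel.Quotient Γ X) = ω) ↔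
        a ∈ MulAction.orbit Γ (Quotient.out ω) := by
    intro ω a
    rw [Finset.mem_filter, ← MulAction.orbitRel_apply]
    constructor
    · rintro ⟨-, h1⟩
      exact Quotient.exact (h1.trans (Quotient.out_eq ω).symm)
    · intro h1
      exact ⟨Finset.mem_univ _, (Quotient.sound h1).trans (Quotient.out_eq ω)⟩
  have hfib : ∀ ω : MulAction.orbitRel.Quotient Γ X,
      ∑ a ∈ Finset.univ.filter (fun a : X => (Quotient.mk _ a : MulAction.orbitRel.Quotient Γ X) = ω), f a =
        (Nat.card (MulAction.orbit Γ (Quotient.out ω))) • f (Quotient.out ω) := by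
    intro ω
    have hconst : ∀ a ∈ Finset.univ.filter (fun a : X => (Quotient.mk _ a : MulAction.orbitRel.Quotient Γ X) = ω),
        f a = f (Quotient.out ω) := by
      intro a ha
      obtain ⟨x, rfl⟩ := (hmem ω a).mp ha
      exact hf x _
    rw [Finset.sum_congr rfl hconst, Finset.sum_const]
    congr 1
    exact (Nat.subtype_card _ (hmem ω)).symm
  rw [← Finset.sum_fiberwise (s := Finset.univ) (g := fun a : X => (Quotient.mk _ a : MulAction.orbitRel.Quotient Γ X))]
  exact Finset.sum_congr rfl (fun ω _ => hfib ω)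

theorem card_emb_fixed {Γ X : Type*} [Group Γ] [MulAction Γ X] [Fintype X] (g : Γ) :
    Nat.card (MulAction.fixedBy (Fin 2 ↪ X) g) =
      Nat.card (MulAction.fixedBy X g) * (Nat.card (MulAction.fixedBy X g) - 1) := by
  classical
  have e : MulAction.fixedBy (Fin 2 ↪ X) g ≃ (Fin 2 ↪ MulAction.fixedBy X g) :=
    { toFun := fun φ =>
        { toFun := fun i => ⟨φ.1 i, by
            have := congrArg (fun ψ : Fin 2 ↪ X => ψ i) φ.2
            exact this⟩
          inj' := fun i j hij => φ.1.injective (congrArg Subtype.val hij) }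
      invFun := fun ψ => ⟨⟨fun i => (ψ i).1, fun i j hij => ψ.injective (Subtype.ext hij)⟩, by
        apply Function.Embedding.ext
        intro i
        exact (ψ i).2⟩
      left_inv := fun φ => by
        apply Subtype.ext
        apply Function.Embedding.ext
        intro i
        rfl
      right_inv := fun ψ => by
        apply Function.Embedding.ext
        intro i
        rfl }
  rw [Nat.card_congr e, Nat.card_eq_fintype_card, Fintype.card_embedding_eq, Fintype.card_fin,
    Nat.card_eq_fintype_card, Nat.descFactorial_succ, Nat.descFactorial_one]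
  ring

theorem card_ne_one {H : Type*} [Group H] [Finite H] (_ : Unit) :
    Nat.card {y : H // y ≠ 1} = Nat.card H - 1 := by
  classical
  have : Fintype H := Fintype.ofFinite H
  rw [Nat.card_eq_fintype_card, Nat.card_eq_fintype_card, Fintype.card_subtype_compl]
  simp

/-- Burnside for a transitive action. -/
theorem sum_fixed_trans {Γ X : Type*} [Group Γ] [Fintype Γ] [MulAction Γ X] [Finite X] [Nonempty X]
    [MulAction.IsPretransitive Γ X] :
    (∑ g : Γ, Nat.card (MulAction.fixedBy X g)) = Fintype.card Γ := by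
  classical
  have : Fintype X := Fintype.ofFinite X
  have hQ : Subsingleton (Quotient (MulAction.orbitRel Γ X)) := by
    constructor
    intro a b
    induction a using Quotient.inductionOn with | _ a => ?_
    induction b using Quotient.inductionOn with | _ b => ?_
    apply Quotient.sound
    exact MulAction.orbitRel_apply.mpr (MulAction.exists_smul_eq Γ b a)
  have hQ' : Unique (Quotient (MulAction.orbitRel Γ X)) :=
    { default := Quotient.mk _ (Classical.arbitrary X)
      uniq := fun _ => Subsingleton.elim _ _ }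
  have hb := MulAction.sum_card_fixedBy_eq_card_orbits_mul_card_group Γ X
  rw [Fintype.card_unique, one_mul] at hb
  rw [← hb]
  exact Finset.sum_congr rfl (fun g _ => Nat.card_eq_fintype_card)

variable (h : Hyp F m)
include h

/-- The number of fixed points of a nontrivial element is at most 2. -/
theorem fixed_le_two {g : G F m} (hg : g ≠ 1) : Nat.card (MulAction.fixedBy (Om F m) g) ≤ 2 := by
  classical
  by_contra hcon
  push Not at hcon
  have : Fintype (MulAction.fixedBy (Om F m) g) := Fintype.ofFinite _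
  rw [Nat.card_eq_fintype_card, Fintype.two_lt_card_iff] at hcon
  obtain ⟨a, b, c, hab, hac, hbc⟩ := hcon
  exact hg (eq_one_of_fix_three h g (fun e => hab (Subtype.ext e)) (fun e => hbc (Subtype.ext e))
    (fun e => hac (Subtype.ext e)) a.2 b.2 c.2)

theorem fixed_eq_zero_iff {g : G F m} : Nat.card (MulAction.fixedBy (Om F m) g) = 0 ↔ Fpf g := by
  rw [Nat.card_eq_zero]
  constructor
  · rintro (h1 | h1)
    · intro w hw
      exact h1.false ⟨w, hw⟩
    · exact absurd h1 (not_infinite_iff_finite.mpr inferInstance)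
  · intro hg
    left
    exact ⟨fun w => hg w.1 w.2⟩

/-- The number of fixed-point-free elements. -/
theorem two_fpf : 2 * Nat.card {g : G F m // Fpf g} + Fintype.card F ^ 2 * (Fintype.card F ^ 2 - 1) =
    Nat.card (G F m) := by
  classical
  have : Fintype (G F m) := Fintype.ofFinite _
  have : Fintype (Om F m) := Fintype.ofFinite _
  have := isPretransitive h
  have h2t := isMultiplyPretransitive h
  have hne : Nonempty (Om F m) := ⟨oI⟩
  have hne2 : Nonempty (Fin 2 ↪ Om F m) := by
    have e : (oI : Om F m) ≠ oA 0 0 := (oA_ne_oI 0 0).symm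
    refine ⟨⟨![oI, oA 0 0], ?_⟩⟩
    intro i j hij
    fin_cases i <;> fin_cases j <;> simp_all
  have htrans2 : MulAction.IsPretransitive (G F m) (Fin 2 ↪ Om F m) := h2t
  have s1 := sum_fixed_trans (Γ := G F m) (X := Om F m)
  have s2 := sum_fixed_trans (Γ := G F m) (X := Fin 2 ↪ Om F m)
  simp only [card_emb_fixed] at s2
  set f : G F m → ℕ := fun g => Nat.card (MulAction.fixedBy (Om F m) g) with hf
  have hN : f 1 = Fintype.card F ^ 2 + 1 := by
    rw [hf]
    simp only
    rw [← card_Om (F := F) (m := m)]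
    apply Nat.card_congr
    refine ⟨fun w => w.1, fun w => ⟨w, one_smul _ _⟩, fun w => rfl, fun w => rfl⟩
  have hf2 : ∀ g : G F m, g ≠ 1 → f g ≤ 2 := fun g hg => fixed_le_two h hg
  -- the integer identity
  have key : ∀ g : G F m, ((f g : ℤ) * ((f g : ℤ) - 1)) - 2 * (f g : ℤ) + 2 =
      2 * (if Fpf g then 1 else 0) +
        (if g = 1 then ((Fintype.card F ^ 2 : ℕ) : ℤ) * (((Fintype.card F ^ 2 : ℕ) : ℤ) - 1) else 0) := by
    intro g
    by_cases hg : g = 1
    · subst hg
      have h1 : ¬ Fpf (1 : G F m) := fun hc => hc oI (one_smul _ _)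
      rw [if_neg h1, if_pos rfl, hN]
      push_cast
      ring
    · rw [if_neg hg]
      have hle := hf2 g hg
      by_cases h0 : f g = 0
      · rw [if_pos ((fixed_eq_zero_iff h).mp h0), h0]
        norm_num
      · have h1 : ¬ Fpf g := fun hc => h0 ((fixed_eq_zero_iff h).mpr hc)
        rw [if_neg h1]
        have : f g = 1 ∨ f g = 2 := by omega
        rcases this with e | e <;> rw [e] <;> norm_num
  -- sum over the group
  have s3 : (∑ g : G F m, ((f g : ℤ) * ((f g : ℤ) - 1))) = Fintype.card (G F m) := by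
    rw [← s2]
    push_cast
    apply Finset.sum_congr rfl
    intro g _
    have : 1 ≤ f g ∨ f g = 0 := by omega
    rcases this with e | e
    · rw [Nat.cast_sub e]
      simp [hf]
    · simp [e, hf] at e ⊢
      simp [e]
  have s4 : (∑ g : G F m, (f g : ℤ)) = Fintype.card (G F m) := by
    rw [← s1]
    push_cast
    rfl
  have s5 := Finset.sum_congr (rfl : (Finset.univ : Finset (G F m)) = Finset.univ) (fun g _ => key g)
  rw [Finset.sum_add_distrib, Finset.sum_add_distrib, Finset.sum_sub_distrib, s3, ← Finset.mul_sum, s4,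
    ← Finset.mul_sum, Finset.sum_ite_eq' Finset.univ (1 : G F m)] at s5
  simp only [Finset.sum_const, Finset.card_univ, Finset.mem_univ, if_true, smul_eq_mul, nsmul_eq_mul] at s5
  have hfp : (∑ g : G F m, (if Fpf g then (1 : ℤ) else 0)) = Nat.card {g : G F m // Fpf g} := by
    rw [Finset.sum_boole, Nat.card_eq_fintype_card, Fintype.card_subtype]
  rw [hfp] at s5
  have hq1 : 1 ≤ Fintype.card F ^ 2 := Nat.one_le_pow _ _ Fintype.card_pos
  zify [hq1]
  rw [Nat.card_eq_fintype_card (α := G F m)]
  push_cast at s5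
  linarith

/-- The count of fixed-point-free elements via tori. -/
theorem fpf_eq_sum [Fintype (Tor F m)] :
    Nat.card {g : G F m // Fpf g} = ∑ A : Tor F m, (Nat.card A.1 - 1) := by
  classical
  have : Fintype {g : G F m // Fpf g} := Fintype.ofFinite _
  let c : {g : G F m // Fpf g} → Tor F m := fun g => ⟨cent g.1, g.1, g.2, rfl⟩
  have hfib : ∀ A : Tor F m, Nat.card {g : {g : G F m // Fpf g} // c g = A} = Nat.card A.1 - 1 := by
    rintro ⟨A, g₀, hg₀, rfl⟩
    have e : {g : {g : G F m // Fpf g} // c g = ⟨cent g₀, g₀, hg₀, rfl⟩} ≃ {y : cent g₀ // y ≠ 1} :=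
      { toFun := fun g => ⟨⟨g.1.1, by
            have h1 : cent g.1.1 = cent g₀ := congrArg Subtype.val g.2
            have h2 := mem_cent_self h g.1.1
            rwa [h1] at h2⟩, fun hc => Fpf.ne_one h g.1.2 (congrArg Subtype.val hc)⟩
        invFun := fun y => ⟨⟨y.1.1, Fpf.of_mem_cent h hg₀ y.1.2 (fun hc => y.2 (Subtype.ext hc))⟩, by
            apply Subtype.ext
            exact Fpf.cent_eq h hg₀ y.1.2 (fun hc => y.2 (Subtype.ext hc))⟩
        left_inv := fun g => by
          apply Subtype.ext
          apply Subtype.ext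
          rfl
        right_inv := fun y => by
          apply Subtype.ext
          apply Subtype.ext
          rfl }
    rw [Nat.card_congr e]
    exact card_ne_one ()
  have hsig := Nat.card_congr (Equiv.sigmaFiberEquiv c).symm
  rw [Nat.card_sigma] at hsig
  rw [hsig]
  exact Finset.sum_congr rfl (fun A _ => hfib A)

end Cfsg.Agent.Lib.Suzuki.Tori2
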