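import Cfsg.Agent.Lib.Suzuki.Tori2
import Cfsg.Agent.Lib.Suzuki.Arith

/-! Classification of the tori of the Suzuki group. -/

set_option autoImplicit false
set_option linter.unusedSectionVars false
set_option linter.deprecated false
set_option linter.unusedSimpArgs false

namespace Cfsg.Agent.Lib.Suzuki.Tori3

open Cfsg.Agent.Lib.Suzuki.Basic Cfsg.Agent.Lib.Suzuki.Group Cfsg.Agent.Lib.Suzuki.Struct
  Cfsg.Agent.Lib.Suzuki.Order Cfsg.Agent.Lib.Suzuki.Zass Cfsg.Agent.Lib.Suzuki.Sub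
  Cfsg.Agent.Lib.Suzuki.Syl Cfsg.Agent.Lib.Suzuki.Gen Cfsg.Agent.Lib.Suzuki.Fix
  Cfsg.Agent.Lib.Suzuki.Cent Cfsg.Agent.Lib.Suzuki.Types Cfsg.Agent.Lib.Suzuki.Tori1
  Cfsg.Agent.Lib.Suzuki.Tori2
open scoped Pointwise BigOperators

/-- In a cyclic group, an element of prime order `p` generates everything killed by `p`. -/
theorem mem_zpowers_of_cyclic {C : Type*} [Group C] [Finite C] [IsCyclic C] {p : ℕ} (hp : p.Prime)
    {u v : C} (hu : orderOf u = p) (hv : v ^ p = 1) : v ∈ Subgroup.zpowers u := by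
  classical
  have : Fintype C := Fintype.ofFinite _
  have h0 : 0 < p := hp.pos
  have h1 := IsCyclic.card_pow_eq_one_le (α := C) h0
  have hsub : ((Subgroup.zpowers u : Subgroup C) : Set C).toFinset ⊆
      Finset.univ.filter (fun x : C => x ^ p = 1) := by
    intro x hx
    simp only [Set.mem_toFinset, SetLike.mem_coe] at hx
    obtain ⟨k, rfl⟩ := hx
    simp only [Finset.mem_filter, Finset.mem_univ, true_and]
    rw [← zpow_natCast, ← zpow_mul, mul_comm, zpow_mul, zpow_natCast, ← hu, pow_orderOf_eq_one, one_zpow]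
  have hcard : ((Subgroup.zpowers u : Subgroup C) : Set C).toFinset.card = p := by
    rw [Set.toFinset_card, ← Nat.card_eq_fintype_card]
    exact (Nat.card_zpowers u).trans hu
  have heq := Finset.eq_of_subset_of_card_le hsub (by rw [hcard]; exact h1)
  have hvm : v ∈ Finset.univ.filter (fun x : C => x ^ p = 1) := by simp [hv]
  rw [← heq] at hvm
  simpa using hvm

variable {F : Type*} [Field F] [Fintype F] {m : ℕ} (h : Hyp F m)
include h

theorem fintype_card_F : Fintype.card F = 2 ^ (2 * m + 1) := h.hF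

/-- The order of a torus is odd. -/
theorem odd_card_tor (A : Tor F m) : Odd (Nat.card A.1) := by
  obtain ⟨g, hg, hA⟩ := A.2
  rw [hA]
  have h1 := card_cent_dvd h hg
  rw [h.hF] at h1
  exact (Arith.odd_sq_add_one m).of_dvd_nat h1

/-- Tori whose orders have a common prime factor are conjugate. -/
theorem tori_conj_of_prime (A B : Tor F m) {p : ℕ} (hp : p.Prime) (hA : p ∣ Nat.card A.1)
    (hB : p ∣ Nat.card B.1) : ∃ x : G F m, B = x • A := by
  have : Fact p.Prime := ⟨hp⟩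
  have : Finite (G F m) := finite_G
  obtain ⟨z₁, hz₁⟩ := exists_prime_orderOf_dvd_card' p hA
  obtain ⟨z₂, hz₂⟩ := exists_prime_orderOf_dvd_card' p hB
  have hz₁' : orderOf (z₁ : G F m) = p := by rwa [Subgroup.orderOf_coe]
  have hz₂' : orderOf (z₂ : G F m) = p := by rwa [Subgroup.orderOf_coe]
  have hp2 : p ≠ 2 := by
    rintro rfl
    have := odd_card_tor h A
    exact (Nat.not_even_iff_odd.mpr this) (even_iff_two_dvd.mpr hA)
  -- Sylow subgroups containing them
  have hz₁P : IsPGroup p (Subgroup.zpowers (z₁ : G F m)) := by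
    apply IsPGroup.of_card (n := 1)
    rw [Nat.card_zpowers, hz₁', pow_one]
  have hz₂P : IsPGroup p (Subgroup.zpowers (z₂ : G F m)) := by
    apply IsPGroup.of_card (n := 1)
    rw [Nat.card_zpowers, hz₂', pow_one]
  obtain ⟨P₁, hP₁⟩ := hz₁P.exists_le_sylow
  obtain ⟨P₂, hP₂⟩ := hz₂P.exists_le_sylow
  obtain ⟨x, hx⟩ := MulAction.exists_smul_eq (G F m) P₁ P₂
  have hxz : x * (z₁ : G F m) * x⁻¹ ∈ (P₂ : Subgroup (G F m)) := by
    rw [← hx, Sylow.coe_subgroup_smul]
    have : MulAut.conj x • (z₁ : G F m) ∈ MulAut.conj x • (P₁ : Subgroup (G F m)) :=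
      Subgroup.smul_mem_pointwise_smul _ _ _ (hP₁ (Subgroup.mem_zpowers _))
    simpa [MulAut.smul_def, MulAut.conj_apply] using this
  have hz2P : (z₂ : G F m) ∈ (P₂ : Subgroup (G F m)) := hP₂ (Subgroup.mem_zpowers _)
  have hcyc : IsCyclic (P₂ : Subgroup (G F m)) := sylow_cyclic h hp2 P₂
  have hord : orderOf (⟨x * (z₁ : G F m) * x⁻¹, hxz⟩ : (P₂ : Subgroup (G F m))) = p := by
    rw [← Subgroup.orderOf_coe]
    change orderOf (MulAut.conj x (z₁ : G F m)) = p
    rw [MulEquiv.orderOf_eq, hz₁']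
  have hv : (⟨(z₂ : G F m), hz2P⟩ : (P₂ : Subgroup (G F m))) ^ p = 1 := by
    apply Subtype.ext
    change (z₂ : G F m) ^ p = 1
    rw [← hz₂', pow_orderOf_eq_one]
  obtain ⟨k, hk⟩ := mem_zpowers_of_cyclic hp hord hv
  have hk' : (x * (z₁ : G F m) * x⁻¹) ^ k = (z₂ : G F m) := congrArg Subtype.val hk
  -- centralisers
  obtain ⟨g₁, hg₁, hA₁⟩ := A.2
  obtain ⟨g₂, hg₂, hB₂⟩ := B.2
  have hz₁ne : (z₁ : G F m) ≠ 1 := by
    intro hc
    rw [hc, orderOf_one] at hz₁'
    exact hp.one_lt.ne hz₁'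
  have hz₂ne : (z₂ : G F m) ≠ 1 := by
    intro hc
    rw [hc, orderOf_one] at hz₂'
    exact hp.one_lt.ne hz₂'
  have hz₁g : (z₁ : G F m) ∈ cent g₁ := hA₁ ▸ z₁.2
  have hz₂g : (z₂ : G F m) ∈ cent g₂ := hB₂ ▸ z₂.2
  have hA' : A.1 = cent (z₁ : G F m) := hA₁.trans (Fpf.cent_eq h hg₁ hz₁g hz₁ne).symm
  have hB' : B.1 = cent (z₂ : G F m) := hB₂.trans (Fpf.cent_eq h hg₂ hz₂g hz₂ne).symm
  have hFz₁ : Fpf (z₁ : G F m) := Fpf.of_mem_cent h hg₁ hz₁g hz₁ne
  have hFc : Fpf (x * (z₁ : G F m) * x⁻¹) := fpf_conj hFz₁ x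
  have hz₂c : (z₂ : G F m) ∈ cent (x * (z₁ : G F m) * x⁻¹) := by
    rw [← hk']
    exact Subgroup.zpow_mem _ (mem_cent_self h _) _
  have hfin : cent (z₂ : G F m) = cent (x * (z₁ : G F m) * x⁻¹) := Fpf.cent_eq h hFc hz₂c hz₂ne
  refine ⟨x, Subtype.ext ?_⟩
  rw [coe_smul, hB', hfin]
  exact (cent_conj x (z₁ : G F m)).symm.trans (congrArg (fun S => S.map (MulAut.conj x).toMonoidHom) hA'.symm)

/-- Non-conjugate tori have coprime orders. -/
theorem tori_coprime (A B : Tor F m) (hne : ¬ ∃ x : G F m, B = x • A) :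
    Nat.Coprime (Nat.card A.1) (Nat.card B.1) := by
  apply Nat.coprime_of_dvd
  intro p hp hA hB
  exact hne (tori_conj_of_prime h A B hp hA hB)

/-- The index `e`. -/
theorem normalizer_index (A : Tor F m) :
    ∃ e : ℕ, (e = 1 ∨ e = 2 ∨ e = 4) ∧
      Nat.card (Subgroup.normalizer ((A.1 : Subgroup (G F m)) : Set (G F m))) = Nat.card A.1 * e := by
  have : Finite (G F m) := finite_G
  obtain ⟨g, hg, hA⟩ := A.2
  have hle : A.1 ≤ Subgroup.normalizer ((A.1 : Subgroup (G F m)) : Set (G F m)) := Subgroup.le_normalizer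
  obtain ⟨e, he⟩ := Subgroup.card_dvd_of_le hle
  refine ⟨e, ?_, he⟩
  have h4 : Nat.card (Subgroup.normalizer ((A.1 : Subgroup (G F m)) : Set (G F m))) ≤ 4 * Nat.card A.1 := by
    rw [hA]
    exact card_normalizer_le h hg
  have hpos : 0 < Nat.card A.1 := Nat.card_pos
  have hNpos : 0 < Nat.card (Subgroup.normalizer ((A.1 : Subgroup (G F m)) : Set (G F m))) := Nat.card_pos
  have he4 : e ≤ 4 := by
    rw [he, mul_comm] at h4
    exact Nat.le_of_mul_le_mul_right h4 hpos
  have he0 : e ≠ 0 := by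
    rintro rfl
    rw [he] at hNpos
    simp at hNpos
  have he3 : e ≠ 3 := by
    rintro rfl
    have h3 : 3 ∣ Nat.card (G F m) := by
      calc 3 ∣ Nat.card (Subgroup.normalizer ((A.1 : Subgroup (G F m)) : Set (G F m))) := ⟨Nat.card A.1, by rw [he]; ring⟩
        _ ∣ Nat.card (G F m) := Subgroup.card_subgroup_dvd_card _
    rw [card_G h, h.hF] at h3
    exact Arith.three_not_dvd_card m h3
  omega

/-- Main classification of the tori. -/
theorem tori_main : ∃ A₁ A₂ : Tor F m, (∀ A : Tor F m, (∃ x : G F m, A = x • A₁) ∨ (∃ x : G F m, A = x • A₂)) ∧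
    Nat.card (Subgroup.normalizer ((A₁.1 : Subgroup (G F m)) : Set (G F m))) = 4 * Nat.card A₁.1 ∧
    Nat.card (Subgroup.normalizer ((A₂.1 : Subgroup (G F m)) : Set (G F m))) = 4 * Nat.card A₂.1 ∧
    Nat.card A₁.1 = 2 ^ (2 * m + 1) + 2 ^ (m + 1) + 1 ∧ Nat.card A₂.1 = 2 ^ (2 * m + 1) - 2 ^ (m + 1) + 1 := by
  classical
  have : Finite (G F m) := finite_G
  have : Fintype (G F m) := Fintype.ofFinite _
  have : Fintype (Tor F m) := Fintype.ofFinite _
  have : Fintype (MulAction.orbitRel.Quotient (G F m) (Tor F m)) := Fintype.ofFinite _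
  let Ω := MulAction.orbitRel.Quotient (G F m) (Tor F m)
  choose e he1 he2 using fun A : Tor F m => normalizer_index h A
  let a : Ω → ℕ := fun ω => Nat.card (Quotient.out ω : Tor F m).1
  let e' : Ω → ℕ := fun ω => e (Quotient.out ω)
  let o : Ω → ℕ := fun ω => Nat.card (MulAction.orbit (G F m) (Quotient.out ω : Tor F m))
  have hcardG := card_G h
  have hF := h.hF
  obtain ⟨ω₁, ω₂, hne, hall, he₁, he₂, ha₁, ha₂⟩ := Arith.arith (Ω := Ω) h.hm a e' o (Fintype.card F) hF
    (fun ω => by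
      obtain ⟨g, hg, hA⟩ := (Quotient.out ω : Tor F m).2
      change Nat.card (Quotient.out ω : Tor F m).1 ∣ _
      rw [hA]
      exact card_cent_dvd h hg)
    (fun ω => by
      obtain ⟨g, hg, hA⟩ := (Quotient.out ω : Tor F m).2
      change 1 < Nat.card (Quotient.out ω : Tor F m).1
      rw [hA]
      apply Finite.one_lt_card_iff_nontrivial.mpr
      exact ⟨⟨⟨g, mem_cent_self h g⟩, 1, fun hc => Fpf.ne_one h hg (congrArg Subtype.val hc)⟩⟩)
    (fun ω => he1 _)
    (fun ω => by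
      change Nat.card (MulAction.orbit (G F m) (Quotient.out ω : Tor F m)) *
        (Nat.card (Quotient.out ω : Tor F m).1 * e (Quotient.out ω)) = _
      rw [← he2, ← stabilizer_eq, ← hcardG]
      have := MulAction.card_orbit_mul_card_stabilizer_eq_card_group (G F m) (Quotient.out ω : Tor F m)
      rw [← Nat.card_eq_fintype_card, ← Nat.card_eq_fintype_card, ← Nat.card_eq_fintype_card] at this
      exact this)
    (Nat.card {g : G F m // Fpf g})
    (by
      rw [fpf_eq_sum h, sum_orbits (fun A : Tor F m => Nat.card A.1 - 1)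
        (fun x A => by rw [card_smul])]
      simp only [smul_eq_mul, o, a]
      rfl)
    (by
      have := two_fpf h
      rwa [hcardG] at this)
    (fun ω ω' hne => by
      apply tori_coprime h
      rintro ⟨x, hx⟩
      apply hne
      rw [← Quotient.out_eq ω, ← Quotient.out_eq ω']
      apply Quotient.sound
      exact (MulAction.orbitRel (G F m) (Tor F m)).symm (MulAction.orbitRel_apply.mpr ⟨x, hx.symm⟩))
  refine ⟨Quotient.out ω₁, Quotient.out ω₂, ?_, ?_, ?_, ?_, ?_⟩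
  · intro A
    have hA : (⟦A⟧ : Ω) = ω₁ ∨ (⟦A⟧ : Ω) = ω₂ := hall _
    rcases hA with hA | hA
    · left
      have : (MulAction.orbitRel (G F m) (Tor F m)) A (Quotient.out ω₁) := by
        apply Quotient.exact
        rw [Quotient.out_eq, hA]
      obtain ⟨x, hx⟩ := MulAction.orbitRel_apply.mp this
      exact ⟨x, hx.symm⟩
    · right
      have : (MulAction.orbitRel (G F m) (Tor F m)) A (Quotient.out ω₂) := by
        apply Quotient.exact
        rw [Quotient.out_eq, hA]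
      obtain ⟨x, hx⟩ := MulAction.orbitRel_apply.mp this
      exact ⟨x, hx.symm⟩
  · rw [he2]
    change _ * e' ω₁ = _
    rw [he₁, mul_comm]
  · rw [he2]
    change _ * e' ω₂ = _
    rw [he₂, mul_comm]
  · have : a ω₁ = _ := ha₁
    rw [hF] at this
    exact this
  · have : a ω₂ = _ := ha₂
    rw [hF] at this
    exact this

theorem tor_cyclic (A : Tor F m) : IsCyclic A.1 := by
  obtain ⟨g, hg, hA⟩ := A.2
  have := Fpf.cent_cyclic h hg (Fpf.ne_one h hg)
  rw [hA]
  exact this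

theorem tor_cent (A : Tor F m) {u : G F m} (hu : u ∈ A.1) (hu1 : u ≠ 1) :
    Subgroup.centralizer ({u} : Set (G F m)) = A.1 := by
  obtain ⟨g, hg, hA⟩ := A.2
  rw [hA] at hu ⊢
  exact Fpf.cent_eq h hg hu hu1

theorem tor_fpf (A : Tor F m) {u : G F m} (hu : u ∈ A.1) (hu1 : u ≠ 1) : Fpf u := by
  obtain ⟨g, hg, hA⟩ := A.2
  rw [hA] at hu
  exact Fpf.of_mem_cent h hg hu hu1

end Cfsg.Agent.Lib.Suzuki.Tori3
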